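import Cfsg.Agent.Lib.SpThreeCent.SixEnd.Code
import Cfsg.Agent.Lib.SpThreeCent.SixEnd.Stab
import Cfsg.Agent.Lib.FFourLocal.SixData
import Cfsg.Agent.Lib.FFourLocal.CTInterface

/-!
# Searching the model

A statement about all elements of the model which intertwine given pairs of elements is decided by choosing the
images of the six basis vectors one after the other.
-/

set_option autoImplicit false
set_option maxRecDepth 100000

namespace Cfsg.Agent.FFourLocal.Glue3

open Cfsg.Agent.SpThreeCent.SixEnd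

/-- The elements of the model keep the form. -/
theorem bil_apply (X : S) (x y : Fin 64) :
    bil ((X : Equiv.Perm (Fin 64)) x) ((X : Equiv.Perm (Fin 64)) y) = bil x y := by
  rcases eq_or_ne x 0 with rfl | hx
  · rw [S_zero, (by decide +kernel : ∀ z : Fin 64, bil 0 z = false),
      (by decide +kernel : ∀ z : Fin 64, bil 0 z = false)]
  have h0 : X * tvS x = tvS ((X : Equiv.Perm (Fin 64)) x) * X :=
    mul_inv_eq_iff_eq_mul.1 (tvS_conj X x)
  have h := DFunLike.congr_fun (congrArg Subtype.val h0) y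
  have hne : ∀ u v : Fin 64, u ≠ 0 → vadd v u ≠ v := by decide +kernel
  have hXx : (X : Equiv.Perm (Fin 64)) x ≠ 0 := fun e =>
    hx ((X : Equiv.Perm (Fin 64)).injective (e.trans (S_zero X).symm))
  change (X : Equiv.Perm (Fin 64)) (tvFun x y) = tvFun _ _ at h
  unfold tvFun at h
  cases hb : bil x y <;>
    cases hb' : bil ((X : Equiv.Perm (Fin 64)) x) ((X : Equiv.Perm (Fin 64)) y) <;>
    simp only [hb, hb', if_true, Bool.false_eq_true, if_false] at h ⊢
  · exact absurd h.symm (hne _ _ hXx)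
  · rw [S_linear] at h
    exact absurd h (hne _ _ hXx)

theorem bilN_bil : ∀ x y : Fin 64, bilN x.val y.val = if bil x y then 1 else 0 := by decide +kernel

/-- The images of the basis keep the form. -/
theorem bilN_code (X : S) (i j : Fin 6) :
    bilN (im (codeS X) i.val) (im (codeS X) j.val) = bilN (2 ^ i.val) (2 ^ j.val) := by
  have him : ∀ k : Fin 6, im (codeS X) k.val =
      ((X : Equiv.Perm (Fin 64)) ⟨2 ^ k.val % 64, Nat.mod_lt _ (by norm_num)⟩).val := by
    obtain ⟨h0, h1, h2, h3, h4, h5⟩ := im_code X.1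
    intro k
    fin_cases k
    exacts [h0, h1, h2, h3, h4, h5]
  have hmod : ∀ k : Fin 6, 2 ^ k.val % 64 = 2 ^ k.val := by decide
  conv_rhs => rw [← hmod i, ← hmod j]
  rw [him, him, bilN_bil, bilN_bil ⟨2 ^ i.val % 64, Nat.mod_lt _ (by norm_num)⟩
    ⟨2 ^ j.val % 64, Nat.mod_lt _ (by norm_num)⟩, bil_apply]

/-- The part of a number given by a mask. -/
def part (m c : ℕ) : ℕ :=
  pack6 (bitN m 0 * im c 0) (bitN m 1 * im c 1) (bitN m 2 * im c 2) (bitN m 3 * im c 3)
    (bitN m 4 * im c 4) (bitN m 5 * im c 5)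

/-- The intertwining equation at a position, if all images it uses are chosen and the last one is new. -/
def eqOk (m k : ℕ) (p : ℕ × ℕ) (c : ℕ) (j : ℕ) : Bool :=
  if (bitN m j == 1) && ((im p.1 j &&& (63 - m)) == 0) && ((j == k) || (bitN (im p.1 j) k == 1)) then
    ap c (im p.1 j) == ap p.2 (im c j)
  else true

/-- The condition to square to one at a position. -/
def invOk (m : ℕ) (c j : ℕ) : Bool :=
  if (bitN m j == 1) && ((im c j &&& (63 - m)) == 0) then ap c (im c j) == 2 ^ j else true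

/-- A candidate survives. -/
def stepOk (sq : Bool) (ds : List (ℕ × ℕ)) (m k c : ℕ) : Bool :=
  ((List.range 6).all fun j => (bitN m j == 0) || (bilN (im c k) (im c j) == bilN (2 ^ k) (2 ^ j))) &&
    (ds.all fun p => (List.range 6).all fun j => eqOk m k p c j) &&
      (!sq || (List.range 6).all fun j => invOk m c j)

/-- The values of the next image: one value if an equation gives it, all otherwise. -/
def cands (ds : List (ℕ × ℕ)) (m k c : ℕ) : List ℕ :=
  match ds.findSome? fun p => (List.range 6).findSome? fun j =>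
      if (bitN m j == 1) && (im p.1 j == 2 ^ k) then some (ap p.2 (im c j)) else none with
  | some v => [v]
  | none => (List.range 63).map (· + 1)

/-- The search. -/
def srch (sq : Bool) (ds : List (ℕ × ℕ)) (P : ℕ → Bool) : List ℕ → ℕ → ℕ → Bool
  | [], c, _ => P c
  | k :: ks, c, m => (cands ds m k c).all fun v =>
      !(stepOk sq ds (m ||| 2 ^ k) k (c + v * 64 ^ k)) ||
        srch sq ds P ks (c + v * 64 ^ k) (m ||| 2 ^ k)

/-- Every position once. -/
def ordOk : List ℕ → ℕ → Bool
  | [], m => m == 63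
  | k :: ks, m => decide (k < 6) && (bitN m k == 0) && ordOk ks (m ||| 2 ^ k)

theorem mask_facts : ∀ (k : Fin 6) (i : Fin 6) (m : Fin 64), bitN m.val k.val = 0 →
    (m.val ||| 2 ^ k.val) < 64 ∧
      bitN (m.val ||| 2 ^ k.val) i.val = if i = k then 1 else bitN m.val i.val := by
  decide +kernel

theorem part_step (k : Fin 6) (m : Fin 64) (h : bitN m.val k.val = 0) (c : ℕ) :
    part (m.val ||| 2 ^ k.val) c = part m.val c + im c k.val * 64 ^ k.val := by
  have e : ∀ i : Fin 6, bitN (m.val ||| 2 ^ k.val) i.val = if i = k then 1 else bitN m.val i.val :=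
    fun i => (mask_facts k i m h).2
  simp only [part, pack6]
  rw [e 0 |> fun h => (h : bitN (m.val ||| 2 ^ k.val) 0 = _),
    e 1 |> fun h => (h : bitN (m.val ||| 2 ^ k.val) 1 = _),
    e 2 |> fun h => (h : bitN (m.val ||| 2 ^ k.val) 2 = _),
    e 3 |> fun h => (h : bitN (m.val ||| 2 ^ k.val) 3 = _),
    e 4 |> fun h => (h : bitN (m.val ||| 2 ^ k.val) 4 = _),
    e 5 |> fun h => (h : bitN (m.val ||| 2 ^ k.val) 5 = _)]
  fin_cases k <;> simp at h <;> simp [h] <;> ring

theorem im_lt (c k : ℕ) : im c k < 64 := Nat.lt_succ_of_le Nat.and_le_right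

theorem im_part (m c : ℕ) (i : Fin 6) : im (part m c) i.val = bitN m i.val * im c i.val := by
  have hb : ∀ j, bitN m j * im c j < 64 := fun j => by
    rcases bitN_cases m j with h | h <;> rw [h] <;> simp [im_lt]
  obtain ⟨h0, h1, h2, h3, h4, h5⟩ := im_pack6 (hb 0) (hb 1) (hb 2) (hb 3) (hb 4) (hb 5)
  fin_cases i
  exacts [h0, h1, h2, h3, h4, h5]

theorem mask_sub : ∀ (y m : Fin 64) (i : Fin 6), y.val &&& (63 - m.val) = 0 → bitN y.val i.val = 1 →
    bitN m.val i.val = 1 := by decide +kernel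

theorem ap_part {m : Fin 64} {y : ℕ} (c : ℕ) (hy : y < 64) (h : y &&& (63 - m.val) = 0) :
    ap (part m.val c) y = ap c y := by
  have e : ∀ i : Fin 6, bitN y i.val * im (part m.val c) i.val = bitN y i.val * im c i.val := by
    intro i
    rcases bitN_cases y i.val with hi | hi
    · rw [hi, zero_mul, zero_mul]
    · rw [im_part, mask_sub ⟨y, hy⟩ m i h hi, one_mul]
  have e0 : bitN y 0 * im (part m.val c) 0 = bitN y 0 * im c 0 := e 0
  have e1 : bitN y 1 * im (part m.val c) 1 = bitN y 1 * im c 1 := e 1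
  have e2 : bitN y 2 * im (part m.val c) 2 = bitN y 2 * im c 2 := e 2
  have e3 : bitN y 3 * im (part m.val c) 3 = bitN y 3 * im c 3 := e 3
  have e4 : bitN y 4 * im (part m.val c) 4 = bitN y 4 * im c 4 := e 4
  have e5 : bitN y 5 * im (part m.val c) 5 = bitN y 5 * im c 5 := e 5
  simp only [ap, e0, e1, e2, e3, e4, e5]

/-- Intertwining two elements. -/
def Tw (X : S) (p : ℕ × ℕ) : Prop := mulC (codeS X) p.1 = mulC p.2 (codeS X)

theorem tw_of {X d e : S} (h : X * d = e * X) : Tw X (codeS d, codeS e) := by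
  rw [Tw, ← codeS_mul, ← codeS_mul, h]

theorem tw_comm {X d : S} (h : Commute X d) : Tw X (codeS d, codeS d) := tw_of h.eq

theorem ap_lt (c y : ℕ) : ap c y < 64 := by
  have h : ∀ b k, bitN b k * im c k < 2 ^ 6 := fun b k => by
    rcases bitN_cases b k with h | h <;> rw [h] <;> simp [im_lt]
  exact Nat.xor_lt_two_pow (Nat.xor_lt_two_pow (Nat.xor_lt_two_pow (Nat.xor_lt_two_pow
    (Nat.xor_lt_two_pow (h y 0) (h y 1)) (h y 2)) (h y 3)) (h y 4)) (h y 5)

theorem im_mulC (c d : ℕ) (i : Fin 6) : im (mulC c d) i.val = ap c (im d i.val) := by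
  obtain ⟨h0, h1, h2, h3, h4, h5⟩ := im_pack6 (ap_lt c (im d 0)) (ap_lt c (im d 1))
    (ap_lt c (im d 2)) (ap_lt c (im d 3)) (ap_lt c (im d 4)) (ap_lt c (im d 5))
  fin_cases i
  exacts [h0, h1, h2, h3, h4, h5]

theorem im_oneC : ∀ i : Fin 6, im oneC i.val = 2 ^ i.val := by decide +kernel

theorem pack_im {X : S} : part 63 (codeS X) = codeS X := by
  obtain ⟨h0, h1, h2, h3, h4, h5⟩ := im_code X.1
  rw [part, codeS, h0, h1, h2, h3, h4, h5]
  simp only [show bitN 63 0 = 1 from rfl, show bitN 63 1 = 1 from rfl, show bitN 63 2 = 1 from rfl,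
    show bitN 63 3 = 1 from rfl, show bitN 63 4 = 1 from rfl, show bitN 63 5 = 1 from rfl, one_mul]
  rfl

theorem part_zero (c : ℕ) : part 0 c = 0 := by
  simp [part, pack6, bitN]

theorem im_ne (X : S) (k : Fin 6) : im (codeS X) k.val ≠ 0 := by
  obtain ⟨h0, h1, h2, h3, h4, h5⟩ := im_code X.1
  have hne : ∀ v : Fin 64, v ≠ 0 → ((X : Equiv.Perm (Fin 64)) v).val ≠ 0 := fun v hv e =>
    hv ((X : Equiv.Perm (Fin 64)).injective ((Fin.ext e : _ = (0 : Fin 64)).trans (S_zero X).symm))
  fin_cases k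
  · rw [show im (codeS X) 0 = _ from h0]; exact hne 1 (by decide)
  · rw [show im (codeS X) 1 = _ from h1]; exact hne 2 (by decide)
  · rw [show im (codeS X) 2 = _ from h2]; exact hne 4 (by decide)
  · rw [show im (codeS X) 3 = _ from h3]; exact hne 8 (by decide)
  · rw [show im (codeS X) 4 = _ from h4]; exact hne 16 (by decide)
  · rw [show im (codeS X) 5 = _ from h5]; exact hne 32 (by decide)

theorem stepOk_true (X : S) (sq : Bool) (ds : List (ℕ × ℕ)) (hds : ∀ p ∈ ds, Tw X p)
    (hsq : sq = true → X * X = 1) (m : Fin 64) (k : Fin 6) (hk : bitN m.val k.val = 1) :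
    stepOk sq ds m.val k.val (part m.val (codeS X)) = true := by
  set c := codeS X with hc
  have hap : ∀ j : Fin 6, bitN m.val j.val = 1 → im (part m.val c) j.val = im c j.val := fun j hj => by
    rw [im_part, hj, one_mul]
  simp only [stepOk, Bool.and_eq_true, List.all_eq_true, List.mem_range, Bool.or_eq_true,
    Bool.not_eq_true', beq_iff_eq]
  refine ⟨⟨fun j hj => ?_, fun p hp j hj => ?_⟩, ?_⟩
  · rcases bitN_cases m.val j with h | h
    · exact Or.inl h
    · right
      rw [hap k hk, (hap ⟨j, hj⟩ h : im (part m.val c) j = _)]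
      exact bilN_code X k ⟨j, hj⟩
  · unfold eqOk
    split_ifs with h
    · simp only [Bool.and_eq_true, beq_iff_eq] at h
      rw [ap_part _ (im_lt _ _) h.1.2, (hap ⟨j, hj⟩ h.1.1 : im (part m.val c) j = _), beq_iff_eq]
      have e := congrArg (fun z => im z j) (hds p hp)
      rwa [(im_mulC _ _ ⟨j, hj⟩ : im (mulC c p.1) j = _),
        (im_mulC _ _ ⟨j, hj⟩ : im (mulC p.2 c) j = _)] at e
    · rfl
  · cases hs : sq
    · exact Or.inl rfl
    · right
      intro j hj
      unfold invOk
      split_ifs with h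
      · simp only [Bool.and_eq_true, beq_iff_eq] at h
        rw [(hap ⟨j, hj⟩ h.1 : im (part m.val c) j = _)] at h ⊢
        rw [ap_part _ (im_lt _ _) h.2, beq_iff_eq]
        have e : mulC c c = oneC := by rw [hc, ← codeS_mul, hsq hs, codeS_one]
        rw [← (im_mulC _ _ ⟨j, hj⟩ : im (mulC c c) j = _), e]
        exact im_oneC ⟨j, hj⟩
      · rfl

theorem ap_two_pow : ∀ k : Fin 6, ∀ i : Fin 6, bitN (2 ^ k.val) i.val = if i = k then 1 else 0 := by
  decide +kernel

theorem im_mem_cands (X : S) (ds : List (ℕ × ℕ)) (hds : ∀ p ∈ ds, Tw X p) (m : Fin 64) (k : Fin 6) :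
    im (codeS X) k.val ∈ cands ds m.val k.val (part m.val (codeS X)) := by
  have hne := im_ne X k
  have hl := im_lt (codeS X) k.val
  unfold cands
  split
  next v hv =>
    obtain ⟨p, hp, hj⟩ := List.exists_of_findSome?_eq_some hv
    obtain ⟨j, hj6, hj⟩ := List.exists_of_findSome?_eq_some hj
    rw [List.mem_range] at hj6
    split_ifs at hj with h
    simp only [Bool.and_eq_true, beq_iff_eq] at h
    rw [Option.some.injEq] at hj
    rw [(im_part m.val (codeS X) ⟨j, hj6⟩ : im (part m.val (codeS X)) j = _)] at hj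
    simp only [h.1, one_mul] at hj
    have e := congrArg (fun z => im z j) (hds p hp)
    rw [List.mem_singleton, ← hj, ← (im_mulC p.2 (codeS X) ⟨j, hj6⟩ : im (mulC p.2 (codeS X)) j = _)]
    refine Eq.trans ?_ e
    rw [(im_mulC (codeS X) p.1 ⟨j, hj6⟩ : im (mulC (codeS X) p.1) j = _), h.2]
    have e0 := ap_two_pow k 0
    have e1 := ap_two_pow k 1
    have e2 := ap_two_pow k 2
    have e3 := ap_two_pow k 3
    have e4 := ap_two_pow k 4
    have e5 := ap_two_pow k 5
    fin_cases k <;> simp_all [ap, bitN]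
  next =>
    exact List.mem_map.2 ⟨im (codeS X) k.val - 1, List.mem_range.2 (by omega), by omega⟩

theorem srch_sound_aux (X : S) (sq : Bool) (ds : List (ℕ × ℕ)) (P : ℕ → Bool)
    (hds : ∀ p ∈ ds, Tw X p) (hsq : sq = true → X * X = 1) :
    ∀ (ord : List ℕ) (m : Fin 64), ordOk ord m.val = true →
      srch sq ds P ord (part m.val (codeS X)) m.val = true → P (codeS X) = true := by
  intro ord
  induction ord with
  | nil =>
    intro m ho h
    rw [ordOk, beq_iff_eq] at ho
    rwa [srch, ho, pack_im] at h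
  | cons k ks ih =>
    intro m ho h
    simp only [ordOk, Bool.and_eq_true, decide_eq_true_eq, beq_iff_eq] at ho
    obtain ⟨⟨hk, hkm⟩, ho⟩ := ho
    obtain ⟨hlt, hbit⟩ := mask_facts ⟨k, hk⟩ ⟨k, hk⟩ m hkm
    simp only [srch, List.all_eq_true, Bool.or_eq_true, Bool.not_eq_true'] at h
    have h' := h (im (codeS X) k) (im_mem_cands X ds hds m ⟨k, hk⟩)
    rw [← part_step ⟨k, hk⟩ m hkm] at h'
    rw [if_pos rfl] at hbit
    rcases h' with h' | h'
    · rw [stepOk_true X sq ds hds hsq ⟨_, hlt⟩ ⟨k, hk⟩ hbit] at h'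
      exact absurd h' (by decide)
    · exact ih ⟨_, hlt⟩ ho h'

/-- The search proves the statement. -/
theorem srch_sound {sq : Bool} {ds : List (ℕ × ℕ)} {P : ℕ → Bool} {ord : List ℕ}
    (h : (ordOk ord 0 && srch sq ds P ord 0 0) = true) (X : S) (hds : ∀ p ∈ ds, Tw X p)
    (hsq : sq = true → X * X = 1) : P (codeS X) = true := by
  rw [Bool.and_eq_true] at h
  exact srch_sound_aux X sq ds P hds hsq ord 0 h.1 (by rw [show ((0 : Fin 64) : ℕ) = 0 from rfl, part_zero]; exact h.2)

end Cfsg.Agent.FFourLocal.Glue3
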