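import Cfsg.Agent.Lib.FFourLocal.Glue3.FinA

/-!
# The two coordinate systems and their transports
-/

set_option autoImplicit false
set_option maxRecDepth 100000

namespace Cfsg.Agent.FFourLocal.Glue3

open Subgroup Cfsg.Agent.SpThreeCent.SixEnd

universe u

variable {G : Type u} [Group G]

/-- The model has no centre. -/
theorem center_one {X : S} (h : ∀ Y : S, Commute X Y) : X = 1 := by
  refine Subtype.ext (Equiv.ext fun v => ?_)
  rcases eq_or_ne v 0 with rfl | hv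
  · rw [S_zero]; rfl
  · exact fix_of_comm hv (h (tvS v)).eq

/-- `C(s) = ⟨s⟩ × Ψ(S)`. -/
structure Cent3 (s : G) (Ψ : S →* G) : Prop where
  inj : Function.Injective Ψ
  cube : s ^ 3 = 1
  ne : s ≠ 1
  comm : ∀ X, Commute s (Ψ X)
  cent : ∀ c, Commute c s → ∃ i : ℤ, ∃ X : S, c = s ^ i * Ψ X

namespace Cent3

variable {s : G} {Ψ : S →* G}

theorem meet (h : Cent3 s Ψ) {i : ℤ} {X : S} (e : s ^ i = Ψ X) : X = 1 := by
  refine center_one fun Y => h.inj ?_
  rw [map_mul, map_mul, ← e]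
  exact ((h.comm Y).zpow_left i).eq

theorem unique (h : Cent3 s Ψ) {i j : ℤ} {X Y : S} (e : s ^ i * Ψ X = s ^ j * Ψ Y) :
    X = Y ∧ s ^ i = s ^ j := by
  have e' : s ^ (i - j) = Ψ (Y * X⁻¹) := by
    rw [map_mul, map_inv, zpow_sub, ((Commute.zpow_zpow_self s i j).inv_right).eq, inv_mul_eq_iff_eq_mul, ← mul_assoc, ← e,
      mul_inv_cancel_right]
  have h1 := h.meet e'
  refine ⟨(mul_inv_eq_one.1 h1).symm, ?_⟩
  rw [h1, map_one, zpow_sub, mul_inv_eq_one] at e'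
  exact e'

theorem eq_image (h : Cent3 s Ψ) {i : ℤ} {X Y : S} (e : s ^ i * Ψ X = Ψ Y) : X = Y ∧ s ^ i = 1 := by
  have := h.unique (i := i) (j := 0) (X := X) (Y := Y) (by rw [zpow_zero, one_mul]; exact e)
  rwa [zpow_zero] at this

theorem commute_iff (h : Cent3 s Ψ) {X Y : S} : Commute (Ψ X) (Ψ Y) ↔ Commute X Y :=
  ⟨fun e => h.inj (by rw [map_mul, map_mul]; exact e.eq), fun e => e.map Ψ⟩

theorem commute_mul_iff (h : Cent3 s Ψ) {i : ℤ} {X Y : S} :
    Commute (s ^ i * Ψ X) (Ψ Y) ↔ Commute X Y := by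
  constructor
  · intro e
    exact h.commute_iff.1 (by
      simpa using ((((h.comm Y).zpow_left i).inv_left).mul_left e))
  · exact fun e => ((h.comm Y).zpow_left i).mul_left (e.map Ψ)

theorem pow_pow_mul (h : Cent3 s Ψ) (i : ℤ) (X : S) (n : ℕ) :
    (s ^ i * Ψ X) ^ n = s ^ (i * n) * Ψ (X ^ n) := by
  rw [((h.comm X).zpow_left i).mul_pow, map_pow, zpow_mul, zpow_natCast]

/-- An element of order prime to three commuting with `s` lies in the image. -/
theorem prime_to (h : Cent3 s Ψ) {c : G} (hc : Commute c s) {n : ℕ} (hn : ¬ 3 ∣ n) (e : c ^ n = 1) :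
    ∃ X : S, c = Ψ X ∧ X ^ n = 1 := by
  obtain ⟨i, X, rfl⟩ := h.cent c hc
  rw [h.pow_pow_mul] at e
  obtain ⟨hX, hs⟩ := h.eq_image (i := i * n) (X := X ^ n) (Y := (1 : S)) (e.trans (map_one Ψ).symm)
  have hi : s ^ i = 1 := by
    have h3 : (s ^ i) ^ 3 = 1 := by rw [← zpow_natCast, ← zpow_mul, mul_comm, zpow_mul, zpow_natCast, h.cube, one_zpow]
    have hn' : (s ^ i) ^ n = 1 := by rw [← zpow_natCast, ← zpow_mul]; exact hs
    have := pow_gcd_eq_one.2 ⟨h3, hn'⟩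
    rwa [(Nat.prime_three.coprime_iff_not_dvd.2 hn).gcd_eq_one, pow_one] at this
  exact ⟨X, by rw [hi, one_mul], hX⟩

/-- An involution commuting with `s` lies in the image. -/
theorem invol (h : Cent3 s Ψ) {c : G} (hc : Commute c s) (e : c * c = 1) :
    ∃ X : S, c = Ψ X ∧ X * X = 1 := by
  obtain ⟨X, hX, h2⟩ := h.prime_to hc (n := 2) (by decide) (by rw [pow_two]; exact e)
  exact ⟨X, hX, by rw [← pow_two]; exact h2⟩

/-- Transport by a conjugation. -/
theorem conj (h : Cent3 s Ψ) (g : G) :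
    Cent3 (g * s * g⁻¹) ((MulAut.conj g).toMonoidHom.comp Ψ) where
  inj := (MulAut.conj g).injective.comp h.inj
  cube := by rw [conj_pow, h.cube, mul_one, mul_inv_cancel]
  ne := fun e => h.ne (by simpa using e)
  comm X := (h.comm X).map (MulAut.conj g).toMonoidHom
  cent c hc := by
    obtain ⟨i, X, e⟩ := h.cent (g⁻¹ * c * g) (by
      have := hc.map (MulAut.conj g⁻¹).toMonoidHom
      simpa [mul_assoc] using this)
    refine ⟨i, X, ?_⟩
    simp only [MonoidHom.comp_apply, MulEquiv.coe_toMonoidHom, MulAut.conj_apply]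
    rw [conj_zpow, conj_mul, ← e]
    group

/-- An inner change of coordinates. -/
theorem inn (h : Cent3 s Ψ) (e : S) : Cent3 s (Ψ.comp (MulAut.conj e).toMonoidHom) where
  inj := h.inj.comp (MulAut.conj e).injective
  cube := h.cube
  ne := h.ne
  comm _ := h.comm _
  cent c hc := by
    obtain ⟨i, X, hX⟩ := h.cent c hc
    exact ⟨i, (MulAut.conj e).symm X, by rw [MonoidHom.comp_apply, MulEquiv.coe_toMonoidHom, MulEquiv.apply_symm_apply, hX]⟩

end Cent3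

/-- The three conjugates of an involution under `e` form a four-group with one, all fixed by `t`, `e₁`, `e₂`. -/
def IsW (t e1 e2 e r : G) : Prop :=
  r * r = 1 ∧ Commute r t ∧ Commute r e1 ∧ Commute r e2 ∧ Commute r (e * r * e⁻¹) ∧
    r * (e * r * e⁻¹) * (e ^ 2 * r * (e ^ 2)⁻¹) = 1

namespace IsW

variable {t e1 e2 e r : G}

theorem swap (h : IsW t e1 e2 e r) : IsW t e2 e1 e r :=
  ⟨h.1, h.2.1, h.2.2.2.1, h.2.2.1, h.2.2.2.2⟩

theorem conj (h : IsW t e1 e2 e r) (p : G) :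
    IsW (p * t * p⁻¹) (p * e1 * p⁻¹) (p * e2 * p⁻¹) (p * e * p⁻¹) (p * r * p⁻¹) := by
  obtain ⟨h0, h1, h2, h3, h4, h5⟩ := h
  have hm := fun {x z : G} (hc : Commute x z) => hc.map (MulAut.conj p).toMonoidHom
  refine ⟨by rw [conj_mul, h0, mul_one, mul_inv_cancel], hm h1, hm h2, hm h3, ?_, ?_⟩
  · have := hm h4
    simp only [MulEquiv.coe_toMonoidHom, MulAut.conj_apply] at this
    rwa [show p * e * p⁻¹ * (p * r * p⁻¹) * (p * e * p⁻¹)⁻¹ = p * (e * r * e⁻¹) * p⁻¹ by group]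
  · calc _ = p * (r * (e * r * e⁻¹) * (e ^ 2 * r * (e ^ 2)⁻¹)) * p⁻¹ := by
          rw [conj_pow]; group
      _ = 1 := by rw [h5, mul_one, mul_inv_cancel]

/-- Stable under `e`. -/
theorem conj_self (h : IsW t e1 e2 e r) (ht : Commute e t) (h1 : Commute e e1) (h2 : Commute e e2) :
    IsW t e1 e2 e (e * r * e⁻¹) := by
  have := h.conj e
  rwa [ht.eq, mul_inv_cancel_right, h1.eq, mul_inv_cancel_right, h2.eq, mul_inv_cancel_right,
    mul_inv_cancel_right] at this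

/-- An involution fixing the data and mapping the set into a group of exponent two fixes its members. -/
theorem fixed (h : IsW t e1 e2 e r) {c : G} (hc : c * c = 1) (hce : Commute c e) (he : e ^ 3 = 1)
    (hmem : c * r * c⁻¹ = 1 ∨ c * r * c⁻¹ = r ∨ c * r * c⁻¹ = e * r * e⁻¹ ∨
      c * r * c⁻¹ = e ^ 2 * r * (e ^ 2)⁻¹) : Commute c r := by
  have hci : c⁻¹ = c := inv_eq_of_mul_eq_one_left hc
  have key : ∀ k : ℕ, c * r * c⁻¹ = e ^ k * r * (e ^ k)⁻¹ → r = e ^ (k + k) * r * (e ^ (k + k))⁻¹ := by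
    intro k hk
    calc r = c * (c * r * c⁻¹) * c⁻¹ := by rw [hci]; simp [← mul_assoc, hc, mul_assoc r]
      _ = c * (e ^ k * r * (e ^ k)⁻¹) * c⁻¹ := by rw [hk]
      _ = e ^ k * (c * r * c⁻¹) * (e ^ k)⁻¹ := by
        rw [show c * (e ^ k * r * (e ^ k)⁻¹) * c⁻¹ = (c * e ^ k) * r * ((c * e ^ k))⁻¹ by group,
          (hce.pow_right k).eq]
        group
      _ = _ := by rw [hk, pow_add]; group
  rcases hmem with h' | h' | h' | h'
  · have : r = 1 := conj_eq_one_iff.1 h'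
    rw [this]; exact Commute.one_right c
  · exact mul_inv_eq_iff_eq_mul.1 h'
  · have h2 := key 1 (by rw [pow_one]; exact h')
    have e2i : e ^ (1 + 1) = e⁻¹ := eq_inv_of_mul_eq_one_left (by rw [← pow_succ]; exact he)
    rw [e2i, inv_inv] at h2
    have h3 : e * r * e⁻¹ = r := by
      conv_lhs => rw [h2]
      group
    rw [h3] at h'
    exact mul_inv_eq_iff_eq_mul.1 h'
  · have h2 := key 2 h'
    rw [show 2 + 2 = 3 + 1 from rfl, pow_add, he, one_mul, pow_one] at h2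
    rw [show e ^ 2 * r * (e ^ 2)⁻¹ = e * (e * r * e⁻¹) * e⁻¹ by rw [pow_two]; group, ← h2, ← h2] at h'
    exact mul_inv_eq_iff_eq_mul.1 h'

end IsW

/-- The normalised pair of coordinate systems. -/
structure Fr (a b y w g : G) (φ ψ : S →* G) : Prop where
  hA : Cent3 a φ
  hB : Cent3 b ψ
  phi_y : φ (px 0) = y
  phi_b : φ pB = b
  phi_w : φ pY = w
  psi_w : ψ (px 0) = w
  psi_a : ψ pB = a
  psi_y : ψ pY = y
  g_a : g * a * g⁻¹ = y
  g_b : g * b * g⁻¹ = w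
  g_y : g * y * g⁻¹ = a
  g_w : g * w * g⁻¹ = b
  tA : ∀ X, Commute (ψ sw) (φ X)
  tB : ∀ X, Commute (φ sw) (ψ X)
  phi_t0 : φ (tvS 1) = ψ nu
  psi_t0 : ψ (tvS 1) = φ nu

/-- Coordinates of `C(k)` with the other two plane elements, `t` and `a`. -/
structure Side (a t k p q : G) (Ψ : S →* G) : Prop where
  hC : Cent3 k Ψ
  m0 : Ψ (px 0) = a
  m1 : Ψ (px 1) = p
  m2 : Ψ (px 2)⁻¹ = q
  mt : Ψ (tvS 1) = t

namespace Side

variable {a t k p q : G} {Ψ : S →* G}

theorem W1L_facts : ∀ X ∈ W1L, X * X = 1 ∧ commC (codeS X) (codeS (tvS 1)) = true ∧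
    commC (codeS X) (codeS (px 2)⁻¹) = true ∧ commC (codeS X) (codeS (px 1 * X * (px 1)⁻¹)) = true ∧
    codeS (X * (px 1 * X * (px 1)⁻¹) * (px 1 ^ 2 * X * (px 1 ^ 2)⁻¹)) = oneC := by
  intro X hX
  have h : (codeS (X * X) == oneC) = true ∧ commC (codeS X) (codeS (tvS 1)) = true ∧
    commC (codeS X) (codeS (px 2)⁻¹) = true ∧ commC (codeS X) (codeS (px 1 * X * (px 1)⁻¹)) = true ∧
    codeS (X * (px 1 * X * (px 1)⁻¹) * (px 1 ^ 2 * X * (px 1 ^ 2)⁻¹)) = oneC :=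
    (show ∀ X ∈ W1L, (codeS (X * X) == oneC) = true ∧ commC (codeS X) (codeS (tvS 1)) = true ∧
      commC (codeS X) (codeS (px 2)⁻¹) = true ∧ commC (codeS X) (codeS (px 1 * X * (px 1)⁻¹)) = true ∧
      codeS (X * (px 1 * X * (px 1)⁻¹) * (px 1 ^ 2 * X * (px 1 ^ 2)⁻¹)) = oneC by decide +kernel) X hX
  exact ⟨eq_of_code codeS_one h.1, h.2⟩

theorem W2L_facts : ∀ X ∈ W2L, X * X = 1 ∧ commC (codeS X) (codeS (tvS 1)) = true ∧
    commC (codeS X) (codeS (px 1)) = true ∧ commC (codeS X) (codeS ((px 2)⁻¹ * X * (px 2)⁻¹⁻¹)) = true ∧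
    codeS (X * ((px 2)⁻¹ * X * (px 2)⁻¹⁻¹) * ((px 2)⁻¹ ^ 2 * X * ((px 2)⁻¹ ^ 2)⁻¹)) = oneC := by
  intro X hX
  have h : (codeS (X * X) == oneC) = true ∧ commC (codeS X) (codeS (tvS 1)) = true ∧
    commC (codeS X) (codeS (px 1)) = true ∧ commC (codeS X) (codeS ((px 2)⁻¹ * X * (px 2)⁻¹⁻¹)) = true ∧
    codeS (X * ((px 2)⁻¹ * X * (px 2)⁻¹⁻¹) * ((px 2)⁻¹ ^ 2 * X * ((px 2)⁻¹ ^ 2)⁻¹)) = oneC :=
    (show ∀ X ∈ W2L, (codeS (X * X) == oneC) = true ∧ commC (codeS X) (codeS (tvS 1)) = true ∧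
      commC (codeS X) (codeS (px 1)) = true ∧ commC (codeS X) (codeS ((px 2)⁻¹ * X * (px 2)⁻¹⁻¹)) = true ∧
      codeS (X * ((px 2)⁻¹ * X * (px 2)⁻¹⁻¹) * ((px 2)⁻¹ ^ 2 * X * ((px 2)⁻¹ ^ 2)⁻¹)) = oneC by decide +kernel) X hX
  exact ⟨eq_of_code codeS_one h.1, h.2⟩

theorem mem1 (h : Side a t k p q Ψ) {r : G} : IsW t k q p r ↔ ∃ X ∈ W1L, r = Ψ X := by
  constructor
  · rintro ⟨h0, h1, h2, h3, h4, h5⟩
    obtain ⟨X, rfl, hX⟩ := h.hC.invol h2 h0
    refine ⟨X, mem_W1L X hX (h.hC.commute_iff.1 (h.mt ▸ h1)) (h.hC.commute_iff.1 (h.m2 ▸ h3)) ⟨?_, ?_⟩, rfl⟩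
    · refine h.hC.commute_iff.1 ?_
      simpa only [map_mul, map_inv, h.m1] using h4
    · refine h.hC.inj ?_
      simpa only [map_mul, map_inv, map_pow, map_one, h.m1] using h5
  · rintro ⟨X, hX, rfl⟩
    obtain ⟨f0, f1, f2, f3, f4⟩ := W1L_facts X hX
    rw [commC_iff] at f1 f2 f3
    refine ⟨by rw [← map_mul, f0, map_one], h.mt ▸ f1.map Ψ, (h.hC.comm X).symm, h.m2 ▸ f2.map Ψ, ?_, ?_⟩
    · simpa only [map_mul, map_inv, h.m1] using f3.map Ψ
    · have := congrArg Ψ (codeS_injective (f4.trans codeS_one.symm))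
      simpa only [map_mul, map_inv, map_pow, map_one, h.m1] using this

theorem mem2 (h : Side a t k p q Ψ) {r : G} : IsW t k p q r ↔ ∃ X ∈ W2L, r = Ψ X := by
  constructor
  · rintro ⟨h0, h1, h2, h3, h4, h5⟩
    obtain ⟨X, rfl, hX⟩ := h.hC.invol h2 h0
    refine ⟨X, mem_W2L X hX (h.hC.commute_iff.1 (h.mt ▸ h1)) (h.hC.commute_iff.1 (h.m1 ▸ h3)) ⟨?_, ?_⟩, rfl⟩
    · refine h.hC.commute_iff.1 ?_
      simpa only [map_mul, map_inv Ψ (px 2)⁻¹, h.m2] using h4
    · refine h.hC.inj ?_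
      simpa only [map_mul, map_inv Ψ ((px 2)⁻¹ ^ 2), map_inv Ψ (px 2)⁻¹, map_pow, map_one, h.m2] using h5
  · rintro ⟨X, hX, rfl⟩
    obtain ⟨f0, f1, f2, f3, f4⟩ := W2L_facts X hX
    rw [commC_iff] at f1 f2 f3
    refine ⟨by rw [← map_mul, f0, map_one], h.mt ▸ f1.map Ψ, (h.hC.comm X).symm, h.m1 ▸ f2.map Ψ, ?_, ?_⟩
    · simpa only [map_mul, map_inv Ψ (px 2)⁻¹, h.m2] using f3.map Ψ
    · have := congrArg Ψ (codeS_injective (f4.trans codeS_one.symm))
      simpa only [map_mul, map_inv Ψ ((px 2)⁻¹ ^ 2), map_inv Ψ (px 2)⁻¹, map_pow, map_one, h.m2] using this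

theorem W12_comm_code : ∀ X ∈ W1L ++ W2L, ∀ Y ∈ W1L ++ W2L, commC (codeS X) (codeS Y) = true := by
  decide +kernel

/-- The two four-groups of a side commute elementwise. -/
theorem comm12 (h : Side a t k p q Ψ) {r r' : G} (hr : IsW t k q p r ∨ IsW t k p q r)
    (hr' : IsW t k q p r' ∨ IsW t k p q r') : Commute r r' := by
  have key : ∀ {r : G}, IsW t k q p r ∨ IsW t k p q r → ∃ X ∈ W1L ++ W2L, r = Ψ X := by
    rintro r (hr | hr)
    · obtain ⟨X, hX, e⟩ := h.mem1.1 hr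
      exact ⟨X, List.mem_append_left _ hX, e⟩
    · obtain ⟨X, hX, e⟩ := h.mem2.1 hr
      exact ⟨X, List.mem_append_right _ hX, e⟩
  obtain ⟨X, hX, rfl⟩ := key hr
  obtain ⟨Y, hY, rfl⟩ := key hr'
  exact ((commC_iff X Y).1 (W12_comm_code X hX Y hY)).map Ψ

end Side

namespace Fr

variable {a b y w g : G} {φ ψ : S →* G}

theorem symm (F : Fr a b y w g φ ψ) : Fr b a w y g ψ φ :=
  ⟨F.hB, F.hA, F.psi_w, F.psi_a, F.psi_y, F.phi_y, F.phi_b, F.phi_w, F.g_b, F.g_a, F.g_w, F.g_y,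
    F.tB, F.tA, F.psi_t0, F.phi_t0⟩

theorem commY : Commute sw pY := (commC_iff _ _).1 (by decide +kernel)

theorem t_sq (_F : Fr a b y w g φ ψ) : ψ sw * ψ sw = 1 := by
  rw [← map_mul, show sw * sw = 1 from codeS_injective (by decide +kernel), map_one]

theorem t_y (F : Fr a b y w g φ ψ) : Commute (ψ sw) y := F.psi_y ▸ commY.map ψ

theorem t_a (F : Fr a b y w g φ ψ) : ψ sw * a * (ψ sw)⁻¹ = a⁻¹ := by
  rw [← F.psi_a, ← map_inv, ← map_mul, ← map_mul, ← map_inv]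
  exact congrArg ψ (codeS_injective (by decide +kernel))

theorem phi_n0 (F : Fr a b y w g φ ψ) : φ (tvS 8) = ψ n0el := by
  rw [show tvS 8 = tvS 1 * px 0 from codeS_injective (by decide +kernel), map_mul, F.phi_t0, F.phi_y,
    ← F.psi_y, ← map_mul]
  exact congrArg ψ (codeS_injective (by decide +kernel))

theorem a_comm (F : Fr a b y w g φ ψ) (X : S) : Commute a (φ X) := F.hA.comm X

theorem px_comm : ∀ i j : Fin 3, commC (codeS (px i)) (codeS (px j)) = true := by decide +kernel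

theorem x_comm (_F : Fr a b y w g φ ψ) (i j : Fin 3) : Commute (φ (px i)) (φ (px j)) :=
  ((commC_iff _ _).1 (px_comm i j)).map φ

theorem y_comm_b (F : Fr a b y w g φ ψ) : Commute y b := (F.psi_y ▸ F.hB.comm pY).symm

theorem x1_eq (F : Fr a b y w g φ ψ) : φ (px 1) = b ^ 2 * w ^ 2 := by
  rw [← F.phi_b, ← F.phi_w, ← map_pow, ← map_pow, ← map_mul]
  exact congrArg φ (codeS_injective (by decide +kernel))

theorem x2_eq (F : Fr a b y w g φ ψ) : φ (px 2) = w ^ 2 * b := by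
  rw [← F.phi_b, ← F.phi_w, ← map_pow, ← map_mul]
  exact congrArg φ (codeS_injective (by decide +kernel))

/-- The coordinates of `C(y)`. -/
theorem side_y (F : Fr a b y w g φ ψ) : ∃ Ψ : S →* G, Side a (ψ sw) y (φ (px 1)) (φ (px 2)) Ψ := by
  have hC := F.hA.conj g
  rw [F.g_a] at hC
  set Ψ0 := (MulAut.conj g).toMonoidHom.comp φ with hΨ
  have h0 : Ψ0 (px 0) = a := by rw [hΨ]; simp [F.phi_y, F.g_y]
  have hB : Ψ0 pB = w := by rw [hΨ]; simp [F.phi_b, F.g_b]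
  have hY : Ψ0 pY = b := by rw [hΨ]; simp [F.phi_w, F.g_w]
  have h1 : Ψ0 (px 1) = φ (px 1) := by
    rw [show px 1 = pY ^ 2 * pB ^ 2 from codeS_injective (by decide +kernel), map_mul, map_pow, map_pow,
      hY, hB, ← F.phi_b, ← F.phi_w, ← map_pow, ← map_pow, ← map_mul]
    exact congrArg φ (codeS_injective (by decide +kernel))
  have h2 : Ψ0 (px 2) = (φ (px 2))⁻¹ := by
    rw [show px 2 = pY ^ 2 * (pB ^ 2)⁻¹ from codeS_injective (by decide +kernel), map_mul, map_inv, map_pow,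
      map_pow, hY, hB, ← F.phi_b, ← F.phi_w, ← map_pow, ← map_pow, ← map_inv, ← map_inv, ← map_mul]
    exact congrArg φ (codeS_injective (by decide +kernel))
  obtain ⟨X, hX, hX2⟩ := hC.invol F.t_y F.t_sq
  have hXt : Ψ0 X = ψ sw := hX.symm
  obtain ⟨j, hj⟩ := cand_t0 X hX2 (hC.inj (by rw [map_mul, map_mul, map_inv, map_inv, h0, hXt, F.t_a]))
    (hC.commute_iff.1 (by rw [h1, hXt]; exact F.tA _))
    (hC.commute_iff.1 (by rw [h2, hXt]; exact (F.tA _).inv_right))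
  refine ⟨_, hC.inn ((px 0) ^ j), ?_, ?_, ?_, ?_⟩
  · simp only [MonoidHom.comp_apply, MulEquiv.coe_toMonoidHom, MulAut.conj_apply]
    rw [((Commute.refl (px 0)).pow_left j).eq, mul_inv_cancel_right, h0]
  · simp only [MonoidHom.comp_apply, MulEquiv.coe_toMonoidHom, MulAut.conj_apply]
    rw [(((commC_iff _ _).1 (px_comm 0 1)).pow_left j).eq, mul_inv_cancel_right, h1]
  · simp only [MonoidHom.comp_apply, MulEquiv.coe_toMonoidHom, MulAut.conj_apply]
    rw [(((commC_iff _ _).1 (px_comm 0 2)).pow_left j).inv_right.eq, mul_inv_cancel_right, map_inv, h2, inv_inv]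
  · simp only [MonoidHom.comp_apply, MulEquiv.coe_toMonoidHom, MulAut.conj_apply]
    rw [← hj, hXt]

theorem sw01_sq : sw01 * sw01 = 1 := codeS_injective (by decide +kernel)

/-- The coordinates of `C(x₁)`. -/
theorem side_x1 (F : Fr a b y w g φ ψ) : ∃ Ψ : S →* G, Side a (ψ sw) (φ (px 1)) y (φ (px 2)) Ψ := by
  obtain ⟨Ψ, h⟩ := F.side_y
  have key : ∀ {X Y : S}, sw01 * X * sw01⁻¹ = Y → φ sw01 * φ X * (φ sw01)⁻¹ = φ Y := fun e => by
    rw [← map_inv, ← map_mul, ← map_mul, e]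
  refine ⟨(MulAut.conj (φ sw01)).toMonoidHom.comp Ψ, ?_, ?_, ?_, ?_, ?_⟩
  · have := h.hC.conj (φ sw01)
    rwa [← F.phi_y, key (show sw01 * px 0 * sw01⁻¹ = px 1 from codeS_injective (by decide +kernel))] at this
  · simp only [MonoidHom.comp_apply, MulEquiv.coe_toMonoidHom, MulAut.conj_apply, h.m0]
    rw [(F.a_comm _).symm.eq, mul_inv_cancel_right]
  · simp only [MonoidHom.comp_apply, MulEquiv.coe_toMonoidHom, MulAut.conj_apply, h.m1]
    rw [key (show sw01 * px 1 * sw01⁻¹ = px 0 from codeS_injective (by decide +kernel)), F.phi_y]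
  · simp only [MonoidHom.comp_apply, MulEquiv.coe_toMonoidHom, MulAut.conj_apply, h.m2]
    exact key (codeS_injective (by decide +kernel))
  · simp only [MonoidHom.comp_apply, MulEquiv.coe_toMonoidHom, MulAut.conj_apply, h.mt]
    rw [(F.tA _).symm.eq, mul_inv_cancel_right]

/-- The coordinates of `C(x₂)`. -/
theorem side_x2 (F : Fr a b y w g φ ψ) : ∃ Ψ : S →* G, Side a (ψ sw) (φ (px 2)) y (φ (px 1)) Ψ := by
  obtain ⟨Ψ, h⟩ := F.side_y
  have key : ∀ {X Y : S}, sw02 * X * sw02⁻¹ = Y → φ sw02 * φ X * (φ sw02)⁻¹ = φ Y := fun e => by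
    rw [← map_inv, ← map_mul, ← map_mul, e]
  have hC := h.hC.conj (φ sw02)
  rw [← F.phi_y, key (show sw02 * px 0 * sw02⁻¹ = px 2 from codeS_injective (by decide +kernel))] at hC
  refine ⟨_, hC.inn (sw * tvS 2 * tvS 4), ?_, ?_, ?_, ?_⟩
  · simp only [MonoidHom.comp_apply, MulEquiv.coe_toMonoidHom, MulAut.conj_apply,
      show sw * tvS 2 * tvS 4 * px 0 * (sw * tvS 2 * tvS 4)⁻¹ = px 0 from codeS_injective (by decide +kernel), h.m0]
    rw [(F.a_comm _).symm.eq, mul_inv_cancel_right]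
  · simp only [MonoidHom.comp_apply, MulEquiv.coe_toMonoidHom, MulAut.conj_apply,
      show sw * tvS 2 * tvS 4 * px 1 * (sw * tvS 2 * tvS 4)⁻¹ = (px 2)⁻¹ from codeS_injective (by decide +kernel), h.m2]
    rw [key (show sw02 * px 2 * sw02⁻¹ = px 0 from codeS_injective (by decide +kernel)), F.phi_y]
  · simp only [MonoidHom.comp_apply, MulEquiv.coe_toMonoidHom, MulAut.conj_apply,
      show sw * tvS 2 * tvS 4 * (px 2)⁻¹ * (sw * tvS 2 * tvS 4)⁻¹ = px 1 from codeS_injective (by decide +kernel), h.m1]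
    exact key (codeS_injective (by decide +kernel))
  · simp only [MonoidHom.comp_apply, MulEquiv.coe_toMonoidHom, MulAut.conj_apply,
      show sw * tvS 2 * tvS 4 * tvS 1 * (sw * tvS 2 * tvS 4)⁻¹ = tvS 1 from codeS_injective (by decide +kernel), h.mt]
    rw [(F.tA _).symm.eq, mul_inv_cancel_right]

/-- The first four-group in the coordinates of `b`. -/
theorem memW0 (F : Fr a b y w g φ ψ) {r : G} :
    IsW (ψ sw) (φ (px 1)) (φ (px 2)) y r ↔ ∃ X ∈ W0L, r = ψ X := by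
  constructor
  · rintro ⟨h0, h1, h2, h3, h4, h5⟩
    have hb : Commute r b := by
      rw [← F.phi_b, pB, map_mul, map_inv]
      exact h2.mul_right h3.inv_right
    have hw : Commute r w := by
      rw [← F.phi_w, pY, map_mul]
      exact h2.mul_right h3
    obtain ⟨X, rfl, hX⟩ := F.hB.invol hb h0
    refine ⟨X, mem_W0L X hX (F.hB.commute_iff.1 h1) (F.hB.commute_iff.1 (F.psi_w ▸ hw)) ⟨?_, ?_⟩, rfl⟩
    · refine F.hB.commute_iff.1 ?_
      simpa only [map_mul, map_inv, F.psi_y] using h4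
    · refine F.hB.inj ?_
      simpa only [map_mul, map_inv, map_pow, map_one, F.psi_y] using h5
  · rintro ⟨X, hX, rfl⟩
    obtain ⟨f0, f1, f2, f3, f4⟩ :=
      (show ∀ X ∈ W0L, codeS (X * X) = oneC ∧ commC (codeS X) (codeS sw) = true ∧
        commC (codeS X) (codeS (px 0)) = true ∧ commC (codeS X) (codeS (pY * X * pY⁻¹)) = true ∧
        codeS (X * (pY * X * pY⁻¹) * (pY ^ 2 * X * (pY ^ 2)⁻¹)) = oneC by decide +kernel) X hX
    rw [commC_iff] at f1 f2 f3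
    have hb : Commute (ψ X) b := (F.hB.comm X).symm
    have hw : Commute (ψ X) w := F.psi_w ▸ f2.map ψ
    refine ⟨by rw [← map_mul, codeS_injective (f0.trans codeS_one.symm), map_one], f1.map ψ, ?_, ?_, ?_, ?_⟩
    · rw [F.x1_eq]; exact (hb.pow_right 2).mul_right (hw.pow_right 2)
    · rw [F.x2_eq]; exact (hw.pow_right 2).mul_right hb
    · simpa only [map_mul, map_inv, F.psi_y] using f3.map ψ
    · have := congrArg ψ (codeS_injective (f4.trans codeS_one.symm))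
      simpa only [map_mul, map_inv, map_pow, map_one, F.psi_y] using this

end Fr

end Cfsg.Agent.FFourLocal.Glue3
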