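import Cfsg.Agent.Lib.FFourLocal.Glue3.Radical

/-!
# The quaternion groups lie in the residual group, and the stabiliser of the first plane fixes the first four-group
-/

set_option autoImplicit false
set_option maxRecDepth 100000

namespace Cfsg.Agent.FFourLocal.Glue3

open Subgroup Cfsg.Agent.SpThreeCent.SixEnd

universe u

/-- Permuting the planes, on numbers. -/
def permC (P : S) (π : Fin 3 → Fin 3) (k : Fin 3) : Bool :=
  (codeS (P * px k * P⁻¹) == codeS (px (π k))) || (codeS (P * px k * P⁻¹) == codeS (px (π k))⁻¹)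

theorem perm_of_code {P : S} {π : Fin 3 → Fin 3} (hπ : Function.Injective π)
    (h : ∀ k, permC P π k = true) : Perm3 P π :=
  ⟨hπ, fun k => by
    have := h k
    simp only [permC, Bool.or_eq_true, beq_iff_eq] at this
    exact this.imp (fun e => codeS_injective e) (fun e => codeS_injective e)⟩

theorem w0_self : ∀ X ∈ W0L, codeS X = oneC ∨ codeS X = codeS hel ∨
    codeS X = codeS (pY * hel * pY⁻¹) ∨ codeS X = codeS (pY ^ 2 * hel * (pY ^ 2)⁻¹) := by decide +kernel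

theorem w0_n0 : ∀ X ∈ W0L, commC (codeS X) 17718913281 = false ∨ codeS X = oneC ∨
    codeS X = codeS hel := by decide +kernel

theorem w0_mul : ∀ X ∈ W0L, ∀ Y ∈ W0L, ([oneC, 24261959937, 41173601409, 17719045377] : List ℕ).contains
    (codeS (X * Y)) = true := by decide +kernel

/-- The stabiliser of the first plane and its two transvections. -/
def Plane12 (X : S) : Prop := Commute X (tvS 1) ∧ Commute X (tvS 8)

theorem Plane12.px0 {X : S} (h : Plane12 X) : Commute X (px 0) := h.1.mul_right h.2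

theorem Plane12.mul {X Y : S} (h : Plane12 X) (h' : Plane12 Y) : Plane12 (X * Y) :=
  ⟨h.1.mul_left h'.1, h.2.mul_left h'.2⟩

/-- The generators of the second copy of `Sp₄(2)`. -/
def dGen : Set S := {X | X = sw ∨ X = pB ∨ X = nu ∨ X = n0el ∨ X ∈ W0L}

namespace Fr

variable {G : Type u} [Group G] {a b y w g : G} {φ ψ : S →* G}

/-- A quaternion element fixes the four-group of another plane. -/
theorem Q_W (F : Fr a b y w g φ ψ) {p v X P : S} (hp : p = pP ∨ p = pM) (hv : ψ p = φ v) (hX : IsQ p X)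
    {l : Fin 3} {π' : Fin 3 → Fin 3} (hPi : Perm3 P⁻¹ π') (hl : π' l = 0)
    (hB : ∃ i j : Fin 3, codeS (P * pB * P⁻¹) = codeS (pB ^ i.val * v ^ j.val))
    (hV : ∃ i j : Fin 3, codeS (P * v * P⁻¹) = codeS (pB ^ i.val * v ^ j.val)) {r : G}
    (hr : r ∈ W φ (ψ sw) l) : Commute (ψ X) r := by
  have hqb : Commute (ψ X) (φ pB) := by rw [F.phi_b]; exact (F.hB.comm X).symm
  have hqv : Commute (ψ X) (φ v) := hv ▸ hX.2.1.map ψ
  have hq : ∀ Y : S, (∃ i j : Fin 3, codeS (P * Y * P⁻¹) = codeS (pB ^ i.val * v ^ j.val)) →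
      Commute ((φ P)⁻¹ * ψ X * φ P) (φ Y) := by
    rintro Y ⟨i, j, e⟩
    have h1 : Commute (ψ X) (φ (P * Y * P⁻¹)) := by
      rw [codeS_injective e, map_mul, map_pow, map_pow]
      exact (hqb.pow_right _).mul_right (hqv.pow_right _)
    have := h1.map (MulAut.conj (φ P)⁻¹).toMonoidHom
    simp only [MulEquiv.coe_toMonoidHom, MulAut.conj_apply, inv_inv] at this
    rwa [← map_inv, ← map_mul, ← map_mul, show P⁻¹ * (P * Y * P⁻¹) * P = Y by group, map_inv] at this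
  have h4 : ((φ P)⁻¹ * ψ X * φ P) ^ 4 = 1 := by
    rw [show ((φ P)⁻¹ * ψ X * φ P) = (φ P)⁻¹ * ψ X * (φ P)⁻¹⁻¹ by rw [inv_inv], conj_pow, ← map_pow,
      hX.2.2, map_one, mul_one, mul_inv_cancel]
  obtain ⟨X', e', hX'⟩ := F.hB.prime_to (F.phi_b ▸ hq pB hB) (n := 4) (by decide) h4
  have ht : Commute ((φ P)⁻¹ * ψ X * φ P) (ψ sw) :=
    (((F.tA P).symm.inv_left).mul_left (hX.1.map ψ)).mul_left (F.tA P).symm
  have hQ : IsQ p X' := ⟨F.hB.commute_iff.1 (e' ▸ ht),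
    F.hB.commute_iff.1 (by rw [← e', hv]; exact hq v hV), hX'⟩
  have h0 := F.W_perm hPi hr
  rw [hl, map_inv, inv_inv] at h0
  obtain ⟨Y, hY, eY⟩ := F.W0_eq.1 h0
  have hc : Commute (ψ X') (ψ Y) := (IsQ_W0 hp hQ Y hY).map ψ
  rw [← e', ← eY] at hc
  have := hc.map (MulAut.conj (φ P)).toMonoidHom
  simp only [MulEquiv.coe_toMonoidHom, MulAut.conj_apply] at this
  rwa [show φ P * ((φ P)⁻¹ * ψ X * φ P) * (φ P)⁻¹ = ψ X by group,
    show φ P * ((φ P)⁻¹ * r * φ P) * (φ P)⁻¹ = r by group] at this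

theorem psi_pP (F : Fr a b y w g φ ψ) : ψ pP = φ (pY * px 0) := by
  rw [pP, map_mul, map_mul, F.psi_w, F.psi_y, F.phi_w, F.phi_y]

theorem psi_pM (F : Fr a b y w g φ ψ) : ψ pM = φ (pY * (px 0)⁻¹) := by
  rw [pM, map_mul, map_mul, map_inv, map_inv, F.psi_w, F.psi_y, F.phi_w, F.phi_y]

/-- The quaternion groups lie in the residual group. -/
theorem Q_R (F : Fr a b y w g φ ψ) {p X : S} (hp : p = pP ∨ p = pM) (hX : IsQ p X) :
    ψ X ∈ resR φ ψ := by
  refine F.mem_R.2 ⟨hX.1.map ψ, fun k r hr => ?_⟩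
  fin_cases k
  · obtain ⟨Y, hY, rfl⟩ := F.W0_eq.1 hr
    exact (IsQ_W0 hp hX Y hY).map ψ
  · rcases hp with rfl | rfl
    · exact F.Q_W (Or.inl rfl) F.psi_pP hX (P := sw01) (π' := ![1, 0, 2])
        (perm_of_code (by decide) (by decide +kernel)) rfl (by decide +kernel) (by decide +kernel) hr
    · exact F.Q_W (Or.inr rfl) F.psi_pM hX (P := sw01 * tvS 1 * tvS 2) (π' := ![1, 0, 2])
        (perm_of_code (by decide) (by decide +kernel)) rfl (by decide +kernel) (by decide +kernel) hr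
  · rcases hp with rfl | rfl
    · exact F.Q_W (Or.inl rfl) F.psi_pP hX (P := sw02) (π' := ![2, 1, 0])
        (perm_of_code (by decide) (by decide +kernel)) rfl (by decide +kernel) (by decide +kernel) hr
    · exact F.Q_W (Or.inr rfl) F.psi_pM hX (P := sw02 * tvS 1 * tvS 4) (π' := ![2, 1, 0])
        (perm_of_code (by decide) (by decide +kernel)) rfl (by decide +kernel) (by decide +kernel) hr

theorem witness (F : Fr a b y w g φ ψ) : ψ qA ∈ k2Set y φ ψ ∧ ψ qB ∈ k2Set y φ ψ := by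
  have h := witness_facts
  simp only [Bool.and_eq_true, beq_iff_eq, ← cd_n0el, commC_iff] at h
  obtain ⟨⟨⟨⟨⟨⟨⟨⟨⟨hAp, hBp⟩, hAm⟩, hBm⟩, hA⟩, hB⟩, hAn⟩, hBn⟩, hA3⟩, hB3⟩ := h
  have key : ∀ {q qp qm : S}, isQC 38959186952 (codeS qp) = true → isQC 4331029640 (codeS qm) = true →
      codeS (qp * qm) = codeS q → Commute q n0el →
      codeS (q * (pY * q * pY⁻¹) * (pY ^ 2 * q * (pY ^ 2)⁻¹)) = oneC → ψ q ∈ k2Set y φ ψ := by
    intro q qp qm hp hm e hn h3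
    have hR : ψ q ∈ resR φ ψ := by
      rw [← codeS_injective e, map_mul]
      exact mul_mem (F.Q_R (Or.inl rfl) (isQC_sound cd_pP hp)) (F.Q_R (Or.inr rfl) (isQC_sound cd_pM hm))
    obtain ⟨ht, hW⟩ := F.mem_R.1 hR
    refine ⟨F.mem_K.2 ⟨ht, F.phi_n0 ▸ hn.map ψ, hW 1, hW 2⟩, ?_⟩
    have := congrArg ψ (codeS_injective (h3.trans codeS_one.symm))
    simpa only [map_mul, map_inv, map_pow, map_one, F.psi_y] using this
  exact ⟨key hAp hAm hA hAn hA3, key hBp hBm hB hBn hB3⟩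

theorem zGen_comm_y (F : Fr a b y w g φ ψ) {r : G} (hr : r ∈ uGen φ ψ) : Commute r y ∧ r * r = 1 := by
  rcases hr with rfl | hr | hr
  · exact ⟨F.t_y, F.t_sq⟩
  · exact ⟨F.phi_y ▸ (hr.2.2.2.1 : Commute r (φ (px (1 + 2)))), hr.1⟩
  · exact ⟨F.phi_y ▸ (hr.2.2.1 : Commute r (φ (px (2 + 1)))), hr.1⟩

theorem W0_mul (F : Fr a b y w g φ ψ) {r s : G} (hr : r ∈ W φ (ψ sw) 0) (hs : s ∈ W φ (ψ sw) 0) :
    r * s ∈ W φ (ψ sw) 0 := by
  obtain ⟨X, hX, rfl⟩ := F.W0_eq.1 hr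
  obtain ⟨Y, hY, rfl⟩ := F.W0_eq.1 hs
  exact F.W0_eq.2 ⟨X * Y, mem_of_code cd_W0L (w0_mul X hX Y hY), (map_mul ψ X Y).symm⟩

/-- The centre as a product. -/
theorem Z_split (F : Fr a b y w g φ ψ) {s : G} (hs : s ∈ closure (zGen φ ψ)) :
    ∃ u r, (Commute u y ∧ u * u = 1 ∧ ∀ z ∈ zGen φ ψ, Commute u z) ∧ r ∈ W φ (ψ sw) 0 ∧ s = u * r := by
  have h1 : (1 : G) ∈ W φ (ψ sw) 0 := F.W0_eq.2 ⟨1, by simp [W0L], (map_one ψ).symm⟩
  have hc : ∀ {x z : G}, x ∈ zGen φ ψ → z ∈ zGen φ ψ → Commute x z := fun hx hz => by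
    rcases hz with rfl | ⟨k, hk⟩
    exacts [(F.mem_R.1 (F.zGen_sub_R hx)).1, (F.mem_R.1 (F.zGen_sub_R hx)).2 k _ hk]
  induction hs using Subgroup.closure_induction with
  | mem x hx =>
    have hu : x ∈ uGen φ ψ ∨ x ∈ W φ (ψ sw) 0 := by
      rcases hx with h | ⟨k, hk⟩
      · exact Or.inl (Or.inl h)
      · fin_cases k
        exacts [Or.inr hk, Or.inl (Or.inr (Or.inl hk)), Or.inl (Or.inr (Or.inr hk))]
    rcases hu with hu | hu
    · exact ⟨x, 1, ⟨(F.zGen_comm_y hu).1, (F.zGen_comm_y hu).2, fun z hz => hc hx hz⟩, h1, (mul_one x).symm⟩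
    · exact ⟨1, x, ⟨Commute.one_left y, one_mul 1, fun z _ => Commute.one_left z⟩, hu, (one_mul x).symm⟩
  | one => exact ⟨1, 1, ⟨Commute.one_left y, one_mul 1, fun z _ => Commute.one_left z⟩, h1, (one_mul 1).symm⟩
  | mul x z hx hz ihx ihz =>
    obtain ⟨u, r, ⟨hu, hu2, huc⟩, hr, rfl⟩ := ihx
    obtain ⟨v, s, ⟨hv, hv2, hvc⟩, hs, rfl⟩ := ihz
    have huv : Commute u v := by
      have hle : closure (zGen φ ψ) ≤ centralizer ({u} : Set G) :=
        (closure_le _).2 fun x hx => mem_centralizer_singleton_iff.2 (huc x hx).eq.symm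
      have : Commute u (v * s) := (mem_centralizer_singleton_iff.1 (hle hz)).symm
      have := this.mul_right (huc s (Or.inr ⟨0, hs⟩)).inv_right
      rwa [mul_inv_cancel_right] at this
    refine ⟨u * v, r * s, ⟨hu.mul_left hv, ?_, fun z hz => (huc z hz).mul_left (hvc z hz)⟩, F.W0_mul hr hs, ?_⟩
    · rw [show u * v * (u * v) = u * (v * u) * v by group, ← huv.eq,
        show u * (u * v) * v = (u * u) * (v * v) by group, hu2, hv2, one_mul]
    · rw [show u * r * (v * s) = u * (r * v) * s by group,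
        ← (hvc r (Or.inr ⟨0, hr⟩)).eq]
      group
  | inv x hx ihx =>
    obtain ⟨u, r, ⟨hu, hu2, huc⟩, hr, rfl⟩ := ihx
    refine ⟨u, r, ⟨hu, hu2, huc⟩, hr, ?_⟩
    rw [mul_inv_rev, inv_eq_of_mul_eq_one_left hu2, inv_eq_of_mul_eq_one_left hr.1,
      (huc r (Or.inr ⟨0, hr⟩)).eq]

variable [Finite G]

theorem S2_fixed (F : Fr a b y w g φ ψ) {u : G} (hu : u ∈ tor φ) (hu1 : u ≠ 1) {c : G}
    (hc : c ∈ grpS2 y φ ψ) (hcu : c ∈ centralizer ({u} : Set G)) : c ∈ closure (zGen φ ψ) := by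
  obtain ⟨hcR, -⟩ := mem_inf.1 (F.S2_le hc)
  obtain ⟨L, hL, hcom⟩ := tor_cases hu hu1
  have h := hcom c hcu
  have hwR : ∀ c ∈ resR φ ψ, w * c * w⁻¹ ∈ resR φ ψ := fun c hc =>
    (mem_normalizer_iff.1 (F.tor_facts F.w_tor).2.2.2 c).1 hc
  have h24 : ∀ Y : S, ψ Y ∈ resR φ ψ → Y ^ 24 = 1 := fun Y hY => by
    obtain ⟨ht, hW⟩ := F.mem_R.1 hY
    exact cRb24 Y (F.hB.commute_iff.1 ht) fun r hr =>
      F.hB.commute_iff.1 (hW 0 _ (F.W0_eq.2 ⟨r, hr, rfl⟩))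
  have atb : ∀ {c : G}, c ∈ grpS2 y φ ψ → Commute c b → c ∈ closure (zGen φ ψ) := by
    intro c hc hcb
    obtain ⟨hcR, hcK⟩ := mem_inf.1 (F.S2_le hc)
    obtain ⟨X, rfl, -⟩ := F.hB.prime_to hcb F.R_three
      (orderOf_dvd_iff_pow_eq_one.1 ((resR φ ψ).orderOf_dvd_natCard hcR))
    obtain ⟨ht, hW⟩ := F.mem_R.1 hcR
    have hq : ∀ q, ψ q ∈ k2Set y φ ψ → Commute X (pY * q * pY⁻¹) := fun q hq => by
      refine F.hB.commute_iff.1 ?_
      rw [map_mul, map_mul, map_inv, F.psi_y]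
      exact (mem_centralizer_iff.1 (mem_inf.1 hc).2 _ ⟨_, hq, rfl⟩).symm
    have hmem := S2b X (F.hB.commute_iff.1 ht)
      (F.hB.commute_iff.1 (F.phi_n0 ▸ (F.mem_K.1 hcK).2.1))
      (fun r hr => F.hB.commute_iff.1 (hW 0 _ (F.W0_eq.2 ⟨r, hr, rfl⟩)))
      (F.two8_of F.R_three hwR h24 hcR) (hq _ F.witness.1) (hq _ F.witness.2)
    have hs : ψ sw ∈ closure (zGen φ ψ) := subset_closure (Or.inl rfl)
    have hh : ψ hel ∈ closure (zGen φ ψ) := subset_closure (Or.inr ⟨0, F.h_facts.1⟩)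
    simp only [List.mem_cons, List.not_mem_nil, or_false] at hmem
    rcases hmem with rfl | rfl | rfl | rfl
    · rw [map_one]; exact one_mem _
    · exact hs
    · exact hh
    · rw [map_mul]; exact mul_mem hs hh
  simp only [lineGen, List.mem_cons, List.not_mem_nil, or_false] at hL
  rcases hL with rfl | rfl | rfl | rfl
  · obtain ⟨Ψ, hS⟩ := F.side_x1
    exact F.R_side hS (fun r => F.side1_A) (fun r => F.side1_B) hcR h
  · obtain ⟨Ψ, hS⟩ := F.side_x2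
    exact F.R_side hS (fun r => F.side2_A) (fun r => F.side2_B) hcR h
  · exact atb hc (F.phi_b ▸ h)
  · obtain ⟨h1, h2, h3, h4⟩ := F.tau_facts
    have hb : Commute (φ (tvS 4) * c * (φ (tvS 4))⁻¹) b := by
      have := (F.phi_w ▸ h : Commute c w).map (MulAut.conj (φ (tvS 4))).toMonoidHom
      simpa only [MulEquiv.coe_toMonoidHom, MulAut.conj_apply, h4] using this
    have hz := F.perm_norm_Z (X := (tvS 4)⁻¹) (π := id)
      (perm_of_code Function.injective_id (by decide +kernel)) (atb (F.S2_norm h1 h2 h3 hc) hb)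
    rwa [map_inv, inv_inv, show (φ (tvS 4))⁻¹ * (φ (tvS 4) * c * (φ (tvS 4))⁻¹) * φ (tvS 4) = c by group] at hz

theorem S2_in_Z (F : Fr a b y w g φ ψ) : grpS2 y φ ψ ≤ closure (zGen φ ψ) := by
  refine CharP.le_of_fixedGen (U := tor φ) F.tor_not_cyclic ?_ (F.tor_coprime ?_)
    fun u hu hu1 z hz => F.S2_fixed hu hu1 hz.1 hz.2
  · intro u hu
    obtain ⟨h1, h2, h3, -⟩ := F.tor_facts hu
    refine mem_normalizer_iff.2 fun z => ⟨F.S2_norm h1 h2 h3, fun hz => ?_⟩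
    have := F.S2_norm h1.inv_left h2.inv_left h3.inv_left hz
    rwa [show u⁻¹ * (u * z * u⁻¹) * u⁻¹⁻¹ = z by group] at this
  · exact fun h => F.R_three (h.trans (card_dvd_of_le (F.S2_le.trans inf_le_left)))

theorem S2_k2 (F : Fr a b y w g φ ψ) {s : G} (hs : s ∈ grpS2 y φ ψ) (hk : s ∈ k2Set y φ ψ) :
    s = 1 ∨ s = ψ hel := by
  obtain ⟨u, r, ⟨hu, hu2, huc⟩, hr, rfl⟩ := F.Z_split (F.S2_in_Z hs)
  obtain ⟨-, hn, -, -⟩ := F.mem_K.1 hk.1
  have hp := hk.2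
  have hrr : r * (y * r * y⁻¹) * (y ^ 2 * r * (y ^ 2)⁻¹) = 1 := by
    have := hr.2.2.2.2.2
    rwa [F.phi_y] at this
  have hry : Commute u (y * r * y⁻¹) := by
    refine huc _ (Or.inr ⟨0, ?_⟩)
    have := F.W_perm (perm_px 0) hr
    rwa [F.phi_y] at this
  rw [show y * (u * r) * y⁻¹ = (y * u) * r * y⁻¹ by group, ← hu.eq,
    show y ^ 2 * (u * r) * (y ^ 2)⁻¹ = (y ^ 2 * u) * r * (y ^ 2)⁻¹ by group, ← (hu.pow_right 2).eq] at hp
  have hu1 : u = 1 := by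
    rw [show u * r * (u * y * r * y⁻¹) * (u * y ^ 2 * r * (y ^ 2)⁻¹) =
      u * (r * u) * (y * r * y⁻¹) * u * (y ^ 2 * r * (y ^ 2)⁻¹) by group,
      ← (huc r (Or.inr ⟨0, hr⟩)).eq,
      show u * (u * r) * (y * r * y⁻¹) * u * (y ^ 2 * r * (y ^ 2)⁻¹) =
        (u * u) * r * ((y * r * y⁻¹) * u) * (y ^ 2 * r * (y ^ 2)⁻¹) by group, hu2, one_mul, ← hry.eq,
      show r * (u * (y * r * y⁻¹)) * (y ^ 2 * r * (y ^ 2)⁻¹) = (r * u) * ((y * r * y⁻¹) * (y ^ 2 * r * (y ^ 2)⁻¹)) by group,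
      ← (huc r (Or.inr ⟨0, hr⟩)).eq, mul_assoc, ← mul_assoc r, hrr, mul_one] at hp
    exact hp
  subst hu1
  rw [one_mul] at hn ⊢
  obtain ⟨X, hX, rfl⟩ := F.W0_eq.1 hr
  rcases w0_n0 X hX with e | e | e
  · rw [← cd_n0el, (commC_iff _ _).2 (F.hB.commute_iff.1 (F.phi_n0 ▸ hn))] at e
    exact Bool.noConfusion e
  · exact Or.inl (by rw [codeS_injective (e.trans codeS_one.symm), map_one])
  · exact Or.inr (by rw [codeS_injective e])

/-- What commutes with `y`, `t` and the flip fixes the first four-group. -/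
theorem cent_W0 (F : Fr a b y w g φ ψ) {d : G} (hy : Commute d y) (ht : Commute d (ψ sw))
    (hn : Commute d (φ (tvS 8))) {r : G} (hr : r ∈ W φ (ψ sw) 0) : Commute d r := by
  have hs := F.S2_norm hy ht hn F.h_S2
  have hk : d * ψ hel * d⁻¹ ∈ k2Set y φ ψ := by
    obtain ⟨hK, hp⟩ := F.h_k2
    refine ⟨F.K_norm hy ht hn hK, ?_⟩
    rw [show y * (d * ψ hel * d⁻¹) * y⁻¹ = (y * d) * ψ hel * (y * d)⁻¹ by group, ← hy.eq,
      show y ^ 2 * (d * ψ hel * d⁻¹) * (y ^ 2)⁻¹ = (y ^ 2 * d) * ψ hel * (y ^ 2 * d)⁻¹ by group,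
      ← (hy.pow_right 2).eq,
      show d * ψ hel * d⁻¹ * (d * y * ψ hel * (d * y)⁻¹) * (d * y ^ 2 * ψ hel * (d * y ^ 2)⁻¹) =
        d * (ψ hel * (y * ψ hel * y⁻¹) * (y ^ 2 * ψ hel * (y ^ 2)⁻¹)) * d⁻¹ by group, hp, mul_one,
      mul_inv_cancel]
  have hh : Commute d (ψ hel) := by
    rcases F.S2_k2 hs hk with e | e
    · exact absurd (conj_eq_one_iff.1 e) F.h_facts.2.2
    · exact mul_inv_eq_iff_eq_mul.1 e
  obtain ⟨X, hX, rfl⟩ := F.W0_eq.1 hr
  rcases w0_self X hX with e | e | e | e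
  · rw [codeS_injective (e.trans codeS_one.symm), map_one]; exact Commute.one_right d
  · rw [codeS_injective e]; exact hh
  · rw [codeS_injective e, map_mul, map_mul, map_inv, F.psi_y]
    exact (hy.mul_right hh).mul_right hy.inv_right
  · rw [codeS_injective e, map_mul, map_mul, map_inv, map_pow, F.psi_y]
    exact ((hy.pow_right 2).mul_right hh).mul_right (hy.pow_right 2).inv_right

theorem plane_facts (F : Fr a b y w g φ ψ) {X : S} (hX : Plane12 X) :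
    Commute (φ X) y ∧ Commute (φ X) (ψ sw) ∧ Commute (φ X) (φ (tvS 8)) :=
  ⟨F.phi_y ▸ hX.px0.map φ, (F.tA X).symm, hX.2.map φ⟩

/-- The stabiliser of the first plane normalises the residual group. -/
theorem plane_norm_R (F : Fr a b y w g φ ψ) {X : S} (hX : Plane12 X) :
    φ X ∈ normalizer (resR φ ψ : Set G) := by
  have key : ∀ {d : G}, Commute d y → Commute d (ψ sw) → Commute d (φ (tvS 8)) →
      ∀ c ∈ resR φ ψ, d * c * d⁻¹ ∈ resR φ ψ := by
    intro d hy ht hn c hc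
    obtain ⟨hct, hcW⟩ := F.mem_R.1 hc
    have hcu : ∀ r ∈ uGen φ ψ, Commute c r := by
      rintro r (rfl | hr | hr)
      exacts [hct, hcW 1 r hr, hcW 2 r hr]
    have key : ∀ r ∈ uGen φ ψ, Commute (d * c * d⁻¹) r := fun r hr => by
      have h := (F.CU_norm hy.inv_left ht.inv_left hcu hr).map (MulAut.conj d).toMonoidHom
      simp only [MulEquiv.coe_toMonoidHom, MulAut.conj_apply] at h
      rwa [show d * (d⁻¹ * r * d⁻¹⁻¹) * d⁻¹ = r by group] at h
    refine F.mem_R.2 ⟨key _ (Or.inl rfl), fun k r hr => ?_⟩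
    fin_cases k
    · exact ((F.cent_W0 hy ht hn hr).mul_left (hcW 0 r hr)).mul_left (F.cent_W0 hy ht hn hr).inv_left
    · exact key r (Or.inr (Or.inl hr))
    · exact key r (Or.inr (Or.inr hr))
  obtain ⟨h1, h2, h3⟩ := F.plane_facts hX
  refine mem_normalizer_iff.2 fun z => ⟨key h1 h2 h3 z, fun hz => ?_⟩
  have := key h1.inv_left h2.inv_left h3.inv_left _ hz
  rwa [show (φ X)⁻¹ * (φ X * z * (φ X)⁻¹) * (φ X)⁻¹⁻¹ = z by group] at this

/-- The two copies of `Sp₄(2)` commute. -/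
theorem DD_comm (F : Fr a b y w g φ ψ) {X Y : S} (hX : Plane12 X) (hY : Y ∈ closure dGen) :
    Commute (φ X) (ψ Y) := by
  obtain ⟨h1, h2, h3⟩ := F.plane_facts hX
  induction hY using Subgroup.closure_induction with
  | mem Z hZ =>
    rcases hZ with rfl | rfl | rfl | rfl | hZ
    · exact h2
    · rw [F.psi_a]; exact (F.a_comm X).symm
    · rw [← F.phi_t0]; exact hX.1.map φ
    · rw [← F.phi_n0]; exact h3
    · exact F.cent_W0 h1 h2 h3 (F.W0_eq.2 ⟨Z, hZ, rfl⟩)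
  | one => rw [map_one]; exact Commute.one_right _
  | mul x z _ _ hx hz => rw [map_mul]; exact hx.mul_right hz
  | inv x _ hx => rw [map_inv]; exact hx.inv_right

end Fr

end Cfsg.Agent.FFourLocal.Glue3
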