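import Cfsg.Agent.Lib.FFourLocal.Glue3.Code

/-!
# Named elements of the model
-/

set_option autoImplicit false
set_option maxRecDepth 100000

namespace Cfsg.Agent.FFourLocal.Glue3

open Cfsg.Agent.SpThreeCent.SixEnd

/-- The exchange of the last two planes. -/
def sw : S := sh 6 48

/-- A second involution of the last two planes. -/
def nu : S := sh 6 50

/-- A third one. -/
def n0el : S := sh 22 38

/-- The exchange of the first two planes. -/
def sw01 : S := sh 3 24

/-- The exchange of the outer planes. -/
def sw02 : S := sh 5 40

/-- An element moving the last planes. -/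
def hm : S := tvS 4 * tvS 16 * tvS 36 * tvS 54

/-- The change of coordinates of the short side. -/
def ms : S := tvS 4 * tvS 16 * tvS 20 * tvS 34

/-- The flip of the last two planes. -/
def f12 : S := tvS 18 * tvS 36

/-- The product of the last two plane elements. -/
def pY : S := px 1 * px 2

/-- Their quotient. -/
def pB : S := px 1 * (px 2)⁻¹

/-- The first four-group. -/
def W0L : List S := [1, tvS 48 * tvS 54, tvS 6 * tvS 48, tvS 6 * tvS 54]

/-- The second four-group. -/
def W1L : List S := [1, tvS 2 * tvS 3, tvS 16 * tvS 17, tvS 18 * tvS 19]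

/-- The third four-group. -/
def W2L : List S := [1, tvS 4 * tvS 5, tvS 32 * tvS 33, tvS 36 * tvS 37]

/-- The fixed element of the first four-group. -/
def hel : S := tvS 6 * tvS 54

/-- A witness. -/
def qA : S := tvS 14 * tvS 62

/-- A second witness. -/
def qB : S := tvS 7 * tvS 55

/-- The first factor of `qA`. -/
def qAp : S := sh 1 48 * (tvS 8 * tvS 14 * tvS 48)

/-- The second factor of `qA`. -/
def qAm : S := sh 1 6 * (tvS 6 * tvS 9 * tvS 63)

/-- The first factor of `qB`. -/
def qBp : S := sh 1 6 * (tvS 6 * tvS 15 * tvS 63)

/-- The second factor of `qB`. -/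
def qBm : S := sh 1 6 * (tvS 6 * tvS 14 * tvS 62)

/-- Powers of numbers. -/
def powC (c : ℕ) : ℕ → ℕ
  | 0 => oneC
  | n + 1 => mulC (powC c n) c

theorem codeS_pow (X : S) : ∀ n, codeS (X ^ n) = powC (codeS X) n
  | 0 => by rw [pow_zero, codeS_one]; rfl
  | n + 1 => by rw [pow_succ, codeS_mul, codeS_pow X n]; rfl

/-- Membership of a code in the codes of a list of elements. -/
theorem mem_of_code {X : S} {L : List S} {l : List ℕ} (hl : L.map codeS = l) (h : l.contains (codeS X) = true) :
    X ∈ L := by
  rw [List.contains_iff_mem, ← hl, List.mem_map] at h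
  obtain ⟨Y, hY, e⟩ := h
  rwa [← codeS_injective e]

theorem eq_of_code {X Y : S} {n : ℕ} (hY : codeS Y = n) (h : (codeS X == n) = true) : X = Y :=
  codeS_injective ((beq_iff_eq.1 h).trans hY.symm)

theorem cd_W0L : W0L.map codeS = [oneC, 24261959937, 41173601409, 17719045377] := by decide +kernel

theorem cd_W1L : W1L.map codeS = [oneC, 34647851137, 34634744001, 34652045505] := by decide +kernel

theorem cd_W2L : W2L.map codeS = [oneC, 35705340033, 34638942337, 35713732737] := by decide +kernel

theorem cd_sw : codeS sw = 17718845697 := by decide +kernel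
theorem cd_nu : codeS nu = 19933438209 := by decide +kernel
theorem cd_n0el : codeS n0el = 17718913281 := by decide +kernel
theorem cd_px0 : codeS (px 0) = 34630549640 := by decide +kernel
theorem cd_px1 : codeS (px 1) = 34663842817 := by decide +kernel
theorem cd_px2 : codeS (px 2) = 38925369473 := by decide +kernel
theorem cd_px2i : codeS (px 2)⁻¹ = 4565647489 := by decide +kernel
theorem cd_px0i : codeS (px 0)⁻¹ = 34628452489 := by decide +kernel
theorem cd_px1i : codeS (px 1)⁻¹ = 34395407489 := by decide +kernel
theorem cd_pY : codeS pY = 38958924801 := by decide +kernel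
theorem cd_pB : codeS pB = 4599202817 := by decide +kernel
theorem cd_pYi : codeS pY⁻¹ = 4330767489 := by decide +kernel
theorem cd_pBi : codeS pB⁻¹ = 38690489473 := by decide +kernel

theorem px_cube : ∀ k : Fin 3, px k ^ 3 = 1 := by
  intro k
  apply codeS_injective
  rw [codeS_pow, codeS_one]
  fin_cases k <;> decide +kernel

end Cfsg.Agent.FFourLocal.Glue3
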