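import Cfsg.Agent.Lib.FFourLocal.Glue3.Elts

/-!
# Finite facts: normalisation and the four-groups
-/

set_option autoImplicit false
set_option maxRecDepth 100000

namespace Cfsg.Agent.FFourLocal.Glue3

open Cfsg.Agent.SpThreeCent.SixEnd

theorem tw_comm' {X d : S} {n : ℕ} (h : Commute X d) (e : codeS d = n) : Tw X (n, n) :=
  e ▸ tw_comm h

theorem tw_of' {X d e : S} {n m : ℕ} (h : X * d = e * X) (hd : codeS d = n) (he : codeS e = m) :
    Tw X (n, m) := hd ▸ he ▸ tw_of h

theorem mul_eq_of_conj {X d e : S} (h : X * d * X⁻¹ = e) : X * d = e * X :=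
  mul_inv_eq_iff_eq_mul.1 h

theorem tws2 {X : S} {a b : ℕ × ℕ} (ha : Tw X a) (hb : Tw X b) : ∀ p ∈ [a, b], Tw X p := by
  intro p hp
  simp only [List.mem_cons, List.not_mem_nil, or_false] at hp
  rcases hp with rfl | rfl <;> assumption

theorem tws3 {X : S} {a b c : ℕ × ℕ} (ha : Tw X a) (hb : Tw X b) (hc : Tw X c) :
    ∀ p ∈ [a, b, c], Tw X p := by
  intro p hp
  simp only [List.mem_cons, List.not_mem_nil, or_false] at hp
  rcases hp with rfl | rfl | rfl <;> assumption

theorem tws4 {X : S} {a b c d : ℕ × ℕ} (ha : Tw X a) (hb : Tw X b) (hc : Tw X c) (hd : Tw X d) :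
    ∀ p ∈ [a, b, c, d], Tw X p := by
  intro p hp
  simp only [List.mem_cons, List.not_mem_nil, or_false] at hp
  rcases hp with rfl | rfl | rfl | rfl <;> assumption

theorem tws5 {X : S} {a b c d e : ℕ × ℕ} (ha : Tw X a) (hb : Tw X b) (hc : Tw X c) (hd : Tw X d)
    (he : Tw X e) : ∀ p ∈ [a, b, c, d, e], Tw X p := by
  intro p hp
  simp only [List.mem_cons, List.not_mem_nil, or_false] at hp
  rcases hp with rfl | rfl | rfl | rfl | rfl <;> assumption

theorem tws6 {X : S} {a b c d e f : ℕ × ℕ} (ha : Tw X a) (hb : Tw X b) (hc : Tw X c) (hd : Tw X d)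
    (he : Tw X e) (hf : Tw X f) : ∀ p ∈ [a, b, c, d, e, f], Tw X p := by
  intro p hp
  simp only [List.mem_cons, List.not_mem_nil, or_false] at hp
  rcases hp with rfl | rfl | rfl | rfl | rfl | rfl <;> assumption

theorem cand_sw_code :
    (ordOk [0, 3, 1, 4, 2, 5] 0 && srch true
      [(34630549640, 34630549640), (38958924801, 38958924801), (4599202817, 38690489473)]
      (fun c => ([codeS sw, codeS (px 1 * sw * (px 1)⁻¹), codeS ((px 1) ^ 2 * sw * ((px 1) ^ 2)⁻¹)]).contains c)
      [0, 3, 1, 4, 2, 5] 0 0) = true := by decide +kernel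

/-- The involutions fixing `w`, `y` and inverting `a` in the coordinates of `b`. -/
theorem cand_sw (X : S) (h2 : X * X = 1) (h0 : Commute X (px 0)) (hY : Commute X pY)
    (hB : X * pB * X⁻¹ = pB⁻¹) : ∃ j : ℕ, X = (px 1) ^ j * sw * ((px 1) ^ j)⁻¹ := by
  have h := srch_sound cand_sw_code X (tws3 (tw_comm' h0 cd_px0) (tw_comm' hY cd_pY) (tw_of' (mul_eq_of_conj hB) cd_pB cd_pBi))
    (fun _ => h2)
  rw [List.contains_iff_mem] at h
  simp only [List.mem_cons, List.not_mem_nil, or_false] at h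
  rcases h with h | h | h
  · exact ⟨0, by rw [pow_zero, one_mul, inv_one, mul_one]; exact codeS_injective h⟩
  · exact ⟨1, by rw [pow_one]; exact codeS_injective h⟩
  · exact ⟨2, codeS_injective h⟩

theorem cand_nu_code :
    (ordOk [0, 3, 1, 4, 2, 5] 0 && srch true
      [(34630549640, 34630549640), (38958924801, 4330767489), (4599202817, 4599202817),
        (17718845697, 17718845697)]
      (fun c => ([codeS nu, codeS (pY * nu * pY⁻¹), codeS (pY ^ 2 * nu * (pY ^ 2)⁻¹)]).contains c)
      [0, 3, 1, 4, 2, 5] 0 0) = true := by decide +kernel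

/-- The involutions fixing `w`, `a`, `t` and inverting `y`. -/
theorem cand_nu (X : S) (h2 : X * X = 1) (h0 : Commute X (px 0)) (hY : X * pY * X⁻¹ = pY⁻¹)
    (hB : Commute X pB) (hs : Commute X sw) : ∃ j : ℕ, X = pY ^ j * nu * (pY ^ j)⁻¹ := by
  have h := srch_sound cand_nu_code X (tws4 (tw_comm' h0 cd_px0) (tw_of' (mul_eq_of_conj hY) cd_pY cd_pYi) (tw_comm' hB cd_pB) (tw_comm' hs cd_sw))
    (fun _ => h2)
  rw [List.contains_iff_mem] at h
  simp only [List.mem_cons, List.not_mem_nil, or_false] at h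
  rcases h with h | h | h
  · exact ⟨0, by rw [pow_zero, one_mul, inv_one, mul_one]; exact codeS_injective h⟩
  · exact ⟨1, by rw [pow_one]; exact codeS_injective h⟩
  · exact ⟨2, codeS_injective h⟩

theorem cand_t0_code :
    (ordOk [1, 4, 2, 5, 0, 3] 0 && srch true
      [(34630549640, 34628452489), (34663842817, 34663842817), (38925369473, 38925369473)]
      (fun c => ([codeS (tvS 1), codeS (px 0 * tvS 1 * (px 0)⁻¹),
        codeS ((px 0) ^ 2 * tvS 1 * ((px 0) ^ 2)⁻¹)]).contains c)
      [1, 4, 2, 5, 0, 3] 0 0) = true := by decide +kernel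

/-- The involutions of the first plane. -/
theorem cand_t0 (X : S) (h2 : X * X = 1) (h0 : X * px 0 * X⁻¹ = (px 0)⁻¹) (h1 : Commute X (px 1))
    (h5 : Commute X (px 2)) : ∃ j : ℕ, X = (px 0) ^ j * tvS 1 * ((px 0) ^ j)⁻¹ := by
  have h := srch_sound cand_t0_code X (tws3 (tw_of' (mul_eq_of_conj h0) cd_px0 cd_px0i) (tw_comm' h1 cd_px1) (tw_comm' h5 cd_px2))
    (fun _ => h2)
  rw [List.contains_iff_mem] at h
  simp only [List.mem_cons, List.not_mem_nil, or_false] at h
  rcases h with h | h | h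
  · exact ⟨0, by rw [pow_zero, one_mul, inv_one, mul_one]; exact codeS_injective h⟩
  · exact ⟨1, by rw [pow_one]; exact codeS_injective h⟩
  · exact ⟨2, codeS_injective h⟩

theorem cand_t1_code :
    (ordOk [0, 3, 2, 5, 1, 4] 0 && srch true
      [(34630549640, 34630549640), (34663842817, 34395407489), (38925369473, 38925369473)]
      (fun c => ([codeS (tvS 2), codeS (px 1 * tvS 2 * (px 1)⁻¹),
        codeS ((px 1) ^ 2 * tvS 2 * ((px 1) ^ 2)⁻¹)]).contains c)
      [0, 3, 2, 5, 1, 4] 0 0) = true := by decide +kernel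

/-- The involutions of the second plane. -/
theorem cand_t1 (X : S) (h2 : X * X = 1) (h0 : Commute X (px 0)) (h1 : X * px 1 * X⁻¹ = (px 1)⁻¹)
    (h5 : Commute X (px 2)) : ∃ j : ℕ, X = (px 1) ^ j * tvS 2 * ((px 1) ^ j)⁻¹ := by
  have h := srch_sound cand_t1_code X (tws3 (tw_comm' h0 cd_px0) (tw_of' (mul_eq_of_conj h1) cd_px1 cd_px1i) (tw_comm' h5 cd_px2))
    (fun _ => h2)
  rw [List.contains_iff_mem] at h
  simp only [List.mem_cons, List.not_mem_nil, or_false] at h
  rcases h with h | h | h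
  · exact ⟨0, by rw [pow_zero, one_mul, inv_one, mul_one]; exact codeS_injective h⟩
  · exact ⟨1, by rw [pow_one]; exact codeS_injective h⟩
  · exact ⟨2, codeS_injective h⟩

theorem cand_t2_code :
    (ordOk [0, 3, 1, 4, 2, 5] 0 && srch true
      [(34630549640, 34630549640), (34663842817, 34663842817), (38925369473, 4565647489)]
      (fun c => ([codeS (tvS 4), codeS (px 2 * tvS 4 * (px 2)⁻¹),
        codeS ((px 2) ^ 2 * tvS 4 * ((px 2) ^ 2)⁻¹)]).contains c)
      [0, 3, 1, 4, 2, 5] 0 0) = true := by decide +kernel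

/-- The involutions of the third plane. -/
theorem cand_t2 (X : S) (h2 : X * X = 1) (h0 : Commute X (px 0)) (h1 : Commute X (px 1))
    (h5 : X * px 2 * X⁻¹ = (px 2)⁻¹) : ∃ j : ℕ, X = (px 2) ^ j * tvS 4 * ((px 2) ^ j)⁻¹ := by
  have h := srch_sound cand_t2_code X (tws3 (tw_comm' h0 cd_px0) (tw_comm' h1 cd_px1) (tw_of' (mul_eq_of_conj h5) cd_px2 cd_px2i))
    (fun _ => h2)
  rw [List.contains_iff_mem] at h
  simp only [List.mem_cons, List.not_mem_nil, or_false] at h
  rcases h with h | h | h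
  · exact ⟨0, by rw [pow_zero, one_mul, inv_one, mul_one]; exact codeS_injective h⟩
  · exact ⟨1, by rw [pow_one]; exact codeS_injective h⟩
  · exact ⟨2, codeS_injective h⟩

/-- Commutes with the conjugate and the product of the three conjugates is trivial, on numbers. -/
def triC (p c : ℕ) : Bool :=
  let c1 := mulC (mulC p c) (mulC p p)
  let c2 := mulC (mulC p c1) (mulC p p)
  commC c c1 && (mulC (mulC c c1) c2 == oneC)

/-- The three conjugates are pairwise commuting with product one. -/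
def Tri (p X : S) : Prop :=
  Commute X (p * X * p⁻¹) ∧ X * (p * X * p⁻¹) * (p ^ 2 * X * (p ^ 2)⁻¹) = 1

theorem triC_of {p X : S} {n : ℕ} (hp : p ^ 3 = 1) (e : codeS p = n) (h : Tri p X) :
    triC n (codeS X) = true := by
  have hi : p⁻¹ = p * p := inv_eq_of_mul_eq_one_right (by rw [← hp, pow_three])
  have h2 : p ^ 2 * X * (p ^ 2)⁻¹ = p * (p * X * p⁻¹) * p⁻¹ := by rw [pow_two]; group
  subst e
  simp only [triC, ← codeS_mul, Bool.and_eq_true, beq_iff_eq, commC_iff]
  rw [← hi, ← h2]
  exact ⟨h.1, by rw [h.2, codeS_one]⟩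

theorem W0_code :
    (ordOk [0, 3, 1, 2, 4, 5] 0 && srch true [(17718845697, 17718845697), (34630549640, 34630549640)]
      (fun c => !(triC 38958924801 c) ||
        ([oneC, 24261959937, 41173601409, 17719045377] : List ℕ).contains c)
      [0, 3, 1, 2, 4, 5] 0 0) = true := by decide +kernel

/-- The first four-group in the coordinates of `b`. -/
theorem mem_W0L (X : S) (h2 : X * X = 1) (hs : Commute X sw) (h0 : Commute X (px 0))
    (h : Tri pY X) : X ∈ W0L := by
  have e := srch_sound W0_code X (tws2 (tw_comm' hs cd_sw) (tw_comm' h0 cd_px0)) (fun _ => h2)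
  have hp : pY ^ 3 = 1 := codeS_injective (by decide +kernel)
  rw [triC_of hp cd_pY h, Bool.not_true, Bool.false_or] at e
  exact mem_of_code cd_W0L e

theorem W1_code :
    (ordOk [0, 3, 2, 5, 1, 4] 0 && srch true [(34630549633, 34630549633), (4565647489, 4565647489)]
      (fun c => !(triC 34663842817 c) ||
        ([oneC, 34647851137, 34634744001, 34652045505] : List ℕ).contains c)
      [0, 3, 2, 5, 1, 4] 0 0) = true := by decide +kernel

/-- The second four-group. -/
theorem mem_W1L (X : S) (h2 : X * X = 1) (h1 : Commute X (tvS 1)) (h0 : Commute X (px 2)⁻¹)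
    (h : Tri (px 1) X) : X ∈ W1L := by
  have e := srch_sound W1_code X (tws2 (tw_comm' h1 (by decide +kernel)) (tw_comm' h0 cd_px2i)) (fun _ => h2)
  rw [triC_of (px_cube 1) cd_px1 h, Bool.not_true, Bool.false_or] at e
  exact mem_of_code cd_W1L e

theorem W2_code :
    (ordOk [0, 3, 1, 4, 2, 5] 0 && srch true [(34630549633, 34630549633), (34663842817, 34663842817)]
      (fun c => !(triC 4565647489 c) ||
        ([oneC, 35705340033, 34638942337, 35713732737] : List ℕ).contains c)
      [0, 3, 1, 4, 2, 5] 0 0) = true := by decide +kernel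

/-- The third four-group. -/
theorem mem_W2L (X : S) (h2 : X * X = 1) (h1 : Commute X (tvS 1)) (h0 : Commute X (px 1))
    (h : Tri (px 2)⁻¹ X) : X ∈ W2L := by
  have e := srch_sound W2_code X (tws2 (tw_comm' h1 (by decide +kernel)) (tw_comm' h0 cd_px1)) (fun _ => h2)
  rw [triC_of (by rw [inv_pow, px_cube, inv_one]) cd_px2i h, Bool.not_true, Bool.false_or] at e
  exact mem_of_code cd_W2L e

end Cfsg.Agent.FFourLocal.Glue3
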