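import Cfsg.Agent.Lib.FFourLocal.Glue3.FinA

/-!
# Finite facts: fixed points in the residual group
-/

set_option autoImplicit false
set_option maxRecDepth 100000

namespace Cfsg.Agent.FFourLocal.Glue3

open Cfsg.Agent.SpThreeCent.SixEnd

/-- The elementary group of the first transvection and the shifts along it. -/
def P1 (X : S) : Prop :=
  Commute X (tvS 1) ∧ ∀ v : Fin 64, bil 1 v = false →
    (X : Equiv.Perm (Fin 64)) v = v ∨ (X : Equiv.Perm (Fin 64)) v = vadd v 1

/-- The same on numbers. -/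
def p1C (c : ℕ) : Bool :=
  (im c 0 == 1) && ((im c 1 == 2) || (im c 1 == 3)) && ((im c 2 == 4) || (im c 2 == 5)) &&
    ((im c 4 == 16) || (im c 4 == 17)) && ((im c 5 == 32) || (im c 5 == 33))

theorem p1C_of {X : S} (h : P1 X) : p1C (codeS X) = true := by
  obtain ⟨h0, h1, h2, -, h4, h5⟩ := im_code X.1
  have hv : ∀ v : Fin 64, bil 1 v = false →
      ((X : Equiv.Perm (Fin 64)) v).val = v.val ∨ ((X : Equiv.Perm (Fin 64)) v).val = (vadd v 1).val := fun v hv => by
    rcases h.2 v hv with e | e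
    · exact Or.inl (congrArg Fin.val e)
    · exact Or.inr (congrArg Fin.val e)
  have hone : ((X : Equiv.Perm (Fin 64)) 1).val = 1 :=
    congrArg Fin.val (fix_of_comm (show (1 : Fin 64) ≠ 0 by decide) h.1.eq)
  simp only [p1C, codeS, h0, h1, h2, h4, h5, Bool.and_eq_true, Bool.or_eq_true, beq_iff_eq]
  exact ⟨⟨⟨⟨hone, hv 2 (by decide +kernel)⟩, hv 4 (by decide +kernel)⟩, hv 16 (by decide +kernel)⟩,
    hv 32 (by decide +kernel)⟩

theorem P1_conj {X r : S} (hX : Commute X (tvS 1)) (hr : P1 r) : P1 (X * r * X⁻¹) := by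
  have h1 : (X : Equiv.Perm (Fin 64)) 1 = 1 := fix_of_comm (by decide) hX.eq
  refine ⟨(hX.mul_left hr.1).mul_left hX.inv_left, fun v hv => ?_⟩
  set u := (X : Equiv.Perm (Fin 64))⁻¹ v with hu
  have huv : (X : Equiv.Perm (Fin 64)) u = v := by simp [hu]
  have hbu : bil 1 u = false := by rw [← bil_apply X, h1, huv, hv]
  have e : ((X * r * X⁻¹ : S) : Equiv.Perm (Fin 64)) v =
      (X : Equiv.Perm (Fin 64)) ((r : Equiv.Perm (Fin 64)) u) := rfl
  rcases hr.2 u hbu with h | h
  · exact Or.inl (by rw [e, h, huv])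
  · exact Or.inr (by rw [e, h, S_linear, huv, h1])

theorem P1_list_aux : ∀ v : Fin 64, bil 1 v = false → ∀ X ∈ tvS 1 :: (W1L ++ W2L),
    (X : Equiv.Perm (Fin 64)) v = v ∨ (X : Equiv.Perm (Fin 64)) v = vadd v 1 := by decide +kernel

theorem P1_list_comm : ∀ X ∈ tvS 1 :: (W1L ++ W2L),
    commC (codeS X) (codeS (tvS 1)) = true := by decide +kernel

/-- The generators of the elementary group. -/
theorem P1_gen {X : S} (h : X ∈ tvS 1 :: (W1L ++ W2L)) : P1 X :=
  ⟨(commC_iff _ _).1 (P1_list_comm X h), fun v hv => P1_list_aux v hv X h⟩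

theorem P1_mem_code : ∀ a b c d : Fin 2, ∀ v : Fin 64,
    let k := pack6 1 (2 + a.val) (4 + b.val) v.val (16 + c.val) (32 + d.val)
    ((List.range 6).all fun i => bilN (im k 3) (im k i) == bilN (2 ^ 3) (2 ^ i)) = true →
      ([oneC, 34630549633].any fun x =>
        [oneC, 34647851137, 34634744001, 34652045505].any fun u =>
          [oneC, 35705340033, 34638942337, 35713732737].any fun w => k == mulC (mulC x u) w) = true := by
  decide +kernel

/-- The elementary group is the product of its generators. -/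
theorem P1_mem {X : S} (h : P1 X) :
    ∃ a ∈ [1, tvS 1], ∃ u ∈ W1L, ∃ v ∈ W2L, X = a * u * v := by
  have hp := p1C_of h
  obtain ⟨h0, h1, h2, h3, h4, h5⟩ := im_code X.1
  have hv := im_lt (codeS X) 3
  simp only [p1C, Bool.and_eq_true, Bool.or_eq_true, beq_iff_eq] at hp
  obtain ⟨⟨⟨⟨e0, e1⟩, e2⟩, e4⟩, e5⟩ := hp
  have hfin : ∀ {k n : ℕ}, n = k ∨ n = k + 1 → ∃ a : Fin 2, n = k + a.val := by
    intro k n hh
    rcases hh with hh | hh
    · exact ⟨0, by simpa using hh⟩
    · exact ⟨1, by simpa using hh⟩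
  obtain ⟨a, ea⟩ := hfin e1
  obtain ⟨b, eb⟩ := hfin e2
  obtain ⟨c, ec⟩ := hfin e4
  obtain ⟨d, ed⟩ := hfin e5
  have hk : pack6 1 (2 + a.val) (4 + b.val) (im (codeS X) 3) (16 + c.val) (32 + d.val) = codeS X := by
    rw [← e0, ← ea, ← eb, ← ec, ← ed, codeS, h0, h1, h2, h3, h4, h5]
    rfl
  have e := P1_mem_code a b c d ⟨im (codeS X) 3, hv⟩ (by
    simp only [hk, List.all_eq_true, List.mem_range, beq_iff_eq]
    exact fun i hi => bilN_code X 3 ⟨i, hi⟩)
  simp only [hk] at e
  simp only [List.any_eq_true, beq_iff_eq] at e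
  obtain ⟨a, ha, u, hu, v, hv, e⟩ := e
  rw [← (by decide +kernel : ([1, tvS 1] : List S).map codeS = [oneC, 34630549633]), List.mem_map] at ha
  rw [← cd_W1L, List.mem_map] at hu
  rw [← cd_W2L, List.mem_map] at hv
  obtain ⟨a', ha', rfl⟩ := ha
  obtain ⟨u', hu', rfl⟩ := hu
  obtain ⟨v', hv', rfl⟩ := hv
  exact ⟨a', ha', u', hu', v', hv', codeS_injective (by rw [e, codeS_mul, codeS_mul])⟩

theorem three_R_code :
    (ordOk [0, 3, 1, 2, 4, 5] 0 && srch false
      [(34630549640, 34630549640), (17718845697, 17718845697), (24261959937, 24261959937),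
        (41173601409, 41173601409), (17719045377, 17719045377)]
      (fun c => !(powC c 3 == oneC) || [oneC, 34630549640, 34628452489].contains c)
      [0, 3, 1, 2, 4, 5] 0 0) = true := by decide +kernel

theorem three_of_code {X : S} (e : ([oneC, 34630549640, 34628452489] : List ℕ).contains (codeS X) = true) :
    ∃ j : ℤ, X = (px 0) ^ j := by
  rw [List.contains_iff_mem] at e
  simp only [List.mem_cons, List.not_mem_nil, or_false] at e
  rcases e with e | e | e
  · exact ⟨0, by rw [zpow_zero]; exact codeS_injective (e.trans codeS_one.symm)⟩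
  · exact ⟨1, by rw [zpow_one]; exact codeS_injective (e.trans cd_px0.symm)⟩
  · exact ⟨-1, by rw [zpow_neg_one]; exact codeS_injective (e.trans cd_px0i.symm)⟩

/-- The elements of order three fixing `w`, `t` and the first four-group. -/
theorem three_R (X : S) (h3 : X ^ 3 = 1) (h0 : Commute X (px 0)) (hs : Commute X sw)
    (hW : ∀ r ∈ W0L, Commute X r) : ∃ j : ℤ, X = (px 0) ^ j := by
  have e := srch_sound three_R_code X (tws5 (tw_comm' h0 cd_px0) (tw_comm' hs cd_sw)
    (tw_comm' (hW _ (List.mem_cons_of_mem _ (List.mem_cons_self ..))) (by decide +kernel))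
    (tw_comm' (hW _ (List.mem_cons_of_mem _ (List.mem_cons_of_mem _ (List.mem_cons_self ..)))) (by decide +kernel))
    (tw_comm' (hW (tvS 6 * tvS 54) (by simp [W0L])) (by decide +kernel))) (fun he => absurd he (by decide))
  rw [← codeS_pow, h3, codeS_one, beq_self_eq_true, Bool.not_true, Bool.false_or] at e
  exact three_of_code e

theorem three_K_code :
    (ordOk [0, 3, 1, 2, 4, 5] 0 && srch false
      [(34630549640, 34630549640), (17718845697, 17718845697), (17718913281, 17718913281)]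
      (fun c => !(powC c 3 == oneC) || [oneC, 34630549640, 34628452489].contains c)
      [0, 3, 1, 2, 4, 5] 0 0) = true := by decide +kernel

/-- The elements of order three fixing `w`, `t` and `n₀`. -/
theorem three_K (X : S) (h3 : X ^ 3 = 1) (h0 : Commute X (px 0)) (hs : Commute X sw)
    (hn : Commute X n0el) : ∃ j : ℤ, X = (px 0) ^ j := by
  have e := srch_sound three_K_code X (tws3 (tw_comm' h0 cd_px0) (tw_comm' hs cd_sw)
    (tw_comm' hn cd_n0el)) (fun he => absurd he (by decide))
  rw [← codeS_pow, h3, codeS_one, beq_self_eq_true, Bool.not_true, Bool.false_or] at e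
  exact three_of_code e

theorem cK1_code : ∀ N ∈ ([34663841921, 34630288513, 34395407361] : List ℕ),
    (ordOk [0, 1, 4, 2, 5, 3] 0 && srch false
      [(34630549633, 34630549633), (35705340033, 35705340033), (34638942337, 34638942337), (N, N)]
      (fun c => p1C c || p1C (mulC N c)) [0, 1, 4, 2, 5, 3] 0 0) = true := by decide +kernel

theorem p1C_sound {X : S} (h1 : Commute X (tvS 1)) (h : p1C (codeS X) = true) : P1 X := by
  refine ⟨h1, fun v hv => ?_⟩
  have hv' := (show ∀ v : Fin 64, bil 1 v = false →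
    ∃ a b c d e : Fin 2, v.val = a.val * 1 + b.val * 2 + c.val * 4 + d.val * 16 + e.val * 32 by
      decide +kernel) v hv
  obtain ⟨h0, h1', h2, -, h4, h5⟩ := im_code X.1
  simp only [p1C, codeS, h0, h1', h2, h4, h5, Bool.and_eq_true, Bool.or_eq_true, beq_iff_eq] at h
  have hap := ap_code X.2 v
  have key : ∀ v : Fin 64, bil 1 v = false → ∀ a b c d : Fin 2,
      ap (pack6 1 (2 + a.val) (4 + b.val) 0 (16 + c.val) (32 + d.val)) v.val = v.val ∨
        ap (pack6 1 (2 + a.val) (4 + b.val) 0 (16 + c.val) (32 + d.val)) v.val = (vadd v 1).val := by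
    decide +kernel
  have hb3 : bitN v.val 3 = 0 := (show ∀ v : Fin 64, bil 1 v = false → bitN v.val 3 = 0 by
    decide +kernel) v hv
  obtain ⟨⟨⟨⟨e0, e1⟩, e2⟩, e4⟩, e5⟩ := h
  have hfin : ∀ {k n : ℕ}, n = k ∨ n = k + 1 → ∃ a : Fin 2, n = k + a.val := by
    intro k n hh
    rcases hh with hh | hh
    · exact ⟨0, by simpa using hh⟩
    · exact ⟨1, by simpa using hh⟩
  obtain ⟨a, ea⟩ := hfin e1
  obtain ⟨b, eb⟩ := hfin e2
  obtain ⟨c, ec⟩ := hfin e4
  obtain ⟨d, ed⟩ := hfin e5
  have hcode : ap (code X.1) v.val =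
      ap (pack6 1 (2 + a.val) (4 + b.val) 0 (16 + c.val) (32 + d.val)) v.val := by
    obtain ⟨k0, k1, k2, k3, k4, k5⟩ := im_pack6 (show 1 < 64 by norm_num)
      (show 2 + a.val < 64 by omega) (show 4 + b.val < 64 by omega) (show 0 < 64 by norm_num)
      (show 16 + c.val < 64 by omega) (show 32 + d.val < 64 by omega)
    simp only [ap, h0, h1', h2, h4, h5, k0, k1, k2, k3, k4, k5, e0, ea, eb, ec, ed, hb3, zero_mul,
      mul_zero]
  rw [hcode] at hap
  rcases key v hv a b c d with e | e
  · exact Or.inl (Fin.ext (hap.symm.trans e))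
  · exact Or.inr (Fin.ext (hap.symm.trans e))

/-- The fixed points of `x₁` modulo the flip. -/
theorem cK1 (X N : S) (hN : N = tvS 2 ∨ N = tvS 16 ∨ N = tvS 18) (h1 : Commute X (tvS 1))
    (hW : ∀ r ∈ W2L, Commute X r) (hc : Commute X N) : P1 X ∨ P1 (N * X) := by
  have hN' : codeS N ∈ ([34663841921, 34630288513, 34395407361] : List ℕ) ∧
      Commute N (tvS 1) := by
    rcases hN with rfl | rfl | rfl <;>
      exact ⟨by decide +kernel, (commC_iff _ _).1 (by decide +kernel)⟩
  have e := srch_sound (cK1_code _ hN'.1) X (tws4 (tw_comm' h1 (by decide +kernel))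
    (tw_comm' (hW (tvS 4 * tvS 5) (by simp [W2L])) (by decide +kernel))
    (tw_comm' (hW (tvS 32 * tvS 33) (by simp [W2L])) (by decide +kernel))
    (tw_comm' hc rfl)) (fun he => absurd he (by decide))
  rw [Bool.or_eq_true] at e
  rcases e with e | e
  · exact Or.inl (p1C_sound h1 e)
  · exact Or.inr (p1C_sound (hN'.2.mul_left h1) (by rw [codeS_mul]; exact e))

theorem cR1_code :
    (ordOk [0, 1, 4, 2, 5, 3] 0 && srch false
      [(34630549633, 34630549633), (35705340033, 35705340033), (34638942337, 34638942337),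
        (34647851137, 34647851137), (34634744001, 34634744001)]
      (fun c => p1C c) [0, 1, 4, 2, 5, 3] 0 0) = true := by decide +kernel

/-- The fixed points of `x₁` in the residual. -/
theorem cR1 (X : S) (h1 : Commute X (tvS 1)) (hW : ∀ r ∈ W1L ++ W2L, Commute X r) : P1 X :=
  p1C_sound h1 (srch_sound cR1_code X (tws5 (tw_comm' h1 (by decide +kernel))
    (tw_comm' (hW (tvS 4 * tvS 5) (by simp [W1L, W2L])) (by decide +kernel))
    (tw_comm' (hW (tvS 32 * tvS 33) (by simp [W1L, W2L])) (by decide +kernel))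
    (tw_comm' (hW (tvS 2 * tvS 3) (by simp [W1L, W2L])) (by decide +kernel))
    (tw_comm' (hW (tvS 16 * tvS 17) (by simp [W1L, W2L])) (by decide +kernel)))
    (fun he => absurd he (by decide)))

end Cfsg.Agent.FFourLocal.Glue3
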