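import Cfsg.Agent.Lib.FFourLocal.Glue3.FinB

/-!
# Finite facts: the fixed points of `b`
-/

set_option autoImplicit false
set_option maxRecDepth 100000

namespace Cfsg.Agent.FFourLocal.Glue3

open Cfsg.Agent.SpThreeCent.SixEnd

/-- Of order dividing eight, with the commutator with the first plane element too. -/
def Two8 (X : S) : Prop := X ^ 8 = 1 ∧ (px 0 * X * (px 0)⁻¹ * X⁻¹) ^ 8 = 1

/-- The same on numbers. -/
def two8C (c : ℕ) : Bool :=
  (powC c 8 == oneC) &&
    (powC (mulC (mulC (mulC 34630549640 c) 34628452489) (powC c 7)) 8 == oneC)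

theorem two8C_of {X : S} (h : Two8 X) : two8C (codeS X) = true := by
  have hi : X⁻¹ = X ^ 7 := inv_eq_of_mul_eq_one_right (by rw [← pow_succ', h.1])
  simp only [two8C, Bool.and_eq_true, beq_iff_eq, ← cd_px0, ← cd_px0i, ← codeS_mul, ← codeS_pow, ← codeS_one]
  exact ⟨congrArg codeS h.1, congrArg codeS (by rw [← hi]; exact h.2)⟩

theorem eight_of {X : S} {n : ℕ} (hn : ¬ 3 ∣ n) (h24 : X ^ 24 = 1) (h : X ^ n = 1) : X ^ 8 = 1 := by
  have hg : orderOf X ∣ Nat.gcd 24 n :=
    Nat.dvd_gcd (orderOf_dvd_of_pow_eq_one h24) (orderOf_dvd_of_pow_eq_one h)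
  have hd : Nat.gcd 24 n ∣ 8 := by
    have h3 : Nat.Coprime (Nat.gcd 24 n) 3 :=
      ((Nat.prime_three.coprime_iff_not_dvd).2 fun h => hn (h.trans (Nat.gcd_dvd_right _ _))).symm
    exact h3.dvd_of_dvd_mul_right (show Nat.gcd 24 n ∣ 8 * 3 from Nat.gcd_dvd_left 24 n)
  exact orderOf_dvd_iff_pow_eq_one.1 (hg.trans hd)

theorem cKb24_code :
    (ordOk [0, 3, 1, 2, 4, 5] 0 && srch false [(17718845697, 17718845697), (17718913281, 17718913281)]
      (fun c => powC c 24 == oneC) [0, 3, 1, 2, 4, 5] 0 0) = true := by decide +kernel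

/-- The exponent of the centralizer of `t` and `n₀`. -/
theorem cKb24 (X : S) (hs : Commute X sw) (hn : Commute X n0el) : X ^ 24 = 1 := by
  have e := srch_sound cKb24_code X (tws2 (tw_comm' hs cd_sw) (tw_comm' hn cd_n0el))
    (fun he => absurd he (by decide))
  rw [← codeS_pow, beq_iff_eq, ← codeS_one] at e
  exact codeS_injective e

/-- Commuting with the first four-group, on numbers. -/
def w0C (c : ℕ) : Bool :=
  commC c 24261959937 && commC c 41173601409 && commC c 17719045377

theorem w0C_sound {X : S} (h : w0C (codeS X) = true) : ∀ r ∈ W0L, Commute X r := by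
  have e1 : codeS (tvS 48 * tvS 54) = 24261959937 := by decide +kernel
  have e2 : codeS (tvS 6 * tvS 48) = 41173601409 := by decide +kernel
  have e3 : codeS (tvS 6 * tvS 54) = 17719045377 := by decide +kernel
  simp only [w0C, Bool.and_eq_true, ← e1, ← e2, ← e3, commC_iff] at h
  intro r hr
  simp only [W0L, List.mem_cons, List.not_mem_nil, or_false] at hr
  rcases hr with rfl | rfl | rfl | rfl
  exacts [Commute.one_right X, h.1.1, h.1.2, h.2]

theorem cKb_code :
    (ordOk [0, 3, 1, 2, 4, 5] 0 && srch false [(17718845697, 17718845697), (17718913281, 17718913281)]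
      (fun c => !(two8C c) || w0C c || w0C (mulC 17718913281 c)) [0, 3, 1, 2, 4, 5] 0 0) = true := by
  decide +kernel

/-- The fixed points of `b` modulo the flip. -/
theorem cKb (X : S) (hs : Commute X sw) (hn : Commute X n0el) (h8 : Two8 X) :
    (∀ r ∈ W0L, Commute X r) ∨ ∀ r ∈ W0L, Commute (n0el * X) r := by
  have e := srch_sound cKb_code X (tws2 (tw_comm' hs cd_sw) (tw_comm' hn cd_n0el))
    (fun he => absurd he (by decide))
  rw [two8C_of h8, Bool.not_true, Bool.false_or, Bool.or_eq_true] at e
  rcases e with e | e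
  · exact Or.inl (w0C_sound e)
  · exact Or.inr (w0C_sound (by rw [codeS_mul, cd_n0el]; exact e))

theorem cRb24_code :
    (ordOk [0, 3, 1, 2, 4, 5] 0 && srch false [(17718845697, 17718845697), (24261959937, 24261959937),
        (41173601409, 41173601409)]
      (fun c => powC c 24 == oneC) [0, 3, 1, 2, 4, 5] 0 0) = true := by decide +kernel

/-- The exponent of the centralizer of `t` and the first four-group. -/
theorem cRb24 (X : S) (hs : Commute X sw) (hW : ∀ r ∈ W0L, Commute X r) : X ^ 24 = 1 := by
  have e := srch_sound cRb24_code X (tws3 (tw_comm' hs cd_sw)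
    (tw_comm' (hW (tvS 48 * tvS 54) (by simp [W0L])) (by decide +kernel))
    (tw_comm' (hW (tvS 6 * tvS 48) (by simp [W0L])) (by decide +kernel)))
    (fun he => absurd he (by decide))
  rw [← codeS_pow, beq_iff_eq, ← codeS_one] at e
  exact codeS_injective e

/-- The elements of exponent four fixing `t`, `w y` (or `w y⁻¹`). -/
def IsQ (p X : S) : Prop := Commute X sw ∧ Commute X p ∧ X ^ 4 = 1

/-- The element `w y`. -/
def pP : S := px 0 * pY

/-- The element `w y⁻¹`. -/
def pM : S := px 0 * pY⁻¹

theorem cd_pP : codeS pP = 38959186952 := by decide +kernel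
theorem cd_pM : codeS pM = 4331029640 := by decide +kernel

/-- The same on numbers. -/
def isQC (p c : ℕ) : Bool := commC c 17718845697 && commC c p && (powC c 4 == oneC)

theorem isQC_sound {X p : S} {n : ℕ} (hp : codeS p = n) (h : isQC n (codeS X) = true) : IsQ p X := by
  subst hp
  simp only [isQC, Bool.and_eq_true, ← cd_sw, commC_iff, beq_iff_eq, ← codeS_pow, ← codeS_one] at h
  exact ⟨h.1.1, h.1.2, codeS_injective h.2⟩

theorem Qp_code :
    (ordOk [0, 3, 1, 4, 2, 5] 0 && srch false [(17718845697, 17718845697), (38959186952, 38959186952)]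
      (fun c => !(powC c 4 == oneC) || [34630287489, 17718845697, 32998907079, 49910332743, 25366879985,
        42278305649, 34078445239, 50989870903].contains c) [0, 3, 1, 4, 2, 5] 0 0) = true := by
  decide +kernel

theorem Qp_mem {X : S} (h : IsQ pP X) :
    codeS X ∈ ([34630287489, 17718845697, 32998907079, 49910332743, 25366879985,
      42278305649, 34078445239, 50989870903] : List ℕ) := by
  have e := srch_sound Qp_code X (tws2 (tw_comm' h.1 cd_sw) (tw_comm' h.2.1 cd_pP))
    (fun he => absurd he (by decide))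
  rw [← codeS_pow, h.2.2, codeS_one, beq_self_eq_true, Bool.not_true, Bool.false_or,
    List.contains_iff_mem] at e
  exact e

theorem Qm_code :
    (ordOk [0, 3, 1, 4, 2, 5] 0 && srch false [(17718845697, 17718845697), (4331029640, 4331029640)]
      (fun c => !(powC c 4 == oneC) || [34630287489, 17718845697, 34090998983, 51002424647, 25354292913,
        42265718577, 32998940407, 49910366071].contains c) [0, 3, 1, 4, 2, 5] 0 0) = true := by
  decide +kernel

theorem Qm_mem {X : S} (h : IsQ pM X) :
    codeS X ∈ ([34630287489, 17718845697, 34090998983, 51002424647, 25354292913,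
      42265718577, 32998940407, 49910366071] : List ℕ) := by
  have e := srch_sound Qm_code X (tws2 (tw_comm' h.1 cd_sw) (tw_comm' h.2.1 cd_pM))
    (fun he => absurd he (by decide))
  rw [← codeS_pow, h.2.2, codeS_one, beq_self_eq_true, Bool.not_true, Bool.false_or,
    List.contains_iff_mem] at e
  exact e

theorem QQ_comm_code : ∀ c ∈ ([34630287489, 17718845697, 32998907079, 49910332743, 25366879985,
      42278305649, 34078445239, 50989870903] : List ℕ),
    ∀ d ∈ ([34630287489, 17718845697, 34090998983, 51002424647, 25354292913,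
      42265718577, 32998940407, 49910366071] : List ℕ), commC c d = true := by decide +kernel

/-- The two groups commute. -/
theorem QQ_comm {X Y : S} (hX : IsQ pP X) (hY : IsQ pM Y) : Commute X Y :=
  (commC_iff X Y).1 (QQ_comm_code _ (Qp_mem hX) _ (Qm_mem hY))

theorem Qp_facts : ∀ c ∈ ([34630287489, 17718845697, 32998907079, 49910332743, 25366879985,
      42278305649, 34078445239, 50989870903] : List ℕ),
    w0C c = true ∧
    (mulC (mulC c (mulC (mulC 34630549640 c) 34628452489)) (mulC (mulC 34628452489 c) 34630549640) = oneC ∨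
      mulC (mulC c (mulC (mulC 34630549640 c) 34628452489)) (mulC (mulC 34628452489 c) 34630549640) = 17718845697) ∧
    (mulC (mulC c (mulC (mulC 34628452489 c) 34630549640)) (mulC (mulC 34630549640 c) 34628452489) = oneC ∨
      mulC (mulC c (mulC (mulC 34628452489 c) 34630549640)) (mulC (mulC 34630549640 c) 34628452489) = 17718845697) ∧
    ∀ d ∈ ([34630287489, 17718845697, 32998907079, 49910332743, 25366879985,
      42278305649, 34078445239, 50989870903] : List ℕ), isQC 38959186952 (mulC c d) = true := by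
  decide +kernel

theorem Qm_facts : ∀ c ∈ ([34630287489, 17718845697, 34090998983, 51002424647, 25354292913,
      42265718577, 32998940407, 49910366071] : List ℕ),
    w0C c = true ∧
    (mulC (mulC c (mulC (mulC 34630549640 c) 34628452489)) (mulC (mulC 34628452489 c) 34630549640) = oneC ∨
      mulC (mulC c (mulC (mulC 34630549640 c) 34628452489)) (mulC (mulC 34628452489 c) 34630549640) = 17718845697) ∧
    (mulC (mulC c (mulC (mulC 34628452489 c) 34630549640)) (mulC (mulC 34630549640 c) 34628452489) = oneC ∨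
      mulC (mulC c (mulC (mulC 34628452489 c) 34630549640)) (mulC (mulC 34630549640 c) 34628452489) = 17718845697) ∧
    ∀ d ∈ ([34630287489, 17718845697, 34090998983, 51002424647, 25354292913,
      42265718577, 32998940407, 49910366071] : List ℕ), isQC 4331029640 (mulC c d) = true := by
  decide +kernel

theorem IsQ_mul {p X Y : S} (hp : p = pP ∨ p = pM) (hX : IsQ p X) (hY : IsQ p Y) : IsQ p (X * Y) := by
  rcases hp with rfl | rfl
  · exact isQC_sound cd_pP (by rw [codeS_mul]; exact (Qp_facts _ (Qp_mem hX)).2.2.2 _ (Qp_mem hY))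
  · exact isQC_sound cd_pM (by rw [codeS_mul]; exact (Qm_facts _ (Qm_mem hX)).2.2.2 _ (Qm_mem hY))

theorem IsQ_W0 {p X : S} (hp : p = pP ∨ p = pM) (hX : IsQ p X) : ∀ r ∈ W0L, Commute X r := by
  rcases hp with rfl | rfl
  · exact w0C_sound (Qp_facts _ (Qp_mem hX)).1
  · exact w0C_sound (Qm_facts _ (Qm_mem hX)).1

/-- The product of the three conjugates lies in `⟨t⟩`. -/
theorem IsQ_tri {p X : S} (hp : p = pP ∨ p = pM) (hX : IsQ p X) {e : S} (he : e = px 0 ∨ e = (px 0)⁻¹) :
    X * (e * X * e⁻¹) * (e⁻¹ * X * e) = 1 ∨ X * (e * X * e⁻¹) * (e⁻¹ * X * e) = sw := by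
  have key : ∀ {c : ℕ}, codeS (X * (e * X * e⁻¹) * (e⁻¹ * X * e)) = c → (c = oneC ∨ c = 17718845697) →
      X * (e * X * e⁻¹) * (e⁻¹ * X * e) = 1 ∨ X * (e * X * e⁻¹) * (e⁻¹ * X * e) = sw := by
    intro c hc h
    rcases h with h | h
    · exact Or.inl (codeS_injective (by rw [hc, h, codeS_one]))
    · exact Or.inr (codeS_injective (by rw [hc, h, cd_sw]))
  rcases he with rfl | rfl
  · refine key (by rw [codeS_mul, codeS_mul, codeS_mul, codeS_mul, codeS_mul, codeS_mul, cd_px0, cd_px0i]) ?_
    rcases hp with rfl | rfl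
    exacts [(Qp_facts _ (Qp_mem hX)).2.1, (Qm_facts _ (Qm_mem hX)).2.1]
  · refine key (by rw [inv_inv, codeS_mul, codeS_mul, codeS_mul, codeS_mul, codeS_mul, codeS_mul, cd_px0, cd_px0i]) ?_
    rcases hp with rfl | rfl
    exacts [(Qp_facts _ (Qp_mem hX)).2.2.1, (Qm_facts _ (Qm_mem hX)).2.2.1]

theorem cRb_code :
    (ordOk [0, 3, 1, 2, 4, 5] 0 && srch false [(17718845697, 17718845697), (24261959937, 24261959937),
        (41173601409, 41173601409)]
      (fun c => !(two8C c) ||
        [oneC, 17718845697].any fun s => [oneC, 24261959937, 41173601409, 17719045377].any fun r =>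
          [34630287489, 51002424647, 42265718577, 49910366071].any fun m =>
            isQC 38959186952 (mulC (mulC (mulC s r) c) m))
      [0, 3, 1, 2, 4, 5] 0 0) = true := by decide +kernel

theorem cd_mInv : ([1, (qAm * qBm)⁻¹, qBm⁻¹, qAm⁻¹] : List S).map codeS =
    [34630287489, 51002424647, 42265718577, 49910366071] := by decide +kernel

theorem qm_isQ : ∀ m ∈ ([1, (qAm * qBm)⁻¹, qBm⁻¹, qAm⁻¹] : List S), isQC 4331029640 (codeS m) = true := by
  decide +kernel

/-- The fixed points of `b` in the residual. -/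
theorem cRb (X : S) (hs : Commute X sw) (hW : ∀ r ∈ W0L, Commute X r) (h8 : Two8 X) :
    ∃ s ∈ [1, sw], ∃ r ∈ W0L, ∃ m : S, IsQ pM m ∧ IsQ pP (s * r * X * m) := by
  have e := srch_sound cRb_code X (tws3 (tw_comm' hs cd_sw)
    (tw_comm' (hW (tvS 48 * tvS 54) (by simp [W0L])) (by decide +kernel))
    (tw_comm' (hW (tvS 6 * tvS 48) (by simp [W0L])) (by decide +kernel)))
    (fun he => absurd he (by decide))
  rw [two8C_of h8, Bool.not_true, Bool.false_or] at e
  simp only [List.any_eq_true] at e
  obtain ⟨s, hs', r, hr, m, hm, e⟩ := e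
  rw [← (by decide +kernel : ([1, sw] : List S).map codeS = [oneC, 17718845697]), List.mem_map] at hs'
  rw [← cd_W0L, List.mem_map] at hr
  rw [← cd_mInv, List.mem_map] at hm
  obtain ⟨s', hs', rfl⟩ := hs'
  obtain ⟨r', hr', rfl⟩ := hr
  obtain ⟨m', hm', rfl⟩ := hm
  exact ⟨s', hs', r', hr', m', isQC_sound cd_pM (qm_isQ m' hm'),
    isQC_sound cd_pP (by rw [codeS_mul, codeS_mul, codeS_mul]; exact e)⟩

theorem witness_facts :
    (isQC 38959186952 (codeS qAp) && isQC 38959186952 (codeS qBp) &&
      isQC 4331029640 (codeS qAm) && isQC 4331029640 (codeS qBm) &&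
      (codeS (qAp * qAm) == codeS qA) && (codeS (qBp * qBm) == codeS qB) &&
      commC (codeS qA) 17718913281 && commC (codeS qB) 17718913281 &&
      (codeS (qA * (pY * qA * pY⁻¹) * (pY ^ 2 * qA * (pY ^ 2)⁻¹)) == oneC) &&
      (codeS (qB * (pY * qB * pY⁻¹) * (pY ^ 2 * qB * (pY ^ 2)⁻¹)) == oneC)) = true := by decide +kernel

theorem S2b_code :
    (ordOk [0, 3, 1, 2, 4, 5] 0 && srch false [(17718845697, 17718845697), (17718913281, 17718913281),
        (24261959937, 24261959937), (41173601409, 41173601409)]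
      (fun c => !(two8C c) || !(commC c 49897787063) || !(commC c 42278280385) ||
        [oneC, 17718845697, 17719045377, 34630487169].contains c)
      [0, 3, 1, 2, 4, 5] 0 0) = true := by decide +kernel

/-- The fixed points of `b` in the second subgroup. -/
theorem S2b (X : S) (hs : Commute X sw) (hn : Commute X n0el) (hW : ∀ r ∈ W0L, Commute X r)
    (h8 : Two8 X) (hA : Commute X (pY * qA * pY⁻¹)) (hB : Commute X (pY * qB * pY⁻¹)) :
    X ∈ ([1, sw, hel, sw * hel] : List S) := by
  have e := srch_sound S2b_code X (tws4 (tw_comm' hs cd_sw) (tw_comm' hn cd_n0el)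
    (tw_comm' (hW (tvS 48 * tvS 54) (by simp [W0L])) (by decide +kernel))
    (tw_comm' (hW (tvS 6 * tvS 48) (by simp [W0L])) (by decide +kernel)))
    (fun he => absurd he (by decide))
  have eA : codeS (pY * qA * pY⁻¹) = 49897787063 := by decide +kernel
  have eB : codeS (pY * qB * pY⁻¹) = 42278280385 := by decide +kernel
  rw [two8C_of h8, ← eA, ← eB, (commC_iff _ _).2 hA, (commC_iff _ _).2 hB, Bool.not_true, Bool.false_or,
    Bool.false_or, Bool.false_or] at e
  exact mem_of_code (by decide +kernel) e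

end Cfsg.Agent.FFourLocal.Glue3
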