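import Cfsg.Agent.Lib.FFourLocal.Glue3.FinA

/-!
# Finite facts: rigidity in the short coordinates
-/

set_option autoImplicit false
set_option maxRecDepth 100000

namespace Cfsg.Agent.FFourLocal.Glue3

open Cfsg.Agent.SpThreeCent.SixEnd

/-- The image of the first long plane element. -/
def T1 : S := px 2 * (px 1)⁻¹

/-- The image of the second one. -/
def T2 : S := px 2 * px 1

theorem rig2_code :
    (ordOk [0, 3, 1, 4, 2, 5] 0 && srch true
      [(34630549640, 34630549640), (34630549633, 34630549633), (38958924801, 38958924801),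
        (38690489473, 4599202817)]
      (fun c => !(powC (mulC (mulC c 34663841921) 38925254785) 2 == oneC) || c == 17718845697)
      [0, 3, 1, 4, 2, 5] 0 0) = true := by decide +kernel

theorem rig2 (X : S) (h2 : X * X = 1) (h0 : Commute X (px 0)) (h1 : Commute X (tvS 1))
    (hT2 : Commute X T2) (hT1 : X * T1 * X⁻¹ = T1⁻¹) (hr : (X * tvS 2 * tvS 4) ^ 2 = 1) :
    X = sh 6 48 := by
  have h := srch_sound rig2_code X (tws4 (tw_comm' h0 cd_px0) (tw_comm' h1 (by decide +kernel))
    (tw_comm' hT2 (by decide +kernel)) (tw_of' (mul_eq_of_conj hT1) (by decide +kernel) (by decide +kernel)))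
    (fun _ => h2)
  have e : powC (mulC (mulC (codeS X) 34663841921) 38925254785) 2 = oneC := by
    rw [← (by decide +kernel : codeS (tvS 2) = 34663841921), ← (by decide +kernel : codeS (tvS 4) = 38925254785),
      ← codeS_mul, ← codeS_mul, ← codeS_pow, hr, codeS_one]
  rw [e, beq_self_eq_true, Bool.not_true, Bool.false_or] at h
  exact eq_of_code (by decide +kernel) h

theorem rig4_code :
    (ordOk [0, 3, 1, 4, 2, 5] 0 && srch true
      [(34630549640, 34630549640), (34630549633, 34630549633), (38690489473, 38690489473),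
        (38958924801, 4330767489), (17718845697, 17718845697)]
      (fun c => !(powC (mulC (mulC c 34663841921) 38925254785) 2 == oneC) || c == 19933438209)
      [0, 3, 1, 4, 2, 5] 0 0) = true := by decide +kernel

theorem rig4 (X : S) (h2 : X * X = 1) (h0 : Commute X (px 0)) (h1 : Commute X (tvS 1))
    (hT1 : Commute X T1) (hT2 : X * T2 * X⁻¹ = T2⁻¹) (hq : Commute X (sh 6 48))
    (hr : (X * tvS 2 * tvS 4) ^ 2 = 1) : X = sh 6 50 := by
  have h := srch_sound rig4_code X (tws5 (tw_comm' h0 cd_px0) (tw_comm' h1 (by decide +kernel))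
    (tw_comm' hT1 (by decide +kernel)) (tw_of' (mul_eq_of_conj hT2) (by decide +kernel) (by decide +kernel))
    (tw_comm' hq (by decide +kernel)))
    (fun _ => h2)
  have e : powC (mulC (mulC (codeS X) 34663841921) 38925254785) 2 = oneC := by
    rw [← (by decide +kernel : codeS (tvS 2) = 34663841921), ← (by decide +kernel : codeS (tvS 4) = 38925254785),
      ← codeS_mul, ← codeS_mul, ← codeS_pow, hr, codeS_one]
  rw [e, beq_self_eq_true, Bool.not_true, Bool.false_or] at h
  exact eq_of_code (by decide +kernel) h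

theorem rig416_code :
    (ordOk [0, 3, 1, 4, 2, 5] 0 && srch true
      [(34630549640, 34630549640), (34630549633, 34630549633), (19396626689, 19396626689),
        (19933438209, 19933438209)]
      (fun c => !(powC (mulC c 34663841921) 3 == oneC) || c == 34932485121)
      [0, 3, 1, 4, 2, 5] 0 0) = true := by decide +kernel

theorem rig416 (X : S) (h2 : X * X = 1) (h0 : Commute X (px 0)) (h1 : Commute X (tvS 1))
    (h16 : Commute X (sh 20 38)) (h4 : Commute X (sh 6 50)) (hr : (X * tvS 2) ^ 3 = 1) :
    X = tvS 50 := by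
  have h := srch_sound rig416_code X (tws4 (tw_comm' h0 cd_px0) (tw_comm' h1 (by decide +kernel))
    (tw_comm' h16 (by decide +kernel)) (tw_comm' h4 (by decide +kernel)))
    (fun _ => h2)
  have e : powC (mulC (codeS X) 34663841921) 3 = oneC := by
    rw [← (by decide +kernel : codeS (tvS 2) = 34663841921), ← codeS_mul, ← codeS_pow, hr, codeS_one]
  rw [e, beq_self_eq_true, Bool.not_true, Bool.false_or] at h
  exact eq_of_code (by decide +kernel) h

theorem rigXi_code :
    (ordOk [1, 4, 0, 3, 2, 5] 0 && srch true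
      [(34663842817, 34663842817), (34630549633, 34630549633), (34630418561, 34630418561)]
      (fun c => !(powC (mulC c 34630287497) 4 == oneC) || (powC (mulC c 34630287497) 2 == oneC) ||
        !(powC (mulC c 38925254785) 4 == oneC) || (powC (mulC c 38925254785) 2 == oneC) || c == 34638680193)
      [1, 4, 0, 3, 2, 5] 0 0) = true := by decide +kernel

theorem rigXi (X : S) (h2 : X * X = 1) (h0 : Commute X (px 1)) (h1 : Commute X (tvS 1))
    (h32 : Commute X (tvS 32)) (h8 : (X * tvS 8) ^ 4 = 1 ∧ (X * tvS 8) ^ 2 ≠ 1)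
    (h4 : (X * tvS 4) ^ 4 = 1 ∧ (X * tvS 4) ^ 2 ≠ 1) : X = sh 1 32 := by
  have h := srch_sound rigXi_code X (tws3 (tw_comm' h0 cd_px1) (tw_comm' h1 (by decide +kernel))
    (tw_comm' h32 (by decide +kernel))) (fun _ => h2)
  have hne : ∀ {Y : S}, Y ≠ 1 → codeS Y ≠ oneC := fun hY e => hY (codeS_injective (e.trans codeS_one.symm))
  have e8 : codeS (tvS 8) = 34630287497 := by decide +kernel
  have e4 : codeS (tvS 4) = 38925254785 := by decide +kernel
  have a1 : powC (mulC (codeS X) 34630287497) 4 = oneC := by
    rw [← e8, ← codeS_mul, ← codeS_pow, h8.1, codeS_one]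
  have a2 : powC (mulC (codeS X) 34630287497) 2 ≠ oneC := by
    rw [← e8, ← codeS_mul, ← codeS_pow]; exact hne h8.2
  have a3 : powC (mulC (codeS X) 38925254785) 4 = oneC := by
    rw [← e4, ← codeS_mul, ← codeS_pow, h4.1, codeS_one]
  have a4 : powC (mulC (codeS X) 38925254785) 2 ≠ oneC := by
    rw [← e4, ← codeS_mul, ← codeS_pow]; exact hne h4.2
  rw [a1, a3, beq_self_eq_true, Bool.not_true, Bool.false_or, beq_false_of_ne a2, beq_false_of_ne a4,
    Bool.false_or, Bool.false_or, Bool.false_or] at h
  exact eq_of_code (by decide +kernel) h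

end Cfsg.Agent.FFourLocal.Glue3
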