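import Cfsg.Agent.Lib.FFourLocal.Glue3.Sigma

/-!
# The gluing element is fixed by the plane exchange
-/

set_option autoImplicit false
set_option maxRecDepth 100000

namespace Cfsg.Agent.FFourLocal.Glue3

open Subgroup Cfsg.Agent.SpThreeCent.SixEnd

universe u

theorem dGen_tv16 : tvS 16 ∈ closure dGen :=
  dGen_word (L := [sw, tvS 48 * tvS 54, pB, hel, pB, tvS 48 * tvS 54]) (by decide +kernel) (by decide +kernel)

theorem dGen_tv4 : tvS 4 ∈ closure dGen :=
  dGen_word (L := [sw, hel, pB, tvS 48 * tvS 54, pB, hel]) (by decide +kernel) (by decide +kernel)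

namespace Fr

variable {G : Type u} [Group G] {a b y w g : G} {φ ψ : S →* G}

theorem Q0_center (F : Fr a b y w g φ ψ) {q : G} (hq : q ∈ Qd φ (ψ sw) 0)
    (hc : ∀ q' ∈ Qd φ (ψ sw) 0, Commute q q') : q = 1 ∨ q = ψ sw := by
  obtain ⟨X, hX, rfl⟩ := F.Q0_iff.1 hq
  rcases Qp_center _ (Qp_mem hX) (by
    rw [List.all_eq_true]
    intro d hd
    obtain ⟨Y, -, rfl, hY⟩ := Qp_elems d hd
    exact (commC_iff _ _).2 (F.hB.commute_iff.1 (hc _ (F.Q0_iff.2 ⟨Y, isQC_sound cd_pP hY, rfl⟩)))) with e | e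
  · exact Or.inl (by rw [codeS_injective (e.trans codeS_one.symm), map_one])
  · exact Or.inr (by rw [codeS_injective (e.trans cd_sw.symm)])

/-- The first component of a product fixed by a permuting element. -/
theorem comp0 (F : Fr a b y w g φ ψ) {q : Fin 4 → G} (hq : ∀ i, q i ∈ Qd φ (ψ sw) i) {P : S}
    {π : Fin 4 → Fin 4} (hπ : Function.Injective π) (hP : ∀ i, moveC P i (π i) = true) {j : Fin 4}
    (hj : π j = 0) (hs : Commute (φ P) (q 0 * q 1 * q 2 * q 3)) :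
    (q 0)⁻¹ * (φ P * q j * (φ P)⁻¹) = 1 ∨ (q 0)⁻¹ * (φ P * q j * (φ P)⁻¹) = ψ sw := by
  set C0 := centralizer (Qd φ (ψ sw) 0) with hC0
  have inC : ∀ {i : Fin 4}, i ≠ 0 → ∀ {x : G}, x ∈ Qd φ (ψ sw) i → x ∈ C0 := fun hi x hx =>
    mem_centralizer_iff.2 fun z hz => (F.Q_comm hi hx hz).symm.eq
  set r := fun i => φ P * q i * (φ P)⁻¹ with hr
  have hrQ : ∀ i, r i ∈ Qd φ (ψ sw) (π i) := fun i => F.Q_move (hP i) (hq i)
  have hrj : r j ∈ Qd φ (ψ sw) 0 := hj ▸ hrQ j
  have hrC : ∀ i, i ≠ j → r i ∈ C0 := fun i hi => inC (fun h => hi (hπ (h.trans hj.symm))) (hrQ i)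
  have hcomm : ∀ {x : G}, x ∈ C0 → Commute (r j) x := fun hx => mem_centralizer_iff.1 hx _ hrj
  have hs' : r 0 * r 1 * r 2 * r 3 = q 0 * q 1 * q 2 * q 3 := by
    simp only [hr, conj_mul]
    rw [hs.eq, mul_inv_cancel_right]
  have hrest : q 1 * q 2 * q 3 ∈ C0 :=
    mul_mem (mul_mem (inC (by decide) (hq 1)) (inC (by decide) (hq 2))) (inC (by decide) (hq 3))
  have hsplit : ∃ c ∈ C0, r 0 * r 1 * r 2 * r 3 = r j * c := by
    fin_cases j
    · exact ⟨r 1 * r 2 * r 3, mul_mem (mul_mem (hrC 1 (by decide)) (hrC 2 (by decide))) (hrC 3 (by decide)),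
        by show r 0 * r 1 * r 2 * r 3 = r 0 * (r 1 * r 2 * r 3); group⟩
    · refine ⟨r 0 * r 2 * r 3, mul_mem (mul_mem (hrC 0 (by decide)) (hrC 2 (by decide))) (hrC 3 (by decide)), ?_⟩
      show r 0 * r 1 * r 2 * r 3 = r 1 * (r 0 * r 2 * r 3)
      rw [show r 1 * (r 0 * r 2 * r 3) = (r 1 * r 0) * r 2 * r 3 by group,
        show r 1 * r 0 = r 0 * r 1 from (hcomm (hrC 0 (by decide))).eq]
    · refine ⟨r 0 * r 1 * r 3, mul_mem (mul_mem (hrC 0 (by decide)) (hrC 1 (by decide))) (hrC 3 (by decide)), ?_⟩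
      show r 0 * r 1 * r 2 * r 3 = r 2 * (r 0 * r 1 * r 3)
      rw [show r 2 * (r 0 * r 1 * r 3) = (r 2 * (r 0 * r 1)) * r 3 by group,
        show r 2 * (r 0 * r 1) = r 0 * r 1 * r 2 from (hcomm (mul_mem (hrC 0 (by decide)) (hrC 1 (by decide)))).eq]
    · refine ⟨r 0 * r 1 * r 2, mul_mem (mul_mem (hrC 0 (by decide)) (hrC 1 (by decide))) (hrC 2 (by decide)), ?_⟩
      exact (hcomm (mul_mem (mul_mem (hrC 0 (by decide)) (hrC 1 (by decide))) (hrC 2 (by decide))) :
        Commute (r 3) (r 0 * r 1 * r 2)).eq.symm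
  obtain ⟨c, hc, e⟩ := hsplit
  have hd : (q 0)⁻¹ * r j ∈ C0 := by
    have he : r j * c = q 0 * (q 1 * q 2 * q 3) := by rw [← e, hs']; group
    rw [eq_mul_inv_of_mul_eq he, ← mul_assoc, inv_mul_cancel_left]
    exact mul_mem hrest (inv_mem hc)
  exact F.Q0_center (F.Q_mul (F.Q_inv (hq 0)) hrj) fun z hz => ((mem_centralizer_iff.1 hd) z hz).symm

theorem n012_psi [Finite G] (F : Fr a b y w g φ ψ) : ∃ N : S,
    codeS N ∈ ([mulC 17718913281 34630549633, mulC 17718913281 34630287497,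
      mulC 17718913281 34628452488] : List ℕ) ∧ N * N = 1 ∧
    ∀ Y : S, φ (tvS 8 * tvS 16 * tvS 32) * ψ Y * (φ (tvS 8 * tvS 16 * tvS 32))⁻¹ = ψ (N * Y * N⁻¹) := by
  set e := tvS 16 * tvS 32 * sw with he
  have hp : Plane12 e := plane12_of (by decide +kernel)
  obtain ⟨X, hX, hX2⟩ := F.hB.invol (c := φ e)
    (by rw [← F.phi_b]; exact ((commC_iff _ _).1 (by decide +kernel)).map φ)
    (by rw [← map_mul, show e * e = 1 from codeS_injective (by decide +kernel), map_one])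
  obtain ⟨j, hj⟩ := cand_t0 X hX2 (F.hB.inj (by
      rw [map_mul, map_mul, map_inv, map_inv, ← hX, F.psi_w, ← F.phi_w, ← map_inv, ← map_inv, ← map_mul, ← map_mul]
      exact congrArg φ (codeS_injective (by decide +kernel))))
    (F.hB.commute_iff.1 (by
      rw [← hX, show px 1 = tvS 2 * tvS 16 from codeS_injective (by decide +kernel)]
      exact F.DD_comm hp (mul_mem dGen_tv2 dGen_tv16)))
    (F.hB.commute_iff.1 (by
      rw [← hX, show px 2 = tvS 4 * tvS 32 from codeS_injective (by decide +kernel)]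
      exact F.DD_comm hp (mul_mem dGen_tv4 dGen_tv32)))
  refine ⟨n0el * X, ?_, ?_, fun Y => ?_⟩
  · rw [hj, pow_eq_pow_mod j (px_cube 0)]
    exact (show ∀ r : Fin 3, codeS (n0el * (px 0 ^ r.val * tvS 1 * (px 0 ^ r.val)⁻¹)) ∈
      ([mulC 17718913281 34630549633, mulC 17718913281 34630287497,
        mulC 17718913281 34628452488] : List ℕ) by decide +kernel) ⟨j % 3, Nat.mod_lt _ (by norm_num)⟩
  · rw [hj, pow_eq_pow_mod j (px_cube 0)]
    exact codeS_injective ((show ∀ r : Fin 3, codeS (n0el * (px 0 ^ r.val * tvS 1 * (px 0 ^ r.val)⁻¹) *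
      (n0el * (px 0 ^ r.val * tvS 1 * (px 0 ^ r.val)⁻¹))) = codeS 1 by decide +kernel)
        ⟨j % 3, Nat.mod_lt _ (by norm_num)⟩)
  · have hm : φ (tvS 8 * tvS 16 * tvS 32) = ψ (n0el * X) * φ sw := by
      rw [map_mul ψ, ← F.phi_n0, ← hX, ← map_mul, ← map_mul]
      exact congrArg φ (codeS_injective (by decide +kernel))
    rw [hm, map_mul ψ (n0el * X * Y) _, map_mul ψ (n0el * X) Y, map_inv,
      show ψ (n0el * X) * φ sw * ψ Y * (ψ (n0el * X) * φ sw)⁻¹ =
        ψ (n0el * X) * (φ sw * ψ Y * (φ sw)⁻¹) * (ψ (n0el * X))⁻¹ by group,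
      (F.tB Y).eq, mul_inv_cancel_right]

/-- Two products fixed by the three flips differ by `t`. -/
theorem fixed_unique [Finite G] (F : Fr a b y w g φ ψ) {s s' : G} (hs : s ∈ grpR0 φ (ψ sw))
    (hs' : s' ∈ grpR0 φ (ψ sw)) (h : ∀ v ∈ ([8, 16, 32] : List (Fin 64)), Commute (φ (tvS v)) s)
    (h' : ∀ v ∈ ([8, 16, 32] : List (Fin 64)), Commute (φ (tvS v)) s') :
    (s = 1 ∨ s = ψ sw) ∨ (s' = 1 ∨ s' = ψ sw) ∨ s' = s ∨ s' = s * ψ sw := by
  obtain ⟨N, hN, hN2, hNc⟩ := F.n012_psi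
  have hT : ∀ {x : G}, (x = 1 ∨ x = ψ sw) → ∀ {v : S}, Commute (φ v) x := by
    rintro x (rfl | rfl) v
    exacts [Commute.one_right _, (F.tA v).symm]
  have prep : ∀ {s : G}, s ∈ grpR0 φ (ψ sw) → (∀ v ∈ ([8, 16, 32] : List (Fin 64)), Commute (φ (tvS v)) s) →
      ∃ X τ, IsQ pP X ∧ (τ = 1 ∨ τ = ψ sw) ∧
        ([oneC, 17718845697].contains (mulC (powC (codeS X) 3) (mulC (mulC (codeS N) (codeS X)) (codeS N)))) = true ∧
        s = τ * (ψ X * (φ (tvS 8) * ψ X * (φ (tvS 8))⁻¹) * (φ (tvS 32) * ψ X * (φ (tvS 32))⁻¹) *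
          (φ (tvS 16) * ψ X * (φ (tvS 16))⁻¹)) := by
    intro s hs h
    obtain ⟨q, hq, rfl⟩ := F.R0_split hs
    obtain ⟨X, hX, eX⟩ := F.Q0_iff.1 (hq 0)
    have m8 := fun i => ((Bool.and_eq_true_iff.1 ((Bool.and_eq_true_iff.1 (n_moves i)).1)).1)
    have m16 := fun i => ((Bool.and_eq_true_iff.1 ((Bool.and_eq_true_iff.1 (n_moves i)).1)).2)
    have m32 := fun i => ((Bool.and_eq_true_iff.1 (n_moves i)).2)
    have get : ∀ {v : Fin 64} {π : Fin 4 → Fin 4}, v ∈ ([8, 16, 32] : List (Fin 64)) →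
        (∀ i, moveC (tvS v) i (π i) = true) → Function.Injective π → ∀ {j : Fin 4}, π j = 0 →
        ∃ τ, (τ = 1 ∨ τ = ψ sw) ∧ q j = τ * (φ (tvS v) * q 0 * (φ (tvS v))⁻¹) := by
      intro v π hv hm hπ j hj
      obtain ⟨τ, hτ, hd⟩ : ∃ τ, (τ = 1 ∨ τ = ψ sw) ∧ (q 0)⁻¹ * (φ (tvS v) * q j * (φ (tvS v))⁻¹) = τ :=
        ⟨_, F.comp0 hq hπ hm hj (h v hv), rfl⟩
      refine ⟨τ, hτ, ?_⟩
      have hi : (φ (tvS v))⁻¹ = φ (tvS v) := by
        rw [← map_inv]
        refine congrArg φ (inv_eq_of_mul_eq_one_left ?_)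
        simp only [List.mem_cons, List.not_mem_nil, or_false] at hv
        rcases hv with rfl | rfl | rfl <;> exact codeS_injective (by decide +kernel)
      have hc : Commute (q 0) τ := by
        rcases hτ with rfl | rfl
        exacts [Commute.one_right _, (hq 0).1]
      have e : q j = (φ (tvS v))⁻¹ * (q 0 * τ) * φ (tvS v) := by rw [← hd]; group
      rw [e, hc.eq, hi, show φ (tvS v) * (τ * q 0) * φ (tvS v) = (φ (tvS v) * τ) * q 0 * φ (tvS v) by group,
        (hT hτ).eq]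
      group
    obtain ⟨τ1, hτ1, e1⟩ := get (by simp) m8 (by decide) (j := 1) rfl
    obtain ⟨τ2, hτ2, e2⟩ := get (by simp) m32 (by decide) (j := 2) rfl
    obtain ⟨τ3, hτ3, e3⟩ := get (by simp) m16 (by decide) (j := 3) rfl
    refine ⟨X, τ1 * τ2 * τ3, hX, ?_, ?_, ?_⟩
    · rcases hτ1 with rfl | rfl <;> rcases hτ2 with rfl | rfl <;> rcases hτ3 with rfl | rfl <;>
        simp [F.t_sq]
    · have h012 : Commute (φ (tvS 8 * tvS 16 * tvS 32)) (q 0 * q 1 * q 2 * q 3) := by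
        rw [map_mul, map_mul]
        exact ((h 8 (by simp)).mul_left (h 16 (by simp))).mul_left (h 32 (by simp))
      have hmv : ∀ i, moveC (tvS 8 * tvS 16 * tvS 32) i (id i) = true := by decide +kernel
      have := F.comp0 hq Function.injective_id hmv (j := 0) rfl h012
      rw [eX, hNc, ← map_inv, ← map_mul] at this
      have hi : X⁻¹ = X ^ 3 := inv_eq_of_mul_eq_one_right (by rw [← pow_succ']; exact hX.2.2)
      have hNi : N⁻¹ = N := inv_eq_of_mul_eq_one_left hN2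
      rw [List.contains_iff_mem, ← codeS_pow, ← codeS_mul, ← codeS_mul, ← codeS_mul]
      rw [hi, hNi] at this
      simp only [List.mem_cons, List.not_mem_nil, or_false]
      rcases this with e | e
      · exact Or.inl (by rw [F.hB.inj (e.trans (map_one ψ).symm), codeS_one])
      · exact Or.inr (by rw [F.hB.inj e, cd_sw])
    · have cq : ∀ {τ x : G}, (τ = 1 ∨ τ = ψ sw) → Commute x (ψ sw) → x * τ = τ * x := by
        rintro τ x (rfl | rfl) hx
        · rw [mul_one, one_mul]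
        · exact hx.eq
      have c0 : Commute (ψ X) (ψ sw) := hX.1.map ψ
      have cv : ∀ v : Fin 64, Commute (φ (tvS v) * ψ X * (φ (tvS v))⁻¹) (ψ sw) := fun v =>
        (((F.tA _).symm).mul_left c0).mul_left (F.tA _).symm.inv_left
      rw [e1, e2, e3, eX,
        show ψ X * (τ1 * (φ (tvS 8) * ψ X * (φ (tvS 8))⁻¹)) = (ψ X * τ1) * (φ (tvS 8) * ψ X * (φ (tvS 8))⁻¹) by group,
        cq hτ1 c0]
      generalize hA : φ (tvS 8) * ψ X * (φ (tvS 8))⁻¹ = A
      generalize hB' : φ (tvS 32) * ψ X * (φ (tvS 32))⁻¹ = B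
      generalize hC : φ (tvS 16) * ψ X * (φ (tvS 16))⁻¹ = C
      have cA : Commute A (ψ sw) := hA ▸ cv 8
      have cB : Commute B (ψ sw) := hB' ▸ cv 32
      rw [show τ1 * ψ X * A * (τ2 * B) * (τ3 * C) = τ1 * ((ψ X * A) * τ2) * B * τ3 * C by group,
        cq hτ2 (c0.mul_left cA),
        show τ1 * (τ2 * (ψ X * A)) * B * τ3 * C = τ1 * τ2 * ((ψ X * A * B) * τ3) * C by group,
        cq hτ3 ((c0.mul_left cA).mul_left cB)]
      group
  obtain ⟨X, τ, hX, hτ, hfX, es⟩ := prep hs h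
  obtain ⟨Y, τ', hY, hτ', hfY, es'⟩ := prep hs' h'
  have hb := Qp_fix_code _ hN _ (Qp_mem hX) _ (Qp_mem hY) (by rw [hfX, hfY]; rfl)
  simp only [Bool.or_eq_true, List.contains_iff_mem, List.mem_cons, List.not_mem_nil, or_false] at hb
  have htw : ∀ {Z : S}, (Z = 1 ∨ Z = sw) →
      ψ Z * (φ (tvS 8) * ψ Z * (φ (tvS 8))⁻¹) * (φ (tvS 32) * ψ Z * (φ (tvS 32))⁻¹) *
        (φ (tvS 16) * ψ Z * (φ (tvS 16))⁻¹) = 1 := by
    rintro Z (rfl | rfl)
    · simp
    · rw [(hT (Or.inr rfl)).eq, mul_inv_cancel_right, (hT (Or.inr rfl)).eq, mul_inv_cancel_right,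
        (hT (Or.inr rfl)).eq, mul_inv_cancel_right, F.t_sq, one_mul, F.t_sq]
  have h1 : ∀ {Z : S}, (codeS Z = oneC ∨ codeS Z = 17718845697) → Z = 1 ∨ Z = sw := fun h =>
    h.imp (fun e => codeS_injective (e.trans codeS_one.symm)) (fun e => codeS_injective (e.trans cd_sw.symm))
  rcases hb with (hb | hb) | hb
  · rw [htw (h1 hb), mul_one] at es
    exact Or.inl (by rw [es]; exact hτ)
  · rw [htw (h1 hb), mul_one] at es'
    exact Or.inr (Or.inl (by rw [es']; exact hτ'))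
  · refine Or.inr (Or.inr ?_)
    have hY' : Y = X ∨ Y = X * sw := by
      rcases hb with e | e
      · exact Or.inl (codeS_injective e)
      · exact Or.inr (codeS_injective (by rw [e, codeS_mul, cd_sw]))
    have hdiff : τ' * τ⁻¹ = 1 ∨ τ' * τ⁻¹ = ψ sw := by
      rcases hτ with rfl | rfl <;> rcases hτ' with rfl | rfl <;>
        simp [inv_eq_of_mul_eq_one_left F.t_sq, F.t_sq]
    have hsame : s' = τ' * τ⁻¹ * s := by
      rw [es, es', ← mul_assoc (τ' * τ⁻¹), inv_mul_cancel_right]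
      congr 1
      rcases hY' with rfl | rfl
      · rfl
      · have c0 : Commute (ψ X) (ψ sw) := hX.1.map ψ
        have cv : ∀ v : Fin 64, φ (tvS v) * ψ (X * sw) * (φ (tvS v))⁻¹ =
            φ (tvS v) * ψ X * (φ (tvS v))⁻¹ * ψ sw := fun v => by
          rw [map_mul, ← conj_mul, (hT (Or.inr rfl)).eq, mul_inv_cancel_right]
        have cc : ∀ v : Fin 64, Commute (φ (tvS v) * ψ X * (φ (tvS v))⁻¹) (ψ sw) := fun v =>
          (((F.tA _).symm).mul_left c0).mul_left (F.tA _).symm.inv_left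
        rw [cv 8, cv 32, cv 16, map_mul]
        generalize hA : φ (tvS 8) * ψ X * (φ (tvS 8))⁻¹ = A
        generalize hB' : φ (tvS 32) * ψ X * (φ (tvS 32))⁻¹ = B
        generalize hC : φ (tvS 16) * ψ X * (φ (tvS 16))⁻¹ = C
        have cA : Commute A (ψ sw) := hA ▸ cc 8
        have cB : Commute B (ψ sw) := hB' ▸ cc 32
        have cC : Commute C (ψ sw) := hC ▸ cc 16
        calc ψ X * ψ sw * (A * ψ sw) * (B * ψ sw) * (C * ψ sw)
            = ψ X * (ψ sw * A) * (ψ sw * B) * (ψ sw * C) * ψ sw := by group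
          _ = ψ X * A * ((ψ sw * ψ sw) * B) * (C * ψ sw) * ψ sw := by rw [← cA.eq, ← cC.eq]; group
          _ = ψ X * A * B * C * (ψ sw * ψ sw) := by simp only [F.t_sq, one_mul, mul_one, mul_assoc]
          _ = _ := by simp [F.t_sq]
    have hst : Commute s (ψ sw) := (F.mem_R.1 (F.R0_le_res hs)).1
    rcases hdiff with e | e
    · exact Or.inl (by rw [hsame, e, one_mul])
    · exact Or.inr (by rw [hsame, e]; exact hst.eq.symm)

variable [Finite G] {Φ : S →* G}

theorem img_mem (F : Fr a b y w g φ ψ) (C : ShortC b w φ ψ Φ) :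
    ∀ v ∈ ([8, 16, 32] : List (Fin 64)), Commute (φ (tvS v)) (Φ (sh 1 38)) := by
  obtain ⟨-, h16, -, h32, -⟩ := F.img_D C
  intro v hv
  simp only [List.mem_cons, List.not_mem_nil, or_false] at hv
  rcases hv with rfl | rfl | rfl
  · rw [F.img_x C, F.phi_n0]
    have hd := F.DD_comm (X := sh 2 4) (plane12_of (by decide +kernel)) (Y := n0el)
      (subset_closure (Or.inr (Or.inr (Or.inr (Or.inl rfl)))))
    exact ((hd.symm).mul_right (((commC_iff _ _).1 (by decide +kernel)).map ψ)).mul_right hd.symm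
  · rw [h16]; exact ((commC_iff _ _).1 (by decide +kernel)).map Φ
  · rw [h32]; exact ((commC_iff _ _).1 (by decide +kernel)).map Φ

theorem x_in_R0 (F : Fr a b y w g φ ψ) (C : ShortC b w φ ψ Φ) : Φ (sh 1 38) ∈ grpR0 φ (ψ sw) := by
  refine F.in_R0 (F.x_R C) ?_ ?_
  · rw [F.img_T1 C]
    simp only [tri3, ← map_mul, ← map_inv]
    rw [← map_one Φ]
    exact congrArg Φ (codeS_injective (by decide +kernel))
  · rw [F.img_T2 C]
    simp only [tri3, ← map_mul, ← map_inv]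
    rw [← map_one Φ]
    exact congrArg Φ (codeS_injective (by decide +kernel))

theorem x_sw (F : Fr a b y w g φ ψ) (C : ShortC b w φ ψ Φ) : Commute (φ sw) (Φ (sh 1 38)) := by
  rw [← C.u2]; exact ((commC_iff _ _).1 (by decide +kernel)).map Φ

/-- The plane exchange fixes the gluing element. -/
theorem x_sigma (F : Fr a b y w g φ ψ) (C : ShortC b w φ ψ Φ) : Commute (φ sw01) (Φ (sh 1 38)) := by
  set x := Φ (sh 1 38) with hx
  set σ := φ sw01 with hσ
  have hσi : σ⁻¹ = σ := by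
    rw [hσ, ← map_inv, show sw01⁻¹ = sw01 from codeS_injective (by decide +kernel)]
  have hσt : Commute σ (ψ sw) := (F.tA _).symm
  have hx0 := F.x_in_R0 C
  have hσx : σ * x * σ⁻¹ ∈ grpR0 φ (ψ sw) := F.R0_move sigma_moves hx0
  have hN := F.img_mem C
  have hN' : ∀ v ∈ ([8, 16, 32] : List (Fin 64)), Commute (φ (tvS v)) (σ * x * σ⁻¹) := by
    intro v hv
    have key : ∀ {u v : Fin 64}, u ∈ ([8, 16, 32] : List (Fin 64)) →
        codeS (sw01 * tvS u * sw01⁻¹) = codeS (tvS v) → Commute (φ (tvS v)) (σ * x * σ⁻¹) := fun hu e => by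
      have := (hN _ hu).map (MulAut.conj σ).toMonoidHom
      simp only [MulEquiv.coe_toMonoidHom, MulAut.conj_apply] at this
      rwa [hσ, ← map_inv, ← map_mul, ← map_mul, codeS_injective e, map_inv, ← hσ] at this
    simp only [List.mem_cons, List.not_mem_nil, or_false] at hv
    rcases hv with rfl | rfl | rfl
    · exact key (u := 16) (by simp) (by decide +kernel)
    · exact key (u := 8) (by simp) (by decide +kernel)
    · exact key (u := 32) (by simp) (by decide +kernel)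
  have fix : σ * x * σ⁻¹ = x → Commute σ x := fun e => mul_inv_eq_iff_eq_mul.1 e
  have fixT : ∀ {z : G}, (z = 1 ∨ z = ψ sw) → Commute σ z := by
    rintro z (rfl | rfl)
    exacts [Commute.one_right σ, hσt]
  rcases F.fixed_unique hx0 hσx hN hN' with h | h | h | h
  · exact fixT h
  · refine fixT ?_
    have : x = σ⁻¹ * (σ * x * σ⁻¹) * σ := by group
    rcases h with h | h <;> rw [this, h]
    · exact Or.inl (by group)
    · right; rw [mul_assoc, ← hσt.eq, inv_mul_cancel_left]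
  · exact fix h
  · exfalso
    set τ := φ sw with hτ
    have hτi : τ⁻¹ = τ := by
      rw [hτ, ← map_inv, show sw⁻¹ = sw from codeS_injective (by decide +kernel)]
    have hτt : Commute τ (ψ sw) := (F.tA _).symm
    have hτx : Commute τ x := F.x_sw C
    have braid : τ * σ * τ = σ * τ * σ := by
      rw [hτ, hσ, ← map_mul, ← map_mul, ← map_mul, ← map_mul]
      exact congrArg φ (codeS_injective (by decide +kernel))
    have L : (τ * σ * τ) * x * (τ * σ * τ)⁻¹ = x * ψ sw := by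
      rw [show (τ * σ * τ) * x * (τ * σ * τ)⁻¹ = τ * (σ * (τ * x * τ⁻¹) * σ⁻¹) * τ⁻¹ by group, hτx.eq,
        mul_inv_cancel_right, h, (hτx.mul_right hτt).eq, mul_inv_cancel_right]
    have R : (σ * τ * σ) * x * (σ * τ * σ)⁻¹ = x := by
      rw [show (σ * τ * σ) * x * (σ * τ * σ)⁻¹ = σ * (τ * (σ * x * σ⁻¹) * τ⁻¹) * σ⁻¹ by group, h,
        (hτx.mul_right hτt).eq, mul_inv_cancel_right, ← conj_mul, h, hσt.eq, mul_inv_cancel_right, mul_assoc,
        F.t_sq, mul_one]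
    rw [braid, R] at L
    have : ψ sw = 1 := mul_eq_left.1 L.symm
    exact absurd (F.hB.inj (this.trans (map_one ψ).symm))
      (fun e => absurd (congrArg codeS e) (by rw [cd_sw, codeS_one]; decide +kernel))

theorem comm_pair (F : Fr a b y w g φ ψ) (C : ShortC b w φ ψ Φ) :
    Commute (Φ (sh 1 38)) (φ (sh 1 32)) ∧ Commute (Φ (sh 1 38)) (φ (sh 4 8)) := by
  obtain ⟨-, -, -, -, h416, h232, -⟩ := F.img_D C
  have key : ∀ {u v : S} {i : S}, φ u = Φ i → commC (codeS (sh 1 38)) (codeS i) = true →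
      codeS (sw01 * u * sw01⁻¹) = codeS v → Commute (Φ (sh 1 38)) (φ v) := fun {u v i} hi hc e => by
    rw [← codeS_injective e, map_mul, map_mul, map_inv, hi]
    have hs := (F.x_sigma C).symm
    exact (hs.mul_right (((commC_iff _ _).1 hc).map Φ)).mul_right hs.inv_right
  exact ⟨key h232 (by decide +kernel) (by decide +kernel), key h416 (by decide +kernel) (by decide +kernel)⟩

theorem comm_pair_neg (F : Fr a b y w g φ ψ) (C : ShortC b w φ ψ Φ) :
    Commute (Φ (sh 8 6)) (φ (sh 1 32)) ∧ Commute (Φ (sh 8 6)) (φ (sh 4 8)) := by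
  obtain ⟨h2, h16, -, -, -, h232, -, hf⟩ := F.img_D C
  set u := ψ (tvS 32 * tvS 2) * φ f12 with hu
  have e2 : ψ (tvS 2) = Φ (tvS 9) := by
    rw [show tvS 9 = tvS 1 * tvS 8 * tvS 1 from codeS_injective (by decide +kernel), map_mul, map_mul,
      C.u1, C.u8, ← map_mul, ← map_mul]
    exact congrArg ψ (codeS_injective (by decide +kernel))
  have e32 : Commute (ψ (tvS 32)) (Φ (sh 8 6)) := by
    have e38 : Φ (tvS 38) = φ (tvS 2 * tvS 16 * sh 2 32 * tvS 16 * tvS 2) := by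
      simp only [map_mul, h2, h16, h232]
      simp only [← map_mul]
      exact congrArg Φ (codeS_injective (by decide +kernel))
    have e832 : Φ (sh 8 32) = ψ ((tvS 48 * tvS 50) * sh 48 9 * (tvS 48 * tvS 50)⁻¹) := by
      rw [show sh 8 32 = (tvS 1 * tvS 8) * sh 1 32 * (tvS 1 * tvS 8)⁻¹ from codeS_injective (by decide +kernel)]
      simp only [map_mul, map_inv, C.u1, C.u8, ← F.img_xi C]
    rw [show sh 8 6 = tvS 38 * sh 8 32 * tvS 38 from codeS_injective (by decide +kernel), map_mul, map_mul,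
      e38, e832]
    have hd := (F.DD_comm (X := tvS 2 * tvS 16 * sh 2 32 * tvS 16 * tvS 2)
      (plane12_of (by decide +kernel)) dGen_tv32).symm
    exact (hd.mul_right (((commC_iff _ _).1 (by decide +kernel)).map ψ)).mul_right hd
  have hux : u * Φ (sh 1 38) * u⁻¹ = Φ (sh 8 6) := by
    have : ψ (tvS 2) * φ f12 * Φ (sh 1 38) * (ψ (tvS 2) * φ f12)⁻¹ = Φ (sh 8 6) := by
      rw [e2, hf, ← map_mul, ← map_mul, ← map_inv, ← map_mul]
      exact congrArg Φ (codeS_injective (by decide +kernel))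
    rw [hu, map_mul, show ψ (tvS 32) * ψ (tvS 2) * φ f12 * Φ (sh 1 38) * (ψ (tvS 32) * ψ (tvS 2) * φ f12)⁻¹ =
      ψ (tvS 32) * (ψ (tvS 2) * φ f12 * Φ (sh 1 38) * (ψ (tvS 2) * φ f12)⁻¹) * (ψ (tvS 32))⁻¹ by group, this,
      e32.eq, mul_inv_cancel_right]
  have hφ : ∀ X : S, u * φ X * u⁻¹ = φ ((tvS 9 * f12) * X * (tvS 9 * f12)⁻¹) := fun X => by
    have e : ψ (tvS 32 * tvS 2) = ψ sw * a * φ (tvS 9) := by
      rw [show tvS 32 * tvS 2 = sw * pB * (nu * n0el * nu) from codeS_injective (by decide +kernel), map_mul,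
        map_mul, map_mul, map_mul, F.psi_a, ← F.phi_t0, ← F.phi_n0, ← map_mul, ← map_mul]
      exact congrArg (fun z => ψ sw * a * φ z) (codeS_injective (by decide +kernel))
    rw [hu, e, show ψ sw * a * φ (tvS 9) * φ f12 = ψ sw * a * (φ (tvS 9) * φ f12) by group, ← map_mul,
      show ψ sw * a * φ (tvS 9 * f12) * φ X * (ψ sw * a * φ (tvS 9 * f12))⁻¹ =
        (ψ sw * a) * (φ (tvS 9 * f12) * φ X * (φ (tvS 9 * f12))⁻¹) * (ψ sw * a)⁻¹ by group,
      ← map_inv, ← map_mul, ← map_mul, ((F.tA _).mul_left (F.a_comm _)).eq, mul_inv_cancel_right]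
  obtain ⟨c1, c2⟩ := F.comm_pair C
  have m1 := c1.map (MulAut.conj u).toMonoidHom
  have m2 := c2.map (MulAut.conj u).toMonoidHom
  simp only [MulEquiv.coe_toMonoidHom, MulAut.conj_apply, hux, hφ] at m1 m2
  rw [show tvS 9 * f12 * sh 4 8 * (tvS 9 * f12)⁻¹ = sh 1 32 from codeS_injective (by decide +kernel)] at m2
  rw [show tvS 9 * f12 * sh 1 32 * (tvS 9 * f12)⁻¹ = sh 4 8 from codeS_injective (by decide +kernel)] at m1
  exact ⟨m2, m1⟩

end Fr

end Cfsg.Agent.FFourLocal.Glue3
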