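import Cfsg.Agent.Lib.FFourLocal.Glue3.Norm
import Cfsg.Agent.Lib.FFourLocal.Glue3.FinC
import Cfsg.Agent.Lib.CharP.Action

/-!
# The residual group and the subgroup fixed by the flip
-/

set_option autoImplicit false
set_option maxRecDepth 100000

namespace Cfsg.Agent.FFourLocal.Glue3

open Subgroup Cfsg.Agent.SpThreeCent.SixEnd

universe u

variable {G : Type u} [Group G]

/-- The generators of the centre of the residual group. -/
def zGen (φ ψ : S →* G) : Set G := {r | r = ψ sw ∨ ∃ k, r ∈ W φ (ψ sw) k}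

/-- The residual group. -/
def resR (φ ψ : S →* G) : Subgroup G := centralizer (zGen φ ψ)

/-- The part fixed by `t` and two of the four-groups. -/
def uGen (φ ψ : S →* G) : Set G :=
  {r | r = ψ sw ∨ r ∈ W φ (ψ sw) 1 ∨ r ∈ W φ (ψ sw) 2}

/-- The group fixed by the flip and two of the four-groups. -/
def grpK (φ ψ : S →* G) : Subgroup G := centralizer (uGen φ ψ ∪ {φ (tvS 8)})

/-- The group of the two plane elements. -/
def tor (φ : S →* G) : Subgroup G := (closure ({px 1, px 2} : Set S)).map φ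

/-- The lines of the two plane elements. -/
def lineGen : List S := [px 1, px 2, pB, pY]

theorem tor_elem {φ : S →* G} {u : G} (hu : u ∈ tor φ) :
    ∃ i j : Fin 3, u = φ (px 1 ^ i.val * px 2 ^ j.val) := by
  obtain ⟨X, hX, rfl⟩ := hu
  suffices h : ∃ i j : Fin 3, X = px 1 ^ i.val * px 2 ^ j.val by
    obtain ⟨i, j, e⟩ := h
    exact ⟨i, j, by rw [e]⟩
  have key : ∀ i j i' j' : Fin 3, codeS (px 1 ^ i.val * px 2 ^ j.val * (px 1 ^ i'.val * px 2 ^ j'.val)) =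
      codeS (px 1 ^ (i + i').val * px 2 ^ (j + j').val) ∧
      codeS (px 1 ^ i.val * px 2 ^ j.val)⁻¹ = codeS (px 1 ^ (-i).val * px 2 ^ (-j).val) := by decide +kernel
  induction hX using Subgroup.closure_induction with
  | mem x hx =>
    simp only [Set.mem_insert_iff, Set.mem_singleton_iff] at hx
    rcases hx with rfl | rfl
    exacts [⟨1, 0, by simp⟩, ⟨0, 1, by simp⟩]
  | one => exact ⟨0, 0, by simp⟩
  | mul x z _ _ hx hz =>
    obtain ⟨i, j, rfl⟩ := hx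
    obtain ⟨i', j', rfl⟩ := hz
    exact ⟨i + i', j + j', codeS_injective (key i j i' j').1⟩
  | inv x _ hx =>
    obtain ⟨i, j, rfl⟩ := hx
    exact ⟨-i, -j, codeS_injective (key i j 0 0).2⟩

theorem tor_mem (φ : S →* G) : φ (px 1) ∈ tor φ ∧ φ (px 2) ∈ tor φ :=
  ⟨mem_map_of_mem φ (subset_closure (Or.inl rfl)), mem_map_of_mem φ (subset_closure (Or.inr rfl))⟩

theorem tor_pgroup (φ : S →* G) : IsPGroup 3 ↥(tor φ) := by
  intro u
  refine ⟨1, Subtype.ext ?_⟩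
  obtain ⟨i, j, e⟩ := tor_elem u.2
  rw [SubmonoidClass.coe_pow, e, pow_one, ← map_pow, OneMemClass.coe_one]
  have : ∀ i j : Fin 3, codeS ((px 1 ^ i.val * px 2 ^ j.val) ^ 3) = oneC := by decide +kernel
  rw [codeS_injective ((this i j).trans codeS_one.symm), map_one]

instance tor_comm (φ : S →* G) : IsMulCommutative ↥(tor φ) := by
  refine ⟨⟨fun u v => Subtype.ext ?_⟩⟩
  obtain ⟨i, j, eu⟩ := tor_elem u.2
  obtain ⟨k, l, ev⟩ := tor_elem v.2
  rw [Subgroup.coe_mul, Subgroup.coe_mul, eu, ev, ← map_mul, ← map_mul]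
  exact congrArg φ (((commC_iff _ _).1 ((show ∀ i j k l : Fin 3,
    commC (codeS (px 1 ^ i.val * px 2 ^ j.val)) (codeS (px 1 ^ k.val * px 2 ^ l.val)) = true by
      decide +kernel) i j k l)).eq)

/-- Centralisers of the elements of the torus reduce to four of them. -/
theorem tor_cases {φ : S →* G} {u : G} (hu : u ∈ tor φ) (hu1 : u ≠ 1) :
    ∃ L ∈ lineGen, ∀ c, c ∈ centralizer ({u} : Set G) → Commute c (φ L) := by
  obtain ⟨i, j, rfl⟩ := tor_elem hu
  have key : ∀ i j : Fin 3, (i = 0 ∧ j = 0) ∨ ∃ L ∈ lineGen,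
      codeS L = codeS (px 1 ^ i.val * px 2 ^ j.val) ∨ codeS L = codeS ((px 1 ^ i.val * px 2 ^ j.val) ^ 2) := by
    decide +kernel
  rcases key i j with ⟨rfl, rfl⟩ | ⟨L, hL, e⟩
  · exact absurd (by simp) hu1
  refine ⟨L, hL, fun c hc => ?_⟩
  have hc' : Commute c (φ (px 1 ^ i.val * px 2 ^ j.val)) := mem_centralizer_singleton_iff.1 hc
  rcases e with e | e
  · rw [codeS_injective e]; exact hc'
  · rw [codeS_injective e, map_pow]; exact hc'.pow_right 2

namespace Fr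

variable {a b y w g : G} {φ ψ : S →* G}

theorem tor_not_cyclic (F : Fr a b y w g φ ψ) : ¬ IsCyclic ↥(tor φ) := by
  rintro ⟨⟨z, hz⟩⟩
  obtain ⟨n, hn⟩ := hz ⟨φ (px 1), (tor_mem φ).1⟩
  obtain ⟨m, hm⟩ := hz ⟨φ (px 2), (tor_mem φ).2⟩
  obtain ⟨r, hr, hr1⟩ := F.W_exists 1
  have h2 : Commute (φ (px 2)) r := (hr.2.2.1 : Commute r (φ (px (1 + 1)))).symm
  refine F.W_moves hr hr1 ?_
  have hn' : (z : G) ^ n = φ (px 1) := by simpa using congrArg Subtype.val hn
  have hm' : (z : G) ^ m = φ (px 2) := by simpa using congrArg Subtype.val hm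
  obtain ⟨i, j, e⟩ := tor_elem z.2
  have h3 : (z : G) ^ (3 : ℤ) = 1 := by
    rw [show (3 : ℤ) = ((3 : ℕ) : ℤ) from rfl, zpow_natCast, e, ← map_pow,
      codeS_injective (((show ∀ i j : Fin 3, codeS ((px 1 ^ i.val * px 2 ^ j.val) ^ 3) = oneC by
        decide +kernel) i j).trans codeS_one.symm), map_one]
  have hm0 : ¬ (3 : ℤ) ∣ m := by
    rintro ⟨k, rfl⟩
    rw [zpow_mul, h3, one_zpow] at hm'
    exact absurd (F.hA.inj (hm'.symm.trans (map_one φ).symm))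
      (fun e => absurd (congrArg codeS e) (by rw [cd_px2, codeS_one]; decide +kernel))
  have hp : Int.gcd m 3 = 1 := by
    have hd : Int.gcd m 3 ∣ 3 := by exact_mod_cast Int.gcd_dvd_right m 3
    rcases (Nat.dvd_prime Nat.prime_three).1 hd with e | e
    · exact e
    · exact absurd (by have := Int.gcd_dvd_left m 3; rwa [e] at this) hm0
  have eb := Int.gcd_eq_gcd_ab m 3
  rw [hp, Nat.cast_one] at eb
  have hz' : (z : G) = φ (px 2) ^ Int.gcdA m 3 := by
    conv_lhs => rw [← zpow_one (z : G), eb, zpow_add, zpow_mul, zpow_mul, h3, one_zpow, mul_one, hm']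
  rw [← hn', hz']
  exact ((h2.zpow_left _).zpow_left _)

theorem mem_R (_F : Fr a b y w g φ ψ) {c : G} :
    c ∈ resR φ ψ ↔ Commute c (ψ sw) ∧ ∀ k, ∀ r ∈ W φ (ψ sw) k, Commute c r := by
  rw [resR, mem_centralizer_iff]
  constructor
  · exact fun h => ⟨(h _ (Or.inl rfl)).symm, fun k r hr => (h r (Or.inr ⟨k, hr⟩)).symm⟩
  · rintro ⟨h1, h2⟩ r (rfl | ⟨k, hr⟩)
    exacts [h1.eq.symm, (h2 k r hr).eq.symm]

theorem mem_K (_F : Fr a b y w g φ ψ) {c : G} :
    c ∈ grpK φ ψ ↔ Commute c (ψ sw) ∧ Commute c (φ (tvS 8)) ∧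
      (∀ r ∈ W φ (ψ sw) 1, Commute c r) ∧ ∀ r ∈ W φ (ψ sw) 2, Commute c r := by
  rw [grpK, mem_centralizer_iff]
  constructor
  · exact fun h => ⟨(h _ (Or.inl (Or.inl rfl))).symm, (h _ (Or.inr rfl)).symm,
      fun r hr => (h r (Or.inl (Or.inr (Or.inl hr)))).symm,
      fun r hr => (h r (Or.inl (Or.inr (Or.inr hr)))).symm⟩
  · rintro ⟨h1, h2, h3, h4⟩ r ((rfl | hr | hr) | hr)
    exacts [h1.eq.symm, (h3 r hr).eq.symm, (h4 r hr).eq.symm,
      (Set.mem_singleton_iff.1 hr) ▸ h2.eq.symm]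

theorem zGen_sub_R (F : Fr a b y w g φ ψ) {z : G} (hz : z ∈ zGen φ ψ) : z ∈ resR φ ψ := by
  rw [F.mem_R]
  rcases hz with rfl | ⟨k, hk⟩
  · exact ⟨Commute.refl _, fun k r hr => (F.W_t hr).symm⟩
  · exact ⟨F.W_t hk, fun j r hr => F.W_comm hk hr⟩

theorem Z_le_R (F : Fr a b y w g φ ψ) : closure (zGen φ ψ) ≤ resR φ ψ :=
  (closure_le _).2 fun _ hz => F.zGen_sub_R hz

theorem perm_norm_R (F : Fr a b y w g φ ψ) {X : S} {π : Fin 3 → Fin 3} (hX : Perm3 X π) :
    φ X ∈ normalizer (resR φ ψ : Set G) := by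
  obtain ⟨π', hX'⟩ := perm_inv hX
  refine mem_normalizer_centralizer (fun r hr => F.W_all hX hr) fun r hr => ?_
  have := F.W_all hX' hr
  rwa [map_inv, inv_inv] at this

theorem perm_norm_Z (F : Fr a b y w g φ ψ) {X : S} {π : Fin 3 → Fin 3} (hX : Perm3 X π) {z : G}
    (hz : z ∈ closure (zGen φ ψ)) : φ X * z * (φ X)⁻¹ ∈ closure (zGen φ ψ) := by
  induction hz using Subgroup.closure_induction with
  | mem x hx => exact subset_closure (F.W_all hX hx)
  | one => simp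
  | mul x x' _ _ hx hx' => rw [← conj_mul]; exact mul_mem hx hx'
  | inv x _ hx => rw [← conj_inv]; exact inv_mem hx

theorem perm8_aux : ∀ X ∈ ([tvS 8, tvS 16, tvS 32, tvS 4, tvS 2, tvS 1] : List S), ∀ k : Fin 3,
    codeS (X * px k * X⁻¹) = codeS (px k) ∨ codeS (X * px k * X⁻¹) = codeS (px k)⁻¹ := by decide +kernel

theorem perm_flip {X : S} (hX : X ∈ ([tvS 8, tvS 16, tvS 32, tvS 4, tvS 2, tvS 1] : List S)) :
    Perm3 X id :=
  ⟨Function.injective_id, fun k => (perm8_aux X hX k).imp (fun e => codeS_injective e) (fun e => codeS_injective e)⟩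

theorem n0_sq (_F : Fr a b y w g φ ψ) : φ (tvS 8) * φ (tvS 8) = 1 := by
  rw [← map_mul, show tvS 8 * tvS 8 = 1 from codeS_injective (by decide +kernel), map_one]

/-- The flip fixes two of the four-groups. -/
theorem n0_W (F : Fr a b y w g φ ψ) {k : Fin 3} (hk : k ≠ 0) {r : G} (hr : r ∈ W φ (ψ sw) k) :
    Commute (φ (tvS 8)) r := by
  obtain ⟨Ψy, hy⟩ := F.side_y
  have h3 : ∀ j, φ (px j) ^ 3 = 1 := fun j => by rw [← map_pow, px_cube, map_one]
  have himg : φ (tvS 8) * r * (φ (tvS 8))⁻¹ ∈ W φ (ψ sw) k :=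
    F.W_perm (perm_flip (by simp)) hr
  have hcomm : Commute (φ (tvS 8)) (φ (px k)) := by
    exact Commute.map ((commC_iff _ _).1 ((show ∀ k : Fin 3, k ≠ 0 →
      commC (codeS (tvS 8)) (codeS (px k)) = true by decide +kernel) k hk)) φ
  rcases eq_or_ne r 1 with rfl | hr1
  · exact Commute.one_right _
  refine IsW.fixed hr F.n0_sq hcomm (h3 k) ?_
  fin_cases k
  · exact absurd rfl hk
  · obtain ⟨X, hX, rfl⟩ := (F.W1_eq hy).1 hr
    obtain ⟨Y, hY, e⟩ := (F.W1_eq hy).1 himg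
    rw [e]
    rcases W1_self X hX Y hY with h | h | h | h | h
    · exact absurd (by rw [h, map_one]) hr1
    · exact Or.inl (by rw [codeS_injective (h.trans codeS_one.symm), map_one])
    · exact Or.inr (Or.inl (by rw [codeS_injective h]))
    · refine Or.inr (Or.inr (Or.inl ?_))
      rw [codeS_injective h, map_mul, map_mul, map_inv, hy.m1]
      rfl
    · refine Or.inr (Or.inr (Or.inr ?_))
      rw [codeS_injective h, map_mul, map_mul, map_inv, map_pow, hy.m1]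
      rfl
  · obtain ⟨X, hX, rfl⟩ := (F.W2_eq hy).1 hr
    obtain ⟨Y, hY, e⟩ := (F.W2_eq hy).1 himg
    rw [e]
    rcases W2_self X hX Y hY with h | h | h | h | h
    · exact absurd (by rw [h, map_one]) hr1
    · exact Or.inl (by rw [codeS_injective (h.trans codeS_one.symm), map_one])
    · exact Or.inr (Or.inl (by rw [codeS_injective h]))
    · refine Or.inr (Or.inr (Or.inl ?_))
      rw [codeS_injective h, map_mul, map_mul, map_inv Ψy (px 2)⁻¹, hy.m2]
      rfl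
    · refine Or.inr (Or.inr (Or.inr ?_))
      rw [codeS_injective h, map_mul, map_mul, map_inv Ψy ((px 2)⁻¹ ^ 2), map_pow, hy.m2]
      rfl

theorem n0_t (F : Fr a b y w g φ ψ) : Commute (φ (tvS 8)) (ψ sw) := (F.tA _).symm

theorem n0_mem_K (F : Fr a b y w g φ ψ) : φ (tvS 8) ∈ grpK φ ψ :=
  F.mem_K.2 ⟨F.n0_t, Commute.refl _, fun _ hr => F.n0_W (by decide) hr, fun _ hr => F.n0_W (by decide) hr⟩

/-- What commutes with `y` and `t` keeps the centralizer of two of the four-groups. -/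
theorem CU_norm (F : Fr a b y w g φ ψ) {d : G} (hy : Commute d y) (ht : Commute d (ψ sw)) {c : G}
    (hc : ∀ r ∈ uGen φ ψ, Commute c r) {r : G} (hr : r ∈ uGen φ ψ) : Commute c (d * r * d⁻¹) := by
  obtain ⟨Ψy, hS⟩ := F.side_y
  obtain ⟨i, X, rfl⟩ := hS.hC.cent d hy
  have hX : Commute X (tvS 1) := hS.hC.commute_mul_iff.1 (hS.mt ▸ ht)
  have hP : ∃ R0, r = Ψy R0 ∧ P1 R0 := by
    rcases hr with rfl | hr | hr
    · exact ⟨tvS 1, hS.mt.symm, P1_gen (by simp)⟩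
    · obtain ⟨R0, h0, e⟩ := (F.W1_eq hS).1 hr
      exact ⟨R0, e, P1_gen (by simp [h0])⟩
    · obtain ⟨R0, h0, e⟩ := (F.W2_eq hS).1 hr
      exact ⟨R0, e, P1_gen (by simp [h0])⟩
  obtain ⟨R0, rfl, hR0⟩ := hP
  obtain ⟨a0, ha, u, hu, v, hv, e⟩ := P1_mem (P1_conj hX hR0)
  have : y ^ i * Ψy X * Ψy R0 * (y ^ i * Ψy X)⁻¹ = Ψy (a0 * u * v) := by
    rw [← e, map_mul, map_mul, map_inv, show y ^ i * Ψy X * Ψy R0 * (y ^ i * Ψy X)⁻¹ =
      y ^ i * (Ψy X * Ψy R0 * (Ψy X)⁻¹) * (y ^ i)⁻¹ by group]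
    rw [(((hS.hC.comm X).zpow_left i).mul_right ((hS.hC.comm R0).zpow_left i) |>.mul_right
      ((hS.hC.comm X).zpow_left i).inv_right).eq, mul_inv_cancel_right]
  rw [this, map_mul, map_mul]
  refine ((?_ : Commute c (Ψy a0)).mul_right (hc _ ?_)).mul_right (hc _ ?_)
  · simp only [List.mem_cons, List.not_mem_nil, or_false] at ha
    rcases ha with rfl | rfl
    · rw [map_one]; exact Commute.one_right _
    · rw [hS.mt]; exact hc _ (Or.inl rfl)
  · exact Or.inr (Or.inl ((F.W1_eq hS).2 ⟨u, hu, rfl⟩))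
  · exact Or.inr (Or.inr ((F.W2_eq hS).2 ⟨v, hv, rfl⟩))

theorem K_norm (F : Fr a b y w g φ ψ) {d : G} (hy : Commute d y) (ht : Commute d (ψ sw))
    (hn : Commute d (φ (tvS 8))) {c : G} (hc : c ∈ grpK φ ψ) : d * c * d⁻¹ ∈ grpK φ ψ := by
  obtain ⟨h1, h2, h3, h4⟩ := F.mem_K.1 hc
  have hcu : ∀ r ∈ uGen φ ψ, Commute c r := by
    rintro r (rfl | hr | hr)
    exacts [h1, h3 r hr, h4 r hr]
  have key : ∀ r ∈ uGen φ ψ, Commute (d * c * d⁻¹) r := fun r hr => by
    have h := (F.CU_norm hy.inv_left ht.inv_left hcu hr).map (MulAut.conj d).toMonoidHom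
    simp only [MulEquiv.coe_toMonoidHom, MulAut.conj_apply] at h
    rwa [show d * (d⁻¹ * r * d⁻¹⁻¹) * d⁻¹ = r by group] at h
  exact F.mem_K.2 ⟨key _ (Or.inl rfl), (hn.mul_left h2).mul_left hn.inv_left,
    fun r hr => key r (Or.inr (Or.inl hr)), fun r hr => key r (Or.inr (Or.inr hr))⟩

theorem px_y_comm (F : Fr a b y w g φ ψ) (k : Fin 3) : Commute (φ (px k)) y := F.phi_y ▸ F.x_comm k 0

theorem px_n0 (F : Fr a b y w g φ ψ) {k : Fin 3} (hk : k ≠ 0) : Commute (φ (px k)) (φ (tvS 8)) := by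
  refine Commute.map ((commC_iff _ _).1 ?_) φ
  revert hk; revert k
  decide +kernel

theorem tor_facts (F : Fr a b y w g φ ψ) {u : G} (hu : u ∈ tor φ) :
    Commute u y ∧ Commute u (ψ sw) ∧ Commute u (φ (tvS 8)) ∧ u ∈ normalizer (resR φ ψ : Set G) := by
  obtain ⟨i, j, rfl⟩ := tor_elem hu
  rw [map_mul, map_pow, map_pow]
  exact ⟨((F.px_y_comm 1).pow_left _).mul_left ((F.px_y_comm 2).pow_left _),
    (((F.tA _).symm).pow_left _).mul_left (((F.tA _).symm).pow_left _),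
    ((F.px_n0 (by decide)).pow_left _).mul_left ((F.px_n0 (by decide)).pow_left _),
    mul_mem (pow_mem (F.perm_norm_R (perm_px 1)) _) (pow_mem (F.perm_norm_R (perm_px 2)) _)⟩

theorem tor_norm_K (F : Fr a b y w g φ ψ) : tor φ ≤ normalizer (grpK φ ψ : Set G) := by
  intro u hu
  obtain ⟨h1, h2, h3, -⟩ := F.tor_facts hu
  refine mem_normalizer_iff.2 fun z => ⟨F.K_norm h1 h2 h3, fun hz => ?_⟩
  have := F.K_norm h1.inv_left h2.inv_left h3.inv_left hz
  rwa [show u⁻¹ * (u * z * u⁻¹) * u⁻¹⁻¹ = z by group] at this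

/-- An element of order three fixed by the torus and the four-groups is trivial. -/
theorem three_trivial (F : Fr a b y w g φ ψ) {c : G} (h3 : c ^ 3 = 1)
    (hT : ∀ u ∈ tor φ, Commute u c) (ht : Commute c (ψ sw))
    (hW : ∀ k, k ≠ 0 → ∀ r ∈ W φ (ψ sw) k, Commute c r)
    (hX : ∀ X : S, X ^ 3 = 1 → Commute X (px 0) → Commute X sw → Commute c (ψ (px 0)) →
      (∀ i : ℤ, c = b ^ i * ψ X → ∃ j : ℤ, X = px 0 ^ j)) : c = 1 := by
  have h1 := (hT _ (tor_mem φ).1).symm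
  have h2 := (hT _ (tor_mem φ).2).symm
  have hb : Commute c b := by
    rw [← F.phi_b, pB, map_mul, map_inv]; exact h1.mul_right h2.inv_right
  have hw : Commute c w := by
    rw [← F.phi_w, pY, map_mul]; exact h1.mul_right h2
  obtain ⟨i, X, e⟩ := F.hB.cent c hb
  have hX3 : X ^ 3 = 1 := by
    rw [e, F.hB.pow_pow_mul] at h3
    exact (F.hB.eq_image (i := i * (3 : ℕ)) (X := X ^ 3) (Y := (1 : S)) (h3.trans (map_one ψ).symm)).1
  obtain ⟨j, hj⟩ := hX X hX3
    (F.hB.commute_mul_iff.1 (e ▸ F.psi_w ▸ hw))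
    (F.hB.commute_mul_iff.1 (e ▸ ht)) (F.psi_w ▸ hw) i e
  rw [hj, map_zpow, F.psi_w, ← F.phi_b, ← F.phi_w, ← map_zpow, ← map_zpow, ← map_mul] at e
  have ec : c = φ (px 1) ^ (i + j) * φ (px 2) ^ (j - i) := by
    rw [e, pB, pY, ← map_zpow, ← map_zpow, ← map_mul]
    refine congrArg φ ?_
    have hc : Commute (px 1) (px 2) := (commC_iff _ _).1 (px_comm 1 2)
    rw [(hc.inv_right).mul_zpow, hc.mul_zpow, inv_zpow, zpow_add, sub_eq_add_neg, add_comm j (-i),
      zpow_add, zpow_neg]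
    simp only [mul_assoc]
    rw [← mul_assoc ((px 2 : S) ^ i)⁻¹, ((hc.zpow_zpow j i).inv_right).symm.eq, mul_assoc]
  obtain ⟨ri, hri, hri1⟩ := F.W_exists 1
  have e1 : φ (px 1) ^ (i + j) = 1 := F.W_zpow fun r hr => by
    have := hW 1 (by decide) r hr
    rw [ec] at this
    have h2r : Commute (φ (px 2) ^ (j - i)) r := ((hr.2.2.1 : Commute r (φ (px (1 + 1)))).symm).zpow_left _
    have := this.mul_left h2r.inv_left
    rwa [mul_inv_cancel_right] at this
  have e2 : φ (px 2) ^ (j - i) = 1 := F.W_zpow fun r hr => by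
    have := hW 2 (by decide) r hr
    rwa [ec, e1, one_mul] at this
  rw [ec, e1, e2, one_mul]

variable [Finite G]

theorem R_three (F : Fr a b y w g φ ψ) : ¬ 3 ∣ Nat.card ↥(resR φ ψ) := by
  refine not_three_dvd (tor_pgroup φ) (fun u hu => (F.tor_facts hu).2.2.2) fun c hc h3 hT => ?_
  obtain ⟨ht, hW⟩ := F.mem_R.1 hc
  refine F.three_trivial h3 hT ht (fun k _ => hW k) fun X h3' h0 hs _ i e => ?_
  exact three_R X h3' h0 hs fun r hr =>
    F.hB.commute_mul_iff.1 (e ▸ hW 0 _ (F.W0_eq.2 ⟨r, hr, rfl⟩))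

theorem K_three (F : Fr a b y w g φ ψ) : ¬ 3 ∣ Nat.card ↥(grpK φ ψ) := by
  refine not_three_dvd (tor_pgroup φ) F.tor_norm_K fun c hc h3 hT => ?_
  obtain ⟨ht, hn, h1, h2⟩ := F.mem_K.1 hc
  refine F.three_trivial h3 hT ht (fun k hk => ?_) fun X h3' h0 hs _ i e => ?_
  · fin_cases k
    exacts [absurd rfl hk, h1, h2]
  · exact three_K X h3' h0 hs (F.hB.commute_mul_iff.1 (e ▸ F.phi_n0 ▸ hn))

theorem tor_coprime (F : Fr a b y w g φ ψ) {H : Subgroup G} (h : ¬ 3 ∣ Nat.card ↥H) :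
    (Nat.card ↥(tor φ)).Coprime (Nat.card ↥H) := by
  have := Fact.mk Nat.prime_three
  obtain ⟨n, hn⟩ := (tor_pgroup φ).exists_card_eq
  rw [hn]
  exact ((Nat.prime_three.coprime_iff_not_dvd).2 h).pow_left n

end Fr

end Cfsg.Agent.FFourLocal.Glue3
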