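import Cfsg.Agent.Lib.FFourLocal.Interface
import Cfsg.Agent.Lib.FFourLocal.Glue3.Coord

/-!
# The normalised frame from the two coordinate systems
-/

set_option autoImplicit false
set_option maxRecDepth 100000

namespace Cfsg.Agent.FFourLocal.Glue3

open Subgroup Cfsg.Agent.SpThreeCent.SixEnd

universe u

variable {G : Type u} [Group G]

theorem inn_range (φ : S →* G) (e : S) : (φ.comp (MulAut.conj e).toMonoidHom).range = φ.range := by
  ext c
  constructor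
  · rintro ⟨X, rfl⟩
    exact ⟨e * X * e⁻¹, rfl⟩
  · rintro ⟨X, rfl⟩
    exact ⟨e⁻¹ * X * e, congrArg φ (by simp [mul_assoc])⟩

theorem inn_apply {φ : S →* G} {e X : S} (h : Commute e X) :
    φ.comp (MulAut.conj e).toMonoidHom X = φ X := by
  rw [MonoidHom.comp_apply, MulEquiv.coe_toMonoidHom, MulAut.conj_apply, h.eq, mul_inv_cancel_right]

theorem six_cent3 {a t z y b : G} {φ : S →* G} (h : Six a t z y b φ) (h3 : a ^ 3 = 1) (h1 : a ≠ 1) :
    Cent3 a φ := by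
  have hc : ∀ X, Commute a (φ X) := fun X =>
    mem_centralizer_iff.1 (h.range ▸ ⟨X, rfl⟩ : φ X ∈ centralizer ({a, t} : Set G)) a (by simp)
  refine ⟨h.inj, h3, h1, hc, fun c hc' => ?_⟩
  have hm : c ∈ zpowers a ⊔ φ.range := h.cent ▸ mem_centralizer_singleton_iff.2 hc'.eq
  let N : Subgroup G :=
    { carrier := {c | ∃ i : ℤ, ∃ X : S, c = a ^ i * φ X}
      one_mem' := ⟨0, 1, by simp⟩
      mul_mem' := by
        rintro _ _ ⟨i, X, rfl⟩ ⟨j, Y, rfl⟩
        refine ⟨i + j, X * Y, ?_⟩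
        rw [zpow_add, map_mul, show a ^ i * φ X * (a ^ j * φ Y) = a ^ i * (φ X * a ^ j) * φ Y by group,
          ← ((hc X).zpow_left j).eq]
        group
      inv_mem' := by
        rintro _ ⟨i, X, rfl⟩
        exact ⟨-i, X⁻¹, by rw [mul_inv_rev, map_inv, zpow_neg, (((hc X).zpow_left i).inv_left.inv_right).eq]⟩ }
  exact (sup_le (zpowers_le.2 ⟨1, 1, by simp⟩) (by rintro _ ⟨X, rfl⟩; exact ⟨0, X, by simp⟩) :
    zpowers a ⊔ φ.range ≤ N) hm

/-- First normalisation: the exchange becomes the given involution. -/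
theorem norm_sw {a b y w t : G} {φ : S →* G} (hA : Cent3 a φ) (hy : φ (px 0) = y) (hb : φ pB = b)
    (hw : φ pY = w) (ht2 : t * t = 1) (hta : Commute t a) (hty : Commute t y) (htw : Commute t w)
    (htb : t * b * t⁻¹ = b⁻¹) :
    ∃ φ' : S →* G, Cent3 a φ' ∧ φ'.range = φ.range ∧ φ' (px 0) = y ∧ φ' pB = b ∧ φ' pY = w ∧ φ' sw = t := by
  obtain ⟨X, rfl, hX⟩ := hA.invol hta ht2
  obtain ⟨j, hj⟩ := cand_sw X hX (hA.commute_iff.1 (hy ▸ hty)) (hA.commute_iff.1 (hw ▸ htw))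
    (hA.inj (by rw [map_mul, map_mul, map_inv, map_inv, hb, htb]))
  refine ⟨_, hA.inn (px 1 ^ j), inn_range φ _, ?_, ?_, ?_, ?_⟩
  · rw [inn_apply ((((commC_iff _ _).1 (by decide +kernel) : Commute (px 1) (px 0))).pow_left j), hy]
  · rw [inn_apply ((((commC_iff _ _).1 (by decide +kernel) : Commute (px 1) pB)).pow_left j), hb]
  · rw [inn_apply ((((commC_iff _ _).1 (by decide +kernel) : Commute (px 1) pY)).pow_left j), hw]
  · rw [MonoidHom.comp_apply, MulEquiv.coe_toMonoidHom, MulAut.conj_apply, ← hj]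

/-- Second normalisation: the first transvection becomes the given element. -/
theorem norm_t0 {a b y w : G} {φ ψ : S →* G} (hA : Cent3 a φ) (hB : Cent3 b ψ) (hy : φ (px 0) = y)
    (hb : φ pB = b) (hw : φ pY = w) (kw : ψ (px 0) = w) (ka : ψ pB = a) (ky : ψ pY = y)
    (tA : ∀ X, Commute (ψ sw) (φ X)) :
    ∃ φ' : S →* G, Cent3 a φ' ∧ φ'.range = φ.range ∧ φ' (px 0) = y ∧ φ' pB = b ∧ φ' pY = w ∧
      φ' sw = φ sw ∧ φ' nu = φ nu ∧ φ' (tvS 1) = ψ nu := by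
  obtain ⟨X, e, hX⟩ := hB.invol (c := φ (tvS 1)) (hb ▸ ((commC_iff _ _).1 (by decide +kernel)).map φ)
    (by rw [← map_mul, show tvS 1 * tvS 1 = 1 from codeS_injective (by decide +kernel), map_one])
  obtain ⟨j, hj⟩ := cand_nu X hX
    (hB.commute_iff.1 (by rw [← e, kw, ← hw]; exact ((commC_iff _ _).1 (by decide +kernel)).map φ))
    (hB.inj (by
      rw [map_mul, map_mul, map_inv, map_inv, ← e, ky, ← hy, ← map_inv, ← map_inv, ← map_mul, ← map_mul]
      exact congrArg φ (codeS_injective (by decide +kernel))))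
    (hB.commute_iff.1 (by rw [← e, ka]; exact (hA.comm _).symm))
    (hB.commute_iff.1 (by rw [← e]; exact (tA _).symm))
  have hc : ∀ {Y : S}, Commute (px 0) Y → φ.comp (MulAut.conj (px 0 ^ j)⁻¹).toMonoidHom Y = φ Y := fun h =>
    inn_apply (h.pow_left j).inv_left
  refine ⟨_, hA.inn (px 0 ^ j)⁻¹, inn_range φ _, ?_, ?_, ?_, hc ((commC_iff _ _).1 (by decide +kernel)),
    hc ((commC_iff _ _).1 (by decide +kernel)), ?_⟩
  · rw [hc (Commute.refl _), hy]
  · rw [hc ((commC_iff _ _).1 (by decide +kernel)), hb]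
  · rw [hc ((commC_iff _ _).1 (by decide +kernel)), hw]
  · rw [MonoidHom.comp_apply, MulEquiv.coe_toMonoidHom, MulAut.conj_apply, inv_inv, map_mul, map_mul, map_inv,
      map_pow, hy, e, hj, map_mul, map_mul, map_inv, map_pow, ky]
    group

/-- The frame of the two coordinate systems. -/
theorem exists_frame {Z Q Q1 Q2 L1 L2 E : Subgroup G} {t1 t2 z y a b : G} {φ ψ : S →* G}
    (D : Local Z Q Q1 Q2 L1 L2 E t1 t2 z y a b) (hφ : Six a t1 z y b φ)
    (hψ : Six b t2 z (y⁻¹ * z) a ψ) :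
    ∃ (g : G) (φ' ψ' : S →* G), Fr a b y (y⁻¹ * z) g φ' ψ' ∧ φ'.range = φ.range ∧ ψ'.range = ψ.range := by
  have hzy : Commute z y := mem_centralizer_iff.1 D.y_cent z D.z_mem
  have hLz : ∀ {L : Subgroup G}, L ≤ centralizer (Z : Set G) → ∀ {t : G}, t ∈ L → Commute t z :=
    fun hL t ht => ((mem_centralizer_iff.1 (hL ht)) z D.z_mem).symm
  have ht1z := hLz D.base.L1_le D.base.t1_mem
  have ht2z := hLz D.base.L2_le D.base.t2_mem
  have ht1b : Commute t1 b := ((mem_centralizer_iff.1 (D.base.L1_cent D.base.t1_mem)) b D.b_mem).symm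
  have ht2a : Commute t2 a := ((mem_centralizer_iff.1 (D.base.L2_cent D.base.t2_mem)) a D.a_mem).symm
  have ht1y : Commute t1 y := D.y_t1
  have ht2y : Commute t2 y := D.y_t2
  have sq : ∀ {t : G}, orderOf t = 2 → t * t = 1 := fun h => by
    rw [← pow_two, ← h, pow_orderOf_eq_one]
  have cube : ∀ {x : G}, x ∈ E → x ^ 3 = 1 := fun hx => D.E_exp _ hx
  have haE : a ∈ E := by
    rw [D.E_eq]; exact mem_sup_left (mem_sup_left (mem_sup_right (mem_zpowers a)))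
  have hbE : b ∈ E := by
    rw [D.E_eq]; exact mem_sup_left (mem_sup_right (mem_zpowers b))
  have ha1 : a ≠ 1 := fun e => D.a_not (e ▸ one_mem _)
  have hb1 : b ≠ 1 := fun e => D.b_not (e ▸ one_mem _)
  have hA := six_cent3 hφ (cube haE) ha1
  have hB := six_cent3 hψ (cube hbE) hb1
  have pw : φ pY = y⁻¹ * z := by
    rw [← hφ.map_z, ← hφ.map_y, ← map_inv, ← map_mul]
    exact congrArg φ (codeS_injective (by decide +kernel))
  have py : ψ pY = y := by
    have : ψ pY = (y⁻¹ * z)⁻¹ * z := by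
      rw [← hψ.map_y]
      conv_rhs => arg 2; rw [← hψ.map_z]
      rw [← map_inv, ← map_mul]
      exact congrArg ψ (codeS_injective (by decide +kernel))
    rw [this, mul_inv_rev, inv_inv, mul_assoc, hzy.symm.eq, inv_mul_cancel_left]
  obtain ⟨φ1, hA1, r1, f0, fb, fw, fs⟩ := norm_sw hA hφ.map_y hφ.map_b pw (sq D.base.t2_two) ht2a ht2y
    (ht2y.inv_right.mul_right ht2z) D.t2_b
  obtain ⟨ψ1, hB1, q1, k0, ka, kw, ks⟩ := norm_sw hB hψ.map_y hψ.map_b py (sq D.base.t1_two) ht1b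
    (ht1y.inv_right.mul_right ht1z) ht1y D.t1_a
  have tA : ∀ X, Commute (ψ1 sw) (φ1 X) := fun X => by
    have h : φ1 X ∈ centralizer ({a, t1} : Set G) := hφ.range ▸ (r1 ▸ ⟨X, rfl⟩ : φ1 X ∈ φ.range)
    rw [ks]
    exact mem_centralizer_iff.1 h t1 (by simp)
  obtain ⟨φ2, hA2, r2, g0, gb, gw, gs, gn, gt⟩ := norm_t0 hA1 hB1 f0 fb fw k0 ka kw tA
  have tB : ∀ X, Commute (φ2 sw) (ψ1 X) := fun X => by
    have h : ψ1 X ∈ centralizer ({b, t2} : Set G) := hψ.range ▸ (q1 ▸ ⟨X, rfl⟩ : ψ1 X ∈ ψ.range)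
    rw [gs, fs]
    exact mem_centralizer_iff.1 h t2 (by simp)
  obtain ⟨ψ2, hB2, q2, l0, la, lw, ls, ln, lt⟩ := norm_t0 hB1 hA2 k0 ka kw g0 gb gw tB
  obtain ⟨g, s1, s2, s3, s4⟩ := D.swap
  refine ⟨g, φ2, ψ2, ⟨hA2, hB2, g0, gb, gw, l0, la, lw, s1, s2, s3, s4, ?_, ?_, ?_, lt⟩, r2.trans r1, q2.trans q1⟩
  · intro X
    rw [ls]
    have hX : φ2 X ∈ φ1.range := r2 ▸ ⟨X, rfl⟩
    obtain ⟨Y, hY⟩ := hX
    exact hY ▸ tA Y
  · intro X
    have hX : ψ2 X ∈ ψ1.range := q2 ▸ ⟨X, rfl⟩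
    obtain ⟨Y, hY⟩ := hX
    exact hY ▸ tB Y
  · rw [gt, ln]

end Cfsg.Agent.FFourLocal.Glue3
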