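import Cfsg.Agent.Lib.FFourLocal.Glue3.Frame
import Cfsg.Agent.Lib.FFourLocal.Glue3.Fix

/-!
# The two Levi complements of `F₄(2)`

`exists_ct`: the coordinate systems of `C(a)` and `C(b)` give the data of the Curtis–Tits recognition.
-/

set_option autoImplicit false
set_option maxRecDepth 100000

namespace Cfsg.Agent.FFourLocal

open Subgroup Cfsg.Agent.SpThreeCent.SixEnd Glue3

universe u

namespace Glue3

theorem range_le_of_nodes {G : Type u} [Group G] {Φ : S →* G} {N : Subgroup G}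
    (h : ∀ i, node i ∈ N.comap Φ) : Φ.range ≤ N := by
  have : (⊤ : Subgroup S) ≤ N.comap Φ := by
    rw [← closure_range_node, closure_le]
    rintro _ ⟨i, rfl⟩
    exact h i
  rintro _ ⟨X, rfl⟩
  exact this (mem_top X)

theorem word_mem {N : Subgroup S} {L : List S} {X : S} (hL : ∀ Y ∈ L, Y ∈ N)
    (h : (codeS L.prod == codeS X) = true) : X ∈ N :=
  codeS_injective (beq_iff_eq.1 h) ▸ list_prod_mem hL

namespace Fr

variable {G : Type u} [Group G] {a b y w g : G} {φ ψ Φ : S →* G}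

theorem psi_le [Finite G] (F : Fr a b y w g φ ψ) (C : ShortC b w φ ψ Φ) : ψ.range ≤ φ.range ⊔ Φ.range := by
  obtain ⟨N, hN⟩ : ∃ N, N = (φ.range ⊔ Φ.range).comap ψ := ⟨_, rfl⟩
  have inΦ : ∀ {X Y : S}, Φ Y = ψ X → X ∈ N := fun e => hN ▸ mem_sup_right ⟨_, e⟩
  have inφ : ∀ {X Y : S}, φ Y = ψ X → X ∈ N := fun e => hN ▸ mem_sup_left ⟨_, e⟩
  have a48 : tvS 48 ∈ N := inΦ C.u1
  have a50 : tvS 50 ∈ N := inΦ C.u8
  have hnu : nu ∈ N := inφ F.phi_t0
  have hn0 : n0el ∈ N := inφ F.phi_n0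
  have a1 : tvS 1 ∈ N := inφ F.psi_t0.symm
  have a9 : tvS 9 ∈ N := inΦ C.u32
  have hxi : sh 48 9 ∈ N := inΦ (F.img_xi C).symm
  refine range_le_of_nodes fun i => ?_
  rw [← hN]
  fin_cases i
  · exact word_mem (L := [tvS 48, nu, tvS 48, n0el, tvS 50, nu, tvS 48, n0el, nu])
      (by simp [a48, a50, hnu, hn0]) (by decide +kernel)
  · exact word_mem (L := [nu, tvS 48, n0el, tvS 50, tvS 48, n0el, nu])
      (by simp [a48, a50, hnu, hn0]) (by decide +kernel)
  · exact word_mem (L := [tvS 50, nu, tvS 48, tvS 50, nu]) (by simp [a48, a50, hnu]) (by decide +kernel)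
  · exact word_mem (L := [nu, tvS 48, nu, n0el, tvS 50, nu, n0el])
      (by simp [a48, a50, hnu, hn0]) (by decide +kernel)
  · exact word_mem (L := [nu, tvS 48, n0el, tvS 1, sh 48 9, tvS 50, tvS 48, n0el, sh 48 9, nu, tvS 1])
      (by simp [a48, a50, hnu, hn0, a1, hxi]) (by decide +kernel)
  · exact word_mem (L := [tvS 1]) (by simp [a1]) (by decide +kernel)
  · exact word_mem (L := [tvS 1, tvS 9, tvS 1]) (by simp [a1, a9]) (by decide +kernel)

theorem short_le [Finite G] (F : Fr a b y w g φ ψ) (C : ShortC b w φ ψ Φ) : Φ.range ≤ φ.range ⊔ ψ.range := by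
  obtain ⟨N, hN⟩ : ∃ N, N = (φ.range ⊔ ψ.range).comap Φ := ⟨_, rfl⟩
  have inψ : ∀ {X Y : S}, Φ X = ψ Y → X ∈ N := fun {X Y} e => by
    rw [hN, mem_comap, e]; exact mem_sup_right ⟨Y, rfl⟩
  have inφ : ∀ {X Y : S}, Φ X = φ Y → X ∈ N := fun {X Y} e => by
    rw [hN, mem_comap, e]; exact mem_sup_left ⟨Y, rfl⟩
  obtain ⟨h2, -, -, -, h416, h232, -⟩ := F.img_D C
  have t1 : tvS 1 ∈ N := inψ C.u1
  have t8 : tvS 8 ∈ N := inψ C.u8
  have t2 : tvS 2 ∈ N := inφ C.u2
  have hT : px 1 ∈ N := inφ (C.m1.trans F.phi_b.symm)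
  have t4 : tvS 4 ∈ N := inφ C.u4
  have t32 : tvS 32 ∈ N := inψ C.u32
  have hxi : sh 1 32 ∈ N := inψ (F.img_xi C).symm
  have d416 : tvS 50 ∈ N := inφ h416.symm
  have d232 : tvS 48 ∈ N := inφ h232.symm
  have d2 : sh 6 48 ∈ N := inφ h2.symm
  refine range_le_of_nodes fun i => ?_
  rw [← hN]
  fin_cases i
  · exact word_mem (L := [tvS 32]) (by simp [t32]) (by decide +kernel)
  · exact word_mem (L := [tvS 2, px 1]) (by simp [t2, hT]) (by decide +kernel)
  · exact word_mem (L := [tvS 4]) (by simp [t4]) (by decide +kernel)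
  · exact word_mem (L := [tvS 2, tvS 48, px 1, tvS 50]) (by simp [t2, d232, hT, d416]) (by decide +kernel)
  · exact word_mem (L := [sh 6 48, sh 1 32, tvS 8, sh 1 32, sh 6 48]) (by simp [d2, hxi, t8]) (by decide +kernel)
  · exact word_mem (L := [tvS 1]) (by simp [t1]) (by decide +kernel)
  · exact word_mem (L := [tvS 8]) (by simp [t8]) (by decide +kernel)

end Fr

end Glue3

/-- The data of the recognition from the two coordinate systems. -/
theorem exists_ct {G : Type u} [Group G] [Finite G] {Z Q Q1 Q2 L1 L2 E : Subgroup G} {t1 t2 z y a b : G}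
    {φ ψ : S →* G} (D : Local Z Q Q1 Q2 L1 L2 E t1 t2 z y a b) (hφ : Six a t1 z y b φ)
    (hψ : Six b t2 z (y⁻¹ * z) a ψ) :
    ∃ Φt Φs : S →* G, CTData Φt Φs ∧ φ.range ≤ Φt.range ⊔ Φs.range ∧ ψ.range ≤ Φt.range ⊔ Φs.range ∧
      a ∈ Φt.range ⊔ Φs.range ∧ b ∈ Φt.range ⊔ Φs.range ∧
      Φt.range ⊔ Φs.range ≤ centralizer ({a} : Set G) ⊔ centralizer ({b} : Set G) := by
  obtain ⟨g, φ', ψ', F, rφ, rψ⟩ := exists_frame D hφ hψ
  obtain ⟨Φ, C⟩ := F.exists_short
  have hr : (Φ.comp (MulAut.conj ms).toMonoidHom).range = Φ.range := inn_range Φ ms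
  have hψ' : ψ'.range ≤ φ'.range ⊔ (Φ.comp (MulAut.conj ms).toMonoidHom).range := hr ▸ F.psi_le C
  obtain ⟨h2, h16, -, -, h416, h232, -⟩ := F.img_D C
  have im : ∀ {X Y : S}, codeS (ms * X * ms⁻¹) = codeS Y →
      Φ.comp (MulAut.conj ms).toMonoidHom X = Φ Y := fun e => by
    rw [MonoidHom.comp_apply, MulEquiv.coe_toMonoidHom, MulAut.conj_apply, codeS_injective e]
  have hx : Φ.comp (MulAut.conj ms).toMonoidHom (sh 1 16) = Φ (sh 1 38) := im (by decide +kernel)
  have hx' : Φ.comp (MulAut.conj ms).toMonoidHom (sh 2 8) = Φ (sh 8 6) := im (by decide +kernel)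
  refine ⟨φ', Φ.comp (MulAut.conj ms).toMonoidHom, ?_, rφ ▸ le_sup_left, rψ ▸ hψ', ?_, ?_, ?_⟩
  · exact
      { inj_t := F.hA.inj
        inj_s := (C.hC.inn ms).inj
        agree2 := h2.trans (im (by decide +kernel)).symm
        agree2' := h16.trans (im (by decide +kernel)).symm
        agree3 := h416.trans (im (by decide +kernel)).symm
        agree3' := h232.trans (im (by decide +kernel)).symm
        comm := hx ▸ (F.comm_pair C).1
        comm' := hx ▸ (F.comm_pair C).2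
        comm_neg := hx' ▸ (F.comm_pair_neg C).1
        comm_neg' := hx' ▸ (F.comm_pair_neg C).2
        centre := fun c _ ct cs => by
          have hle : φ'.range ⊔ (Φ.comp (MulAut.conj ms).toMonoidHom).range ≤ centralizer ({c} : Set G) := by
            refine sup_le ?_ ?_
            · rintro _ ⟨s, rfl⟩
              exact mem_centralizer_singleton_iff.2 (ct s).eq.symm
            · rintro _ ⟨s, rfl⟩
              exact mem_centralizer_singleton_iff.2 (cs s).eq.symm
          have cψ : ∀ s, Commute c (ψ' s) := fun s =>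
            (mem_centralizer_singleton_iff.1 (hle (hψ' ⟨s, rfl⟩))).symm
          obtain ⟨i, X, rfl⟩ := F.hB.cent c (F.phi_b ▸ ct pB)
          have hX : X = 1 := center_one fun Y => F.hB.commute_mul_iff.1 (cψ Y)
          rw [hX, map_one, mul_one] at ct ⊢
          have : (pB : S) ^ i = 1 := center_one fun Y => F.hA.commute_iff.1 (by
            rw [map_zpow, F.phi_b]; exact ct Y)
          rw [← F.phi_b, ← map_zpow, this, map_one] }
  · exact F.psi_a ▸ hψ' ⟨pB, rfl⟩
  · exact F.phi_b ▸ mem_sup_left ⟨pB, rfl⟩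
  · rw [hr]
    have hA : φ'.range ≤ centralizer ({a} : Set G) := by
      rintro _ ⟨X, rfl⟩; exact mem_centralizer_singleton_iff.2 (F.hA.comm X).eq.symm
    have hB : ψ'.range ≤ centralizer ({b} : Set G) := by
      rintro _ ⟨X, rfl⟩; exact mem_centralizer_singleton_iff.2 (F.hB.comm X).eq.symm
    exact sup_le (hA.trans le_sup_left) ((F.short_le C).trans (sup_le_sup hA hB))

end Cfsg.Agent.FFourLocal
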