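import Cfsg.Agent.Lib.FFourLocal.Glue3.Coord
import Cfsg.Agent.Lib.FFourLocal.Glue3.FinB

/-!
# The three four-groups, what normalises them, and the coprimality argument
-/

set_option autoImplicit false
set_option maxRecDepth 100000

namespace Cfsg.Agent.FFourLocal.Glue3

open Subgroup Cfsg.Agent.SpThreeCent.SixEnd

universe u

variable {G : Type u} [Group G]

/-- A subgroup normalised by a `3`-group of exponent three: either of order prime to three, or with an element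
of order three fixed by it. -/
theorem not_three_dvd [Finite G] {H T : Subgroup G} (hT : IsPGroup 3 ↥T) (hn : T ≤ normalizer (H : Set G))
    (h : ∀ c ∈ H, c ^ 3 = 1 → (∀ u ∈ T, Commute u c) → c = 1) : ¬ 3 ∣ Nat.card ↥H := by
  have := Fact.mk Nat.prime_three
  intro hd
  obtain ⟨x, hx⟩ := exists_prime_orderOf_dvd_card' 3 hd
  set M := H ⊔ T with hM
  have hxH : (x : G) ∈ H := x.2
  have hnM : M ≤ normalizer (H : Set G) := sup_le le_normalizer hn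
  obtain ⟨P, hP⟩ := (hT.comap_subtype (K := M)).exists_le_sylow
  have hXp : IsPGroup 3 ↥(zpowers (⟨x, (le_sup_left : H ≤ M) hxH⟩ : M)) := by
    refine IsPGroup.of_card (n := 1) ?_
    rw [Nat.card_zpowers, Subgroup.orderOf_mk, Subgroup.orderOf_coe, hx, pow_one]
  obtain ⟨P', hP'⟩ := hXp.exists_le_sylow
  obtain ⟨m, rfl⟩ := MulAction.exists_smul_eq M P P'
  have hm := hP' (mem_zpowers _)
  rw [Sylow.coe_subgroup_smul, Subgroup.mem_pointwise_smul_iff_inv_smul_mem, ← map_inv,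
    MulAut.smul_def, MulAut.conj_apply] at hm
  set c0 : M := m⁻¹ * ⟨x, (le_sup_left : H ≤ M) hxH⟩ * m⁻¹⁻¹ with hc0
  set A : Subgroup G := ((P : Subgroup M).map M.subtype) ⊓ H with hA
  have hc0A : (c0 : G) ∈ A := by
    refine ⟨mem_map_of_mem _ hm, ?_⟩
    simp only [hc0, Subgroup.coe_mul, InvMemClass.coe_inv]
    exact (mem_normalizer_iff.1 (inv_mem (hnM m.2)) _).1 hxH
  have hc01 : (c0 : G) ≠ 1 := by
    simp only [hc0, Subgroup.coe_mul, InvMemClass.coe_inv, ne_eq, conj_eq_one_iff]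
    intro e
    rw [OneMemClass.coe_eq_one] at e
    simp [e] at hx
  set PG : Subgroup G := (P : Subgroup M).map M.subtype with hPG
  have hPp : IsPGroup 3 ↥PG := P.2.map _
  have hTP : T ≤ PG := fun u hu =>
    ⟨⟨u, (le_sup_right : T ≤ M) hu⟩, hP (mem_comap.2 hu), rfl⟩
  have hPA : PG ≤ normalizer (A : Set G) := by
    intro p hp
    refine mem_normalizer_iff.2 fun z => ?_
    have hpH : p ∈ normalizer (H : Set G) := hnM ((Subgroup.map_subtype_le _) hp)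
    constructor
    · intro hz
      obtain ⟨hz1, hz2⟩ := mem_inf.1 hz
      exact mem_inf.2 ⟨mul_mem (mul_mem hp hz1) (inv_mem hp), (mem_normalizer_iff.1 hpH z).1 hz2⟩
    · intro hz
      obtain ⟨hz1, hz2⟩ := mem_inf.1 hz
      refine mem_inf.2 ⟨?_, (mem_normalizer_iff.1 hpH z).2 hz2⟩
      have := mul_mem (mul_mem (inv_mem hp) hz1) hp
      rwa [show p⁻¹ * (p * z * p⁻¹) * p = z by group] at this
  letI : MulAction PG A :=
    { smul := fun a k => ⟨a * k * (a : G)⁻¹, (mem_normalizer_iff.1 (hPA a.2) k).1 k.2⟩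
      one_smul := fun k => Subtype.ext (by show (1 : G) * k * (1 : G)⁻¹ = k; simp)
      mul_smul := fun a b k => Subtype.ext (by
        show (a : G) * b * k * ((a : G) * b)⁻¹ = a * (b * k * (b : G)⁻¹) * (a : G)⁻¹
        simp only [mul_assoc, mul_inv_rev]) }
  have hA1 : 3 ∣ Nat.card A := by
    obtain ⟨n, hn'⟩ := (hPp.to_le (inf_le_left : A ≤ PG)).exists_card_eq
    rcases n with _ | n
    · rw [pow_zero, Subgroup.card_eq_one] at hn'
      exact absurd ((Subgroup.eq_bot_iff_forall _).1 hn' _ hc0A) hc01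
    · exact ⟨3 ^ n, by rw [hn', pow_succ, mul_comm]⟩
  have h1 : (1 : A) ∈ MulAction.fixedPoints PG A := fun p => Subtype.ext (by
    show (p : G) * 1 * (p : G)⁻¹ = 1; simp)
  obtain ⟨k, hk, hk1⟩ := hPp.exists_fixed_point_of_prime_dvd_card_of_fixed_point A hA1 h1
  have hfix : ∀ u ∈ T, Commute u (k : G) := fun u hu =>
    mul_inv_eq_iff_eq_mul.1 (congrArg Subtype.val (hk ⟨u, hTP hu⟩))
  obtain ⟨n, hn'⟩ := IsPGroup.iff_orderOf.1 (hPp.to_le (inf_le_left : A ≤ PG)) k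
  rcases n with _ | n
  · rw [pow_zero, orderOf_eq_one_iff] at hn'
    exact hk1 hn'.symm
  have h3 : orderOf ((k : G) ^ 3 ^ n) = 3 := by
    rw [orderOf_pow' _ (pow_ne_zero _ (by norm_num)), Subgroup.orderOf_coe, hn',
      Nat.gcd_eq_right (pow_dvd_pow 3 (Nat.le_succ n)), pow_succ, Nat.mul_div_cancel_left _ (by positivity)]
  have := h ((k : G) ^ 3 ^ n) (pow_mem k.2.2 _) (by rw [← orderOf_dvd_iff_pow_eq_one, h3])
    fun u hu => (hfix u hu).pow_right _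
  rw [this, orderOf_one] at h3
  exact absurd h3 (by norm_num)

/-- The conjugation image of a generating set gives the normaliser. -/
theorem mem_normalizer_centralizer {c : G} {A : Set G} (h : ∀ r ∈ A, c * r * c⁻¹ ∈ A)
    (h' : ∀ r ∈ A, c⁻¹ * r * c ∈ A) : c ∈ normalizer ((centralizer A : Subgroup G) : Set G) := by
  refine mem_normalizer_iff.2 fun z => ?_
  simp only [mem_centralizer_iff]
  constructor
  · intro hz r hr
    have := hz _ (h' r hr)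
    calc r * (c * z * c⁻¹) = c * ((c⁻¹ * r * c) * z) * c⁻¹ := by group
      _ = c * (z * (c⁻¹ * r * c)) * c⁻¹ := by rw [this]
      _ = _ := by group
  · intro hz r hr
    have := hz _ (h r hr)
    calc r * z = c⁻¹ * ((c * r * c⁻¹) * (c * z * c⁻¹)) * c := by group
      _ = c⁻¹ * ((c * z * c⁻¹) * (c * r * c⁻¹)) * c := by rw [this]
      _ = _ := by group

/-- The four-group moved by the `k`-th plane element. -/
def W (φ : S →* G) (t : G) (k : Fin 3) : Set G :=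
  {r | IsW t (φ (px (k + 1))) (φ (px (k + 2))) (φ (px k)) r}

namespace IsW

variable {t e1 e2 e r : G}

theorem inv (h : IsW t e1 e2 e r) (he : e ^ 3 = 1) : IsW t e1 e2 e⁻¹ r := by
  obtain ⟨h0, h1, h2, h3, h4, h5⟩ := h
  have e2i : e⁻¹ = e ^ 2 := inv_eq_of_mul_eq_one_right (by rw [← pow_succ']; exact he)
  have hA : r * r = 1 := h0
  have hB : (e * r * e⁻¹) * (e * r * e⁻¹) = 1 := by
    rw [show (e * r * e⁻¹) * (e * r * e⁻¹) = e * (r * r) * e⁻¹ by group, h0, mul_one, mul_inv_cancel]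
  have hrB := h4
  have hC : e ^ 2 * r * (e ^ 2)⁻¹ = r * (e * r * e⁻¹) := by
    have h5' := eq_inv_of_mul_eq_one_right h5
    rw [h5', mul_inv_rev, inv_eq_of_mul_eq_one_left hA, inv_eq_of_mul_eq_one_left hB, hrB.eq]
  have i1 : e⁻¹ * r * e⁻¹⁻¹ = e ^ 2 * r * (e ^ 2)⁻¹ := by rw [e2i]
  have i2 : e⁻¹ ^ 2 * r * (e⁻¹ ^ 2)⁻¹ = e * r * e⁻¹ := by
    conv_lhs => rw [e2i, ← pow_mul, show 2 * 2 = 3 + 1 from rfl, pow_add, he, one_mul, pow_one]
  refine ⟨h0, h1, h2, h3, ?_, ?_⟩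
  · rw [i1, hC]; exact (Commute.refl r).mul_right hrB
  · rw [i1, i2, hC]
    rw [← mul_assoc r r, hA, one_mul, hB]

theorem inv1 (h : IsW t e1 e2 e r) : IsW t e1⁻¹ e2 e r :=
  ⟨h.1, h.2.1, h.2.2.1.inv_right, h.2.2.2⟩

theorem inv2 (h : IsW t e1 e2 e r) : IsW t e1 e2⁻¹ e r :=
  ⟨h.1, h.2.1, h.2.2.1, h.2.2.2.1.inv_right, h.2.2.2.2⟩

theorem of_sign1 {p : G} (hp : p = e1 ∨ p = e1⁻¹) (h : IsW t p e2 e r) : IsW t e1 e2 e r := by
  rcases hp with rfl | rfl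
  exacts [h, by simpa using h.inv1]

theorem of_sign2 {p : G} (hp : p = e2 ∨ p = e2⁻¹) (h : IsW t e1 p e r) : IsW t e1 e2 e r := by
  rcases hp with rfl | rfl
  exacts [h, by simpa using h.inv2]

theorem of_sign {p : G} (he : e ^ 3 = 1) (hp : p = e ∨ p = e⁻¹) (h : IsW t e1 e2 p r) :
    IsW t e1 e2 e r := by
  rcases hp with rfl | rfl
  exacts [h, by simpa using h.inv (by rw [inv_pow, he, inv_one])]

end IsW

/-- An element of the model permuting the three plane elements up to sign. -/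
def Perm3 (X : S) (π : Fin 3 → Fin 3) : Prop :=
  Function.Injective π ∧ ∀ k, X * px k * X⁻¹ = px (π k) ∨ X * px k * X⁻¹ = (px (π k))⁻¹

theorem perm3_aux : ∀ π : Fin 3 → Fin 3, Function.Injective π → ∀ k,
    (π (k + 1) = π k + 1 ∧ π (k + 2) = π k + 2) ∨ (π (k + 1) = π k + 2 ∧ π (k + 2) = π k + 1) := by
  decide +kernel

namespace Fr

variable {a b y w g : G} {φ ψ : S →* G}

theorem W0_eq (F : Fr a b y w g φ ψ) {r : G} :
    r ∈ W φ (ψ sw) 0 ↔ ∃ X ∈ W0L, r = ψ X := by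
  show IsW _ (φ (px 1)) (φ (px 2)) (φ (px 0)) r ↔ _
  rw [F.phi_y, F.memW0]

theorem W1_eq (F : Fr a b y w g φ ψ) {Ψ : S →* G} (hS : Side a (ψ sw) y (φ (px 1)) (φ (px 2)) Ψ) {r : G} :
    r ∈ W φ (ψ sw) 1 ↔ ∃ X ∈ W1L, r = Ψ X := by
  show IsW _ (φ (px 2)) (φ (px 0)) (φ (px 1)) r ↔ _
  rw [F.phi_y, ← hS.mem1]
  exact ⟨IsW.swap, IsW.swap⟩

theorem W2_eq (F : Fr a b y w g φ ψ) {Ψ : S →* G} (hS : Side a (ψ sw) y (φ (px 1)) (φ (px 2)) Ψ) {r : G} :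
    r ∈ W φ (ψ sw) 2 ↔ ∃ X ∈ W2L, r = Ψ X := by
  show IsW _ (φ (px 0)) (φ (px 1)) (φ (px 2)) r ↔ _
  rw [F.phi_y, ← hS.mem2]

theorem W_comm (F : Fr a b y w g φ ψ) {i j : Fin 3} {r r' : G} (hr : r ∈ W φ (ψ sw) i)
    (hr' : r' ∈ W φ (ψ sw) j) : Commute r r' := by
  obtain ⟨Ψy, hy⟩ := F.side_y
  obtain ⟨Ψ1, h1⟩ := F.side_x1
  obtain ⟨Ψ2, h2⟩ := F.side_x2
  have e12 : ∀ {k : Fin 3} {r : G}, k ≠ 0 → r ∈ W φ (ψ sw) k →
      IsW (ψ sw) y (φ (px 2)) (φ (px 1)) r ∨ IsW (ψ sw) y (φ (px 1)) (φ (px 2)) r := by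
    intro k r hk h
    fin_cases k
    · exact absurd rfl hk
    · exact Or.inl (hy.mem1.2 ((F.W1_eq hy).1 h))
    · exact Or.inr (hy.mem2.2 ((F.W2_eq hy).1 h))
  have e02 : ∀ {k : Fin 3} {r : G}, k ≠ 1 → r ∈ W φ (ψ sw) k →
      IsW (ψ sw) (φ (px 1)) (φ (px 2)) y r ∨ IsW (ψ sw) (φ (px 1)) y (φ (px 2)) r := by
    intro k r hk h
    fin_cases k
    · exact Or.inl (F.memW0.2 (F.W0_eq.1 h))
    · exact absurd rfl hk
    · exact Or.inr (hy.mem2.2 ((F.W2_eq hy).1 h)).swap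
  have e01 : ∀ {k : Fin 3} {r : G}, k ≠ 2 → r ∈ W φ (ψ sw) k →
      IsW (ψ sw) (φ (px 2)) (φ (px 1)) y r ∨ IsW (ψ sw) (φ (px 2)) y (φ (px 1)) r := by
    intro k r hk h
    fin_cases k
    · exact Or.inl (F.memW0.2 (F.W0_eq.1 h)).swap
    · exact Or.inr (hy.mem1.2 ((F.W1_eq hy).1 h)).swap
    · exact absurd rfl hk
  by_cases hi0 : i ≠ 0 ∧ j ≠ 0
  · exact hy.comm12 (e12 hi0.1 hr) (e12 hi0.2 hr')
  by_cases hi1 : i ≠ 1 ∧ j ≠ 1
  · exact h1.comm12 (e02 hi1.1 hr) (e02 hi1.2 hr')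
  have hi2 : i ≠ 2 ∧ j ≠ 2 :=
    (show ∀ i j : Fin 3, ¬ (i ≠ 0 ∧ j ≠ 0) → ¬ (i ≠ 1 ∧ j ≠ 1) → i ≠ 2 ∧ j ≠ 2 by decide) i j hi0 hi1
  exact h2.comm12 (e01 hi2.1 hr) (e01 hi2.2 hr')

theorem W_t (_F : Fr a b y w g φ ψ) {k : Fin 3} {r : G} (hr : r ∈ W φ (ψ sw) k) : Commute r (ψ sw) :=
  hr.2.1

/-- The images of the three sets under an element permuting the planes. -/
theorem W_perm (F : Fr a b y w g φ ψ) {X : S} {π : Fin 3 → Fin 3} (hX : Perm3 X π) {k : Fin 3} {r : G}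
    (hr : r ∈ W φ (ψ sw) k) : φ X * r * (φ X)⁻¹ ∈ W φ (ψ sw) (π k) := by
  have himg : ∀ j, φ X * φ (px j) * (φ X)⁻¹ = φ (px (π j)) ∨ φ X * φ (px j) * (φ X)⁻¹ = (φ (px (π j)))⁻¹ := by
    intro j
    rw [← map_inv, ← map_inv, ← map_mul, ← map_mul]
    exact (hX.2 j).imp (congrArg φ) (congrArg φ)
  have h := IsW.conj hr (φ X)
  rw [(F.tA X).symm.eq, mul_inv_cancel_right] at h
  have h3 : (φ (px (π k))) ^ 3 = 1 := by rw [← map_pow, px_cube, map_one]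
  have h' := ((h.of_sign1 (himg (k + 1))).of_sign2 (himg (k + 2))).of_sign h3 (himg k)
  rcases perm3_aux π hX.1 k with ⟨e1, e2⟩ | ⟨e1, e2⟩ <;> rw [e1, e2] at h'
  exacts [h', h'.swap]

theorem px_perm : ∀ i k : Fin 3, px i * px k * (px i)⁻¹ = px k := by
  intro i k
  apply codeS_injective
  revert i k
  decide +kernel

theorem perm_px (i : Fin 3) : Perm3 (px i) id := ⟨Function.injective_id, fun k => Or.inl (px_perm i k)⟩

theorem perm_inv {X : S} {π : Fin 3 → Fin 3} (h : Perm3 X π) : ∃ π', Perm3 X⁻¹ π' := by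
  obtain ⟨e, he⟩ : ∃ e : Fin 3 ≃ Fin 3, ⇑e = π :=
    ⟨Equiv.ofBijective π (Finite.injective_iff_bijective.1 h.1), rfl⟩
  refine ⟨e.symm, e.symm.injective, fun k => ?_⟩
  have hk := h.2 (e.symm k)
  rw [← he, e.apply_symm_apply] at hk
  rw [inv_inv]
  rcases hk with hk | hk
  · exact Or.inl (by rw [← hk]; group)
  · exact Or.inr (by rw [← inv_inv (px k), ← hk]; group)

/-- Conjugation by a permuting element keeps the union of the sets. -/
theorem W_all (F : Fr a b y w g φ ψ) {X : S} {π : Fin 3 → Fin 3} (hX : Perm3 X π) {r : G}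
    (hr : r = ψ sw ∨ ∃ k, r ∈ W φ (ψ sw) k) :
    φ X * r * (φ X)⁻¹ = ψ sw ∨ ∃ k, φ X * r * (φ X)⁻¹ ∈ W φ (ψ sw) k := by
  rcases hr with rfl | ⟨k, hk⟩
  · exact Or.inl (by rw [(F.tA X).symm.eq, mul_inv_cancel_right])
  · exact Or.inr ⟨π k, F.W_perm hX hk⟩

theorem W_exists (F : Fr a b y w g φ ψ) (k : Fin 3) : ∃ r ∈ W φ (ψ sw) k, r ≠ 1 := by
  obtain ⟨Ψy, hy⟩ := F.side_y
  have hne : ∀ {Ψ : S →* G}, Function.Injective Ψ → ∀ {X : S}, codeS X ≠ oneC → Ψ X ≠ 1 :=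
    fun hi X h e => h (by rw [hi (e.trans (map_one _).symm), codeS_one])
  fin_cases k
  · exact ⟨ψ hel, F.W0_eq.2 ⟨hel, by simp [W0L, hel], rfl⟩, hne F.hB.inj (by decide +kernel)⟩
  · exact ⟨Ψy (tvS 2 * tvS 3), (F.W1_eq hy).2 ⟨_, by simp [W1L], rfl⟩, hne hy.hC.inj (by decide +kernel)⟩
  · exact ⟨Ψy (tvS 4 * tvS 5), (F.W2_eq hy).2 ⟨_, by simp [W2L], rfl⟩, hne hy.hC.inj (by decide +kernel)⟩

/-- The plane element moves the members of its set. -/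
theorem W_moves (_F : Fr a b y w g φ ψ) {k : Fin 3} {r : G} (hr : r ∈ W φ (ψ sw) k) (h1 : r ≠ 1) :
    ¬ Commute (φ (px k)) r := by
  intro hc
  obtain ⟨h0, -, -, -, -, h5⟩ := hr
  rw [hc.eq, mul_inv_cancel_right, (hc.pow_left 2).eq, mul_inv_cancel_right, h0, one_mul] at h5
  exact h1 h5

/-- A power of a plane element fixing its set is trivial. -/
theorem W_zpow (F : Fr a b y w g φ ψ) {k : Fin 3} {i : ℤ}
    (h : ∀ r ∈ W φ (ψ sw) k, Commute (φ (px k) ^ i) r) : φ (px k) ^ i = 1 := by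
  obtain ⟨r, hr, hr1⟩ := F.W_exists k
  have h3 : φ (px k) ^ 3 = 1 := by rw [← map_pow, px_cube, map_one]
  have h3' : φ (px k) ^ (3 : ℤ) = 1 := by exact_mod_cast h3
  by_contra hne
  have hi : ¬ (3 : ℤ) ∣ i := by
    rintro ⟨m, rfl⟩
    exact hne (by rw [zpow_mul, h3', one_zpow])
  have hcop : Int.gcd i 3 = 1 := by
    have hp : Int.gcd i 3 ∣ 3 := by exact_mod_cast Int.gcd_dvd_right i 3
    rcases (Nat.dvd_prime Nat.prime_three).1 hp with e | e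
    · exact e
    · exact absurd (by have := Int.gcd_dvd_left i 3; rwa [e] at this) hi
  have e := Int.gcd_eq_gcd_ab i 3
  rw [hcop, Nat.cast_one] at e
  refine F.W_moves hr hr1 ?_
  have : φ (px k) = (φ (px k) ^ i) ^ Int.gcdA i 3 := by
    conv_lhs => rw [← zpow_one (φ (px k)), e, zpow_add, zpow_mul, zpow_mul, h3', one_zpow, mul_one]
  rw [this]
  exact (h r hr).zpow_left _

theorem W1_self : ∀ X ∈ W1L, ∀ Y ∈ W1L, X = 1 ∨ codeS Y = oneC ∨ codeS Y = codeS X ∨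
    codeS Y = codeS (px 1 * X * (px 1)⁻¹) ∨ codeS Y = codeS (px 1 ^ 2 * X * (px 1 ^ 2)⁻¹) := by
  intro X hX Y hY
  have := (show ∀ X ∈ W1L, ∀ Y ∈ W1L, codeS X = oneC ∨ codeS Y = oneC ∨ codeS Y = codeS X ∨
    codeS Y = codeS (px 1 * X * (px 1)⁻¹) ∨ codeS Y = codeS (px 1 ^ 2 * X * (px 1 ^ 2)⁻¹) by
      decide +kernel) X hX Y hY
  exact this.imp (fun e => codeS_injective (e.trans codeS_one.symm)) id

theorem W2_self : ∀ X ∈ W2L, ∀ Y ∈ W2L, X = 1 ∨ codeS Y = oneC ∨ codeS Y = codeS X ∨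
    codeS Y = codeS ((px 2)⁻¹ * X * (px 2)⁻¹⁻¹) ∨ codeS Y = codeS ((px 2)⁻¹ ^ 2 * X * ((px 2)⁻¹ ^ 2)⁻¹) := by
  intro X hX Y hY
  have := (show ∀ X ∈ W2L, ∀ Y ∈ W2L, codeS X = oneC ∨ codeS Y = oneC ∨ codeS Y = codeS X ∨
    codeS Y = codeS ((px 2)⁻¹ * X * (px 2)⁻¹⁻¹) ∨ codeS Y = codeS ((px 2)⁻¹ ^ 2 * X * ((px 2)⁻¹ ^ 2)⁻¹) by
      decide +kernel) X hX Y hY
  exact this.imp (fun e => codeS_injective (e.trans codeS_one.symm)) id

end Fr

end Cfsg.Agent.FFourLocal.Glue3
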