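import Cfsg.Agent.Lib.FFourLocal.Glue3.Short

/-!
# The four quaternion groups and the decomposition of the residual group
-/

set_option autoImplicit false
set_option maxRecDepth 100000

namespace Cfsg.Agent.FFourLocal.Glue3

open Subgroup Cfsg.Agent.SpThreeCent.SixEnd

universe u

/-- The first generator of the plane fixed by a quaternion group. -/
def uq : Fin 4 → S := ![pB, pB, pY, pY]

/-- The second one. -/
def vq : Fin 4 → S := ![pY * px 0, pY * (px 0)⁻¹, pB * px 0, pB * (px 0)⁻¹]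

/-- `P` maps the `i`-th plane onto the `j`-th. -/
def moveC (P : S) (i j : Fin 4) : Bool :=
  [uq j, vq j].all fun z => (List.finRange 3).any fun a => (List.finRange 3).any fun c =>
    codeS z == codeS (P * (uq i ^ a.val * vq i ^ c.val) * P⁻¹)

theorem Qp_center : ∀ c ∈ ([34630287489, 17718845697, 32998907079, 49910332743, 25366879985,
      42278305649, 34078445239, 50989870903] : List ℕ),
    (([34630287489, 17718845697, 32998907079, 49910332743, 25366879985,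
      42278305649, 34078445239, 50989870903] : List ℕ).all fun d => commC c d) = true →
      c = oneC ∨ c = 17718845697 := by decide +kernel

theorem Qp_elems : ∀ c ∈ ([34630287489, 17718845697, 32998907079, 49910332743, 25366879985,
      42278305649, 34078445239, 50989870903] : List ℕ),
    ∃ X ∈ ([1, sw, qAp, qAp * sw, qBp, qBp * sw, qAp * qBp, qAp * qBp * sw] : List S),
      codeS X = c ∧ isQC 38959186952 (codeS X) = true := by decide +kernel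

theorem pair_cases : ∀ i j : Fin 4, i ≠ j →
    ∃ P ∈ ([1, sw02, sw01, tvS 4 * sw01, sw02 * tvS 1, tvS 4] : List S),
      (moveC P i 0 && moveC P j 1) = true ∨ (moveC P i 1 && moveC P j 0) = true := by decide +kernel

theorem move_self : ∀ k : Fin 3, ∀ i : Fin 4,
    (moveC (px k) i i && moveC (px k)⁻¹ i i) = true := by decide +kernel

theorem move_tau : ∀ i : Fin 4, (moveC (tvS 4) i (![2, 3, 0, 1] i) && moveC (tvS 4)⁻¹ (![2, 3, 0, 1] i) i) = true := by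
  decide +kernel

namespace Fr

variable {G : Type u} [Group G] {a b y w g : G} {φ ψ : S →* G}

/-- The `i`-th quaternion group. -/
def Qd (φ : S →* G) (t : G) (i : Fin 4) : Set G :=
  {q | Commute q t ∧ q ^ 4 = 1 ∧ Commute q (φ (uq i)) ∧ Commute q (φ (vq i))}

theorem Q_move (F : Fr a b y w g φ ψ) {P : S} {i j : Fin 4} (h : moveC P i j = true) {q : G}
    (hq : q ∈ Qd φ (ψ sw) i) : φ P * q * (φ P)⁻¹ ∈ Qd φ (ψ sw) j := by
  obtain ⟨ht, h4, hu, hv⟩ := hq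
  have key : ∀ z ∈ [uq j, vq j], Commute (φ P * q * (φ P)⁻¹) (φ z) := by
    intro z hz
    simp only [moveC, List.all_eq_true, List.any_eq_true, beq_iff_eq] at h
    obtain ⟨a, -, c, -, e⟩ := h z hz
    rw [codeS_injective e, map_mul, map_mul, map_inv, map_mul, map_pow, map_pow]
    exact ((hu.pow_right a.val).mul_right (hv.pow_right c.val)).map (MulAut.conj (φ P)).toMonoidHom
  refine ⟨?_, ?_, key _ (by simp), key _ (by simp)⟩
  · exact (((F.tA P).symm).mul_left ht).mul_left (F.tA P).symm.inv_left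
  · rw [conj_pow, h4, mul_one, mul_inv_cancel]

theorem Q0_iff (F : Fr a b y w g φ ψ) {q : G} :
    q ∈ Qd φ (ψ sw) 0 ↔ ∃ X, IsQ pP X ∧ q = ψ X := by
  constructor
  · rintro ⟨ht, h4, hu, hv⟩
    obtain ⟨X, rfl, hX⟩ := F.hB.prime_to (F.phi_b ▸ hu : Commute q b) (n := 4) (by decide) h4
    exact ⟨X, ⟨F.hB.commute_iff.1 ht, F.hB.commute_iff.1 (by rw [F.psi_pP]; exact hv), hX⟩, rfl⟩
  · rintro ⟨X, ⟨h1, h2, h3⟩, rfl⟩
    refine ⟨h1.map ψ, by rw [← map_pow, h3, map_one], ?_, ?_⟩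
    · show Commute _ (φ pB); rw [F.phi_b]; exact (F.hB.comm X).symm
    · show Commute _ (φ (pY * px 0)); rw [← F.psi_pP]; exact h2.map ψ

theorem Q1_iff (F : Fr a b y w g φ ψ) {q : G} :
    q ∈ Qd φ (ψ sw) 1 ↔ ∃ X, IsQ pM X ∧ q = ψ X := by
  constructor
  · rintro ⟨ht, h4, hu, hv⟩
    obtain ⟨X, rfl, hX⟩ := F.hB.prime_to (F.phi_b ▸ hu : Commute q b) (n := 4) (by decide) h4
    exact ⟨X, ⟨F.hB.commute_iff.1 ht, F.hB.commute_iff.1 (by rw [F.psi_pM]; exact hv), hX⟩, rfl⟩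
  · rintro ⟨X, ⟨h1, h2, h3⟩, rfl⟩
    refine ⟨h1.map ψ, by rw [← map_pow, h3, map_one], ?_, ?_⟩
    · show Commute _ (φ pB); rw [F.phi_b]; exact (F.hB.comm X).symm
    · show Commute _ (φ (pY * (px 0)⁻¹)); rw [← F.psi_pM]; exact h2.map ψ

theorem Q_one (_F : Fr a b y w g φ ψ) (i : Fin 4) : (1 : G) ∈ Qd φ (ψ sw) i :=
  ⟨Commute.one_left _, one_pow 4, Commute.one_left _, Commute.one_left _⟩

theorem Q_inv (_F : Fr a b y w g φ ψ) {i : Fin 4} {q : G} (hq : q ∈ Qd φ (ψ sw) i) :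
    q⁻¹ ∈ Qd φ (ψ sw) i :=
  ⟨hq.1.inv_left, by rw [inv_pow, hq.2.1, inv_one], hq.2.2.1.inv_left, hq.2.2.2.inv_left⟩

theorem Q_comm (F : Fr a b y w g φ ψ) {i j : Fin 4} (hij : i ≠ j) {q q' : G}
    (hq : q ∈ Qd φ (ψ sw) i) (hq' : q' ∈ Qd φ (ψ sw) j) : Commute q q' := by
  obtain ⟨P, -, h⟩ := pair_cases i j hij
  have key : Commute (φ P * q * (φ P)⁻¹) (φ P * q' * (φ P)⁻¹) := by
    rcases h with h | h <;> rw [Bool.and_eq_true] at h
    · obtain ⟨X, hX, eX⟩ := F.Q0_iff.1 (F.Q_move h.1 hq)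
      obtain ⟨Y, hY, eY⟩ := F.Q1_iff.1 (F.Q_move h.2 hq')
      rw [eX, eY]; exact (QQ_comm hX hY).map ψ
    · obtain ⟨X, hX, eX⟩ := F.Q1_iff.1 (F.Q_move h.1 hq)
      obtain ⟨Y, hY, eY⟩ := F.Q0_iff.1 (F.Q_move h.2 hq')
      rw [eX, eY]; exact ((QQ_comm hY hX).map ψ).symm
  simpa [mul_assoc] using key.map (MulAut.conj (φ P)⁻¹).toMonoidHom

theorem Q_mul (F : Fr a b y w g φ ψ) {i : Fin 4} {q q' : G} (hq : q ∈ Qd φ (ψ sw) i)
    (hq' : q' ∈ Qd φ (ψ sw) i) : q * q' ∈ Qd φ (ψ sw) i := by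
  have low : ∀ {i : Fin 4}, (i = 0 ∨ i = 1) → ∀ {q q' : G}, q ∈ Qd φ (ψ sw) i → q' ∈ Qd φ (ψ sw) i →
      q * q' ∈ Qd φ (ψ sw) i := by
    rintro i (rfl | rfl) q q' hq hq'
    · obtain ⟨X, hX, rfl⟩ := F.Q0_iff.1 hq
      obtain ⟨Y, hY, rfl⟩ := F.Q0_iff.1 hq'
      exact F.Q0_iff.2 ⟨_, IsQ_mul (Or.inl rfl) hX hY, (map_mul ψ X Y).symm⟩
    · obtain ⟨X, hX, rfl⟩ := F.Q1_iff.1 hq
      obtain ⟨Y, hY, rfl⟩ := F.Q1_iff.1 hq'
      exact F.Q1_iff.2 ⟨_, IsQ_mul (Or.inr rfl) hX hY, (map_mul ψ X Y).symm⟩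
  by_cases h : i = 0 ∨ i = 1
  · exact low h hq hq'
  · have hm := move_tau i
    rw [Bool.and_eq_true] at hm
    have hl : (![2, 3, 0, 1] : Fin 4 → Fin 4) i = 0 ∨ (![2, 3, 0, 1] : Fin 4 → Fin 4) i = 1 :=
      (show ∀ i : Fin 4, ¬ (i = 0 ∨ i = 1) → (![2, 3, 0, 1] : Fin 4 → Fin 4) i = 0 ∨
        (![2, 3, 0, 1] : Fin 4 → Fin 4) i = 1 by decide) i h
    have := F.Q_move hm.2 (low hl (F.Q_move hm.1 hq) (F.Q_move hm.1 hq'))
    rwa [map_inv, inv_inv, conj_mul, show (φ (tvS 4))⁻¹ * (φ (tvS 4) * (q * q') * (φ (tvS 4))⁻¹) *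
      φ (tvS 4) = q * q' by group] at this

theorem t_Q (F : Fr a b y w g φ ψ) : ψ sw ∈ Qd φ (ψ sw) 0 :=
  F.Q0_iff.2 ⟨sw, ⟨Commute.refl _, (commC_iff _ _).1 (by decide +kernel), codeS_injective (by decide +kernel)⟩, rfl⟩

/-- The product of the four groups. -/
def grpR0 (φ : S →* G) (t : G) : Subgroup G := closure {q | ∃ i, q ∈ Qd φ t i}

theorem Q_le_R0 (_F : Fr a b y w g φ ψ) {i : Fin 4} {q : G} (hq : q ∈ Qd φ (ψ sw) i) :
    q ∈ grpR0 φ (ψ sw) := subset_closure ⟨i, hq⟩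

theorem R0_split (F : Fr a b y w g φ ψ) {s : G} (hs : s ∈ grpR0 φ (ψ sw)) :
    ∃ q : Fin 4 → G, (∀ i, q i ∈ Qd φ (ψ sw) i) ∧ s = q 0 * q 1 * q 2 * q 3 := by
  induction hs using Subgroup.closure_induction with
  | mem x hx =>
    obtain ⟨i, hi⟩ := hx
    refine ⟨Function.update (fun _ => 1) i x, fun j => ?_, ?_⟩
    · rcases eq_or_ne j i with rfl | h
      · rw [Function.update_self]; exact hi
      · rw [Function.update_of_ne h]; exact F.Q_one j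
    · fin_cases i <;> simp [Function.update]
  | one => exact ⟨fun _ => 1, fun i => F.Q_one i, by simp⟩
  | mul x z _ _ hx hz =>
    obtain ⟨p, hp, rfl⟩ := hx
    obtain ⟨r, hr, rfl⟩ := hz
    refine ⟨fun i => p i * r i, fun i => F.Q_mul (hp i) (hr i), ?_⟩
    have c : ∀ i j, i ≠ j → p i * r j = r j * p i := fun i j h => (F.Q_comm h (hp i) (hr j)).eq
    calc p 0 * p 1 * p 2 * p 3 * (r 0 * r 1 * r 2 * r 3)
        = p 0 * p 1 * p 2 * (p 3 * r 0) * r 1 * r 2 * r 3 := by group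
      _ = p 0 * p 1 * (p 2 * r 0) * (p 3 * r 1) * r 2 * r 3 := by rw [c 3 0 (by decide)]; group
      _ = p 0 * (p 1 * r 0) * (p 2 * r 1) * (p 3 * r 2) * r 3 := by
        rw [c 2 0 (by decide), c 3 1 (by decide)]; group
      _ = p 0 * r 0 * p 1 * r 1 * p 2 * r 2 * p 3 * r 3 := by
        rw [c 1 0 (by decide), c 2 1 (by decide), c 3 2 (by decide)]; group
      _ = _ := by group
  | inv x _ hx =>
    obtain ⟨p, hp, rfl⟩ := hx
    refine ⟨fun i => (p i)⁻¹, fun i => F.Q_inv (hp i), ?_⟩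
    have c : ∀ i j, i ≠ j → (p i)⁻¹ * (p j)⁻¹ = (p j)⁻¹ * (p i)⁻¹ := fun i j h =>
      ((F.Q_comm h (hp i) (hp j)).inv_left.inv_right).eq
    calc (p 0 * p 1 * p 2 * p 3)⁻¹ = ((p 3)⁻¹ * (p 2)⁻¹) * ((p 1)⁻¹ * (p 0)⁻¹) := by group
      _ = (p 2)⁻¹ * ((p 3)⁻¹ * (p 0)⁻¹) * (p 1)⁻¹ := by rw [c 3 2 (by decide), c 1 0 (by decide)]; group
      _ = ((p 2)⁻¹ * (p 0)⁻¹) * ((p 3)⁻¹ * (p 1)⁻¹) := by rw [c 3 0 (by decide)]; group
      _ = (p 0)⁻¹ * ((p 2)⁻¹ * (p 1)⁻¹) * (p 3)⁻¹ := by rw [c 2 0 (by decide), c 3 1 (by decide)]; group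
      _ = _ := by rw [c 2 1 (by decide)]; group

/-- Moving the product of the four groups. -/
theorem R0_move (F : Fr a b y w g φ ψ) {P : S} (h : ∀ i, ∃ j, moveC P i j = true) {s : G}
    (hs : s ∈ grpR0 φ (ψ sw)) : φ P * s * (φ P)⁻¹ ∈ grpR0 φ (ψ sw) := by
  induction hs using Subgroup.closure_induction with
  | mem x hx =>
    obtain ⟨i, hi⟩ := hx
    obtain ⟨j, hj⟩ := h i
    exact F.Q_le_R0 (F.Q_move hj hi)
  | one => simp
  | mul x x' _ _ hx hx' => rw [← conj_mul]; exact mul_mem hx hx'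
  | inv x _ hx => rw [← conj_inv]; exact inv_mem hx

theorem Q_le_res (F : Fr a b y w g φ ψ) {i : Fin 4} {q : G} (hq : q ∈ Qd φ (ψ sw) i) :
    q ∈ resR φ ψ := by
  have low : ∀ {i : Fin 4}, (i = 0 ∨ i = 1) → ∀ {q : G}, q ∈ Qd φ (ψ sw) i → q ∈ resR φ ψ := by
    rintro i (rfl | rfl) q hq
    · obtain ⟨X, hX, rfl⟩ := F.Q0_iff.1 hq; exact F.Q_R (Or.inl rfl) hX
    · obtain ⟨X, hX, rfl⟩ := F.Q1_iff.1 hq; exact F.Q_R (Or.inr rfl) hX
  by_cases h : i = 0 ∨ i = 1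
  · exact low h hq
  · have hm := move_tau i
    rw [Bool.and_eq_true] at hm
    have hl : (![2, 3, 0, 1] : Fin 4 → Fin 4) i = 0 ∨ (![2, 3, 0, 1] : Fin 4 → Fin 4) i = 1 :=
      (show ∀ i : Fin 4, ¬ (i = 0 ∨ i = 1) → (![2, 3, 0, 1] : Fin 4 → Fin 4) i = 0 ∨
        (![2, 3, 0, 1] : Fin 4 → Fin 4) i = 1 by decide) i h
    exact (mem_normalizer_iff.1 (F.perm_norm_R (perm_flip (show tvS 4 ∈ _ by simp))) q).2
      (low hl (F.Q_move hm.1 hq))

theorem R0_le_res (F : Fr a b y w g φ ψ) : grpR0 φ (ψ sw) ≤ resR φ ψ :=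
  (closure_le _).2 fun _ ⟨_, hq⟩ => F.Q_le_res hq

variable [Finite G]

/-- The residual group is the centre times the four groups. -/
theorem R_split (F : Fr a b y w g φ ψ) {c : G} (hc : c ∈ resR φ ψ) :
    ∃ z ∈ closure (zGen φ ψ), ∃ s ∈ grpR0 φ (ψ sw), c = z * s := by
  have hzc : ∀ {z s : G}, z ∈ closure (zGen φ ψ) → s ∈ resR φ ψ → Commute z s := by
    intro z s hz hs
    obtain ⟨h1, h2⟩ := F.mem_R.1 hs
    induction hz using Subgroup.closure_induction with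
    | mem x hx =>
      rcases hx with rfl | ⟨k, hk⟩
      exacts [h1.symm, (h2 k _ hk).symm]
    | one => exact Commute.one_left s
    | mul x z _ _ hx hz => exact hx.mul_left hz
    | inv x _ hx => exact hx.inv_left
  let N : Subgroup G :=
    { carrier := {c | ∃ z ∈ closure (zGen φ ψ), ∃ s ∈ grpR0 φ (ψ sw), c = z * s}
      one_mem' := ⟨1, one_mem _, 1, one_mem _, (mul_one 1).symm⟩
      mul_mem' := by
        rintro _ _ ⟨z, hz, s, hs, rfl⟩ ⟨z', hz', s', hs', rfl⟩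
        exact ⟨z * z', mul_mem hz hz', s * s', mul_mem hs hs', by
          rw [show z * s * (z' * s') = z * (s * z') * s' by group, ← (hzc hz' (F.R0_le_res hs)).eq]; group⟩
      inv_mem' := by
        rintro _ ⟨z, hz, s, hs, rfl⟩
        exact ⟨z⁻¹, inv_mem hz, s⁻¹, inv_mem hs, by
          rw [mul_inv_rev, ((hzc hz (F.R0_le_res hs)).inv_left.inv_right).eq]⟩ }
  have hZN : closure (zGen φ ψ) ≤ N := fun z hz => ⟨z, hz, 1, one_mem _, (mul_one z).symm⟩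
  have hQN : ∀ {i q}, q ∈ Qd φ (ψ sw) i → q ∈ N := fun hq =>
    ⟨1, one_mem _, _, F.Q_le_R0 hq, (one_mul _).symm⟩
  have hwR : ∀ c ∈ resR φ ψ, w * c * w⁻¹ ∈ resR φ ψ := fun c hc =>
    (mem_normalizer_iff.1 (F.tor_facts F.w_tor).2.2.2 c).1 hc
  have h24 : ∀ Y : S, ψ Y ∈ resR φ ψ → Y ^ 24 = 1 := fun Y hY => by
    obtain ⟨ht, hW⟩ := F.mem_R.1 hY
    exact cRb24 Y (F.hB.commute_iff.1 ht) fun r hr =>
      F.hB.commute_iff.1 (hW 0 _ (F.W0_eq.2 ⟨r, hr, rfl⟩))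
  have atb : ∀ {c : G}, c ∈ resR φ ψ → Commute c b → c ∈ N := by
    intro c hc hcb
    obtain ⟨X, rfl, -⟩ := F.hB.prime_to hcb F.R_three
      (orderOf_dvd_iff_pow_eq_one.1 ((resR φ ψ).orderOf_dvd_natCard hc))
    obtain ⟨ht, hW⟩ := F.mem_R.1 hc
    obtain ⟨s, hs, r, hr, m, hm, hp⟩ := cRb X (F.hB.commute_iff.1 ht)
      (fun r hr => F.hB.commute_iff.1 (hW 0 _ (F.W0_eq.2 ⟨r, hr, rfl⟩))) (F.two8_of F.R_three hwR h24 hc)
    have hsN : ψ s ∈ N := by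
      simp only [List.mem_cons, List.not_mem_nil, or_false] at hs
      rcases hs with rfl | rfl
      · rw [map_one]; exact one_mem _
      · exact hZN (subset_closure (Or.inl rfl))
    have hrN : ψ r ∈ N := hZN (subset_closure (Or.inr ⟨0, F.W0_eq.2 ⟨r, hr, rfl⟩⟩))
    have := mul_mem (mul_mem (inv_mem (mul_mem hsN hrN)) (hQN (F.Q0_iff.2 ⟨_, hp, rfl⟩)))
      (inv_mem (hQN (F.Q1_iff.2 ⟨_, hm, rfl⟩)))
    rwa [map_mul, map_mul, map_mul, ← mul_assoc, ← mul_assoc, inv_mul_cancel, one_mul, mul_inv_cancel_right] at this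
  refine CharP.le_of_fixedGen (U := tor φ) (N := N) F.tor_not_cyclic (fun u hu => (F.tor_facts hu).2.2.2)
    (F.tor_coprime F.R_three) (fun u hu hu1 z hz => ?_) hc
  obtain ⟨L, hL, hcom⟩ := tor_cases hu hu1
  have h := hcom z hz.2
  simp only [lineGen, List.mem_cons, List.not_mem_nil, or_false] at hL
  rcases hL with rfl | rfl | rfl | rfl
  · obtain ⟨Ψ, hS⟩ := F.side_x1
    exact hZN (F.R_side hS (fun r => F.side1_A) (fun r => F.side1_B) hz.1 h)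
  · obtain ⟨Ψ, hS⟩ := F.side_x2
    exact hZN (F.R_side hS (fun r => F.side2_A) (fun r => F.side2_B) hz.1 h)
  · exact atb hz.1 (F.phi_b ▸ h)
  · obtain ⟨h1, h2, h3, h4⟩ := F.tau_facts
    have hb : Commute (φ (tvS 4) * z * (φ (tvS 4))⁻¹) b := by
      have := (F.phi_w ▸ h : Commute z w).map (MulAut.conj (φ (tvS 4))).toMonoidHom
      simpa only [MulEquiv.coe_toMonoidHom, MulAut.conj_apply, h4] using this
    obtain ⟨z0, hz0, s0, hs0, e⟩ := atb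
      ((mem_normalizer_iff.1 (F.perm_norm_R (perm_flip (show tvS 4 ∈ _ by simp))) z).1 hz.1) hb
    have hmv : ∀ i, ∃ j, moveC (tvS 4)⁻¹ i j = true := fun i =>
      (show ∀ i, ∃ j, moveC (tvS 4)⁻¹ i j = true by decide +kernel) i
    refine ⟨_, F.perm_norm_Z (X := (tvS 4)⁻¹) (π := id)
      (perm_of_code Function.injective_id (by decide +kernel)) hz0, _, F.R0_move hmv hs0, ?_⟩
    rw [conj_mul, ← e, map_inv]
    group

end Fr

end Cfsg.Agent.FFourLocal.Glue3
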