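import Cfsg.Agent.Lib.FFourLocal.Glue3.Fixed

/-!
# The two copies of `Sp₄(2)` commute
-/

set_option autoImplicit false
set_option maxRecDepth 100000

namespace Cfsg.Agent.FFourLocal.Glue3

open Subgroup Cfsg.Agent.SpThreeCent.SixEnd

universe u

variable {G : Type u} [Group G]

/-- The elements with trivial product of the three conjugates. -/
def k2Set (y : G) (φ ψ : S →* G) : Set G :=
  {k | k ∈ grpK φ ψ ∧ k * (y * k * y⁻¹) * (y ^ 2 * k * (y ^ 2)⁻¹) = 1}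

/-- The second subgroup. -/
def grpS2 (y : G) (φ ψ : S →* G) : Subgroup G :=
  closure (k2Set y φ ψ) ⊓ centralizer ((fun k => y * k * y⁻¹) '' k2Set y φ ψ)

namespace Fr

variable {a b y w g : G} {φ ψ : S →* G}

theorem y_norm_R (F : Fr a b y w g φ ψ) : y ∈ normalizer (resR φ ψ : Set G) :=
  F.phi_y ▸ F.perm_norm_R (perm_px 0)

theorem n0_norm_R (F : Fr a b y w g φ ψ) : φ (tvS 8) ∈ normalizer (resR φ ψ : Set G) :=
  F.perm_norm_R (perm_flip (by simp))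

theorem W_uGen (_F : Fr a b y w g φ ψ) {k : Fin 3} (hk : k ≠ 0) {r : G} (hr : r ∈ W φ (ψ sw) k) :
    r ∈ uGen φ ψ := by
  fin_cases k
  exacts [absurd rfl hk, Or.inr (Or.inl hr), Or.inr (Or.inr hr)]

/-- The image of the elementary group in the coordinates of a side through `y`. -/
theorem P1_image (F : Fr a b y w g φ ψ) {k q : G} {Ψ : S →* G} (hS : Side a (ψ sw) k y q Ψ)
    (hA : ∀ r, IsW (ψ sw) k q y r → ∃ i, r ∈ W φ (ψ sw) i)
    (hB : ∀ r, IsW (ψ sw) k y q r → ∃ i, r ∈ W φ (ψ sw) i) {X : S} (hX : P1 X) :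
    Ψ X ∈ closure (zGen φ ψ) := by
  obtain ⟨a0, ha, u, hu, v, hv, rfl⟩ := P1_mem hX
  rw [map_mul, map_mul]
  refine mul_mem (mul_mem ?_ (subset_closure (Or.inr (hA _ (hS.mem1.2 ⟨u, hu, rfl⟩)))))
    (subset_closure (Or.inr (hB _ (hS.mem2.2 ⟨v, hv, rfl⟩))))
  simp only [List.mem_cons, List.not_mem_nil, or_false] at ha
  rcases ha with rfl | rfl
  · rw [map_one]; exact one_mem _
  · exact subset_closure (Or.inl hS.mt)

theorem z_comm (F : Fr a b y w g φ ψ) {z : G} (hz : z ∈ closure (zGen φ ψ)) {i : Fin 3} {r : G}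
    (hr : r ∈ W φ (ψ sw) i) : Commute z r := (F.mem_R.1 (F.Z_le_R hz)).2 i r hr

/-- The flip in the coordinates of a side through `y`. -/
theorem side_flip (F : Fr a b y w g φ ψ) {k q : G} {Ψ : S →* G} (hS : Side a (ψ sw) k y q Ψ)
    (hk : Commute (φ (tvS 8)) k) (hq : Commute (φ (tvS 8)) q) :
    ∃ N : S, φ (tvS 8) = Ψ N ∧ (N = tvS 2 ∨ N = tvS 16 ∨ N = tvS 18) := by
  obtain ⟨N, hN, hN2⟩ := hS.hC.invol hk F.n0_sq
  have ha : Commute N (px 0) := hS.hC.commute_iff.1 (by rw [← hN, hS.m0]; exact (F.a_comm _).symm)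
  have hy : N * px 1 * N⁻¹ = (px 1)⁻¹ := by
    refine hS.hC.inj ?_
    rw [map_mul, map_mul, map_inv, map_inv, ← hN, hS.m1, ← F.phi_y, ← map_inv, ← map_inv, ← map_mul,
      ← map_mul]
    exact congrArg φ (codeS_injective (by decide +kernel))
  have h2 : Commute N (px 2) := by
    have := hS.hC.commute_iff.1 (show Commute (Ψ N) (Ψ (px 2)⁻¹) by rw [← hN, hS.m2]; exact hq)
    simpa using this.inv_right
  obtain ⟨j, rfl⟩ := cand_t1 N hN2 ha hy h2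
  refine ⟨_, hN, ?_⟩
  have hj : px 1 ^ j = px 1 ^ (j % 3) := (pow_eq_pow_mod j (px_cube 1))
  rw [hj]
  have : ∀ r : Fin 3, codeS (px 1 ^ r.val * tvS 2 * (px 1 ^ r.val)⁻¹) = codeS (tvS 2) ∨
      codeS (px 1 ^ r.val * tvS 2 * (px 1 ^ r.val)⁻¹) = codeS (tvS 16) ∨
      codeS (px 1 ^ r.val * tvS 2 * (px 1 ^ r.val)⁻¹) = codeS (tvS 18) := by decide +kernel
  rcases this ⟨j % 3, Nat.mod_lt _ (by norm_num)⟩ with e | e | e
  exacts [Or.inl (codeS_injective e), Or.inr (Or.inl (codeS_injective e)), Or.inr (Or.inr (codeS_injective e))]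

/-- The fixed points of a plane element in `K`. -/
theorem K_side (F : Fr a b y w g φ ψ) {i l : Fin 3} (hi : i ≠ 0) (hl : l ≠ 0) {Ψ : S →* G}
    (hS : Side a (ψ sw) (φ (px i)) y (φ (px l)) Ψ)
    (hA : ∀ r, IsW (ψ sw) (φ (px i)) (φ (px l)) y r → r ∈ W φ (ψ sw) 0)
    (hB : ∀ r, IsW (ψ sw) (φ (px i)) y (φ (px l)) r → r ∈ W φ (ψ sw) l)
    {c : G} (hc : c ∈ grpK φ ψ) (hci : Commute c (φ (px i))) :
    c ∈ resR φ ψ ∨ φ (tvS 8) * c ∈ resR φ ψ := by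
  obtain ⟨ht, hn, h1, h2⟩ := F.mem_K.1 hc
  have hcu : ∀ k, k ≠ 0 → ∀ r ∈ W φ (ψ sw) k, Commute c r := fun k hk => by
    fin_cases k
    exacts [absurd rfl hk, h1, h2]
  obtain ⟨j, X, rfl⟩ := hS.hC.cent c hci
  obtain ⟨N, hN, hNv⟩ := F.side_flip hS (F.px_n0 hi).symm (F.px_n0 hl).symm
  have hX1 : Commute X (tvS 1) := hS.hC.commute_mul_iff.1 (hS.mt ▸ ht)
  have hXW : ∀ r ∈ W2L, Commute X r := fun r hr =>
    hS.hC.commute_mul_iff.1 (hcu l hl _ (hB _ (hS.mem2.2 ⟨r, hr, rfl⟩)))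
  have hXN : Commute X N := hS.hC.commute_mul_iff.1 (hN ▸ hn)
  have key : ∀ {Y : S}, P1 Y → (∀ r ∈ W φ (ψ sw) i, Commute (φ (px i) ^ j * Ψ Y) r) →
      φ (px i) ^ j * Ψ Y ∈ resR φ ψ := by
    intro Y hY hcom
    have hz := F.P1_image hS (fun r hr => ⟨0, hA r hr⟩) (fun r hr => ⟨l, hB r hr⟩) hY
    have : φ (px i) ^ j = 1 := F.W_zpow fun r hr => by
      have := (hcom r hr).mul_left (F.z_comm hz hr).inv_left
      rwa [mul_inv_cancel_right] at this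
    rw [this, one_mul]
    exact F.Z_le_R hz
  rcases cK1 X N hNv hX1 hXW hXN with h | h
  · exact Or.inl (key h (hcu i hi))
  · right
    have e : φ (tvS 8) * (φ (px i) ^ j * Ψ X) = φ (px i) ^ j * Ψ (N * X) := by
      rw [map_mul, ← mul_assoc, ((F.px_n0 hi).symm.zpow_right j).eq, hN, mul_assoc]
    rw [e]
    exact key h fun r hr => e ▸ (F.n0_W hi hr).mul_left (hcu i hi r hr)

theorem R_side (F : Fr a b y w g φ ψ) {i l : Fin 3} {Ψ : S →* G}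
    (hS : Side a (ψ sw) (φ (px i)) y (φ (px l)) Ψ)
    (hA : ∀ r, IsW (ψ sw) (φ (px i)) (φ (px l)) y r → r ∈ W φ (ψ sw) 0)
    (hB : ∀ r, IsW (ψ sw) (φ (px i)) y (φ (px l)) r → r ∈ W φ (ψ sw) l)
    {c : G} (hc : c ∈ resR φ ψ) (hci : Commute c (φ (px i))) : c ∈ closure (zGen φ ψ) := by
  obtain ⟨ht, hW⟩ := F.mem_R.1 hc
  obtain ⟨j, X, rfl⟩ := hS.hC.cent c hci
  have hP : P1 X := cR1 X (hS.hC.commute_mul_iff.1 (hS.mt ▸ ht)) fun r hr => by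
    rcases List.mem_append.1 hr with hr | hr
    · exact hS.hC.commute_mul_iff.1 (hW 0 _ (hA _ (hS.mem1.2 ⟨r, hr, rfl⟩)))
    · exact hS.hC.commute_mul_iff.1 (hW l _ (hB _ (hS.mem2.2 ⟨r, hr, rfl⟩)))
  have hz := F.P1_image hS (fun r hr => ⟨0, hA r hr⟩) (fun r hr => ⟨l, hB r hr⟩) hP
  have : φ (px i) ^ j = 1 := F.W_zpow fun r hr => by
    have := (hW i r hr).mul_left (F.z_comm hz hr).inv_left
    rwa [mul_inv_cancel_right] at this
  rwa [this, one_mul]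

theorem side1_A (F : Fr a b y w g φ ψ) {r : G} (h : IsW (ψ sw) (φ (px 1)) (φ (px 2)) y r) :
    r ∈ W φ (ψ sw) 0 := by
  show IsW _ (φ (px 1)) (φ (px 2)) (φ (px 0)) r
  rwa [F.phi_y]

theorem side1_B (F : Fr a b y w g φ ψ) {r : G} (h : IsW (ψ sw) (φ (px 1)) y (φ (px 2)) r) :
    r ∈ W φ (ψ sw) 2 := by
  show IsW _ (φ (px 0)) (φ (px 1)) (φ (px 2)) r
  rw [F.phi_y]
  exact h.swap

theorem side2_A (F : Fr a b y w g φ ψ) {r : G} (h : IsW (ψ sw) (φ (px 2)) (φ (px 1)) y r) :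
    r ∈ W φ (ψ sw) 0 := F.side1_A h.swap

theorem side2_B (F : Fr a b y w g φ ψ) {r : G} (h : IsW (ψ sw) (φ (px 2)) y (φ (px 1)) r) :
    r ∈ W φ (ψ sw) 1 := by
  show IsW _ (φ (px 2)) (φ (px 0)) (φ (px 1)) r
  rw [F.phi_y]
  exact h

theorem w_tor (F : Fr a b y w g φ ψ) : w ∈ tor φ := by
  rw [← F.phi_w, pY, map_mul]; exact mul_mem (tor_mem φ).1 (tor_mem φ).2

/-- The flip of the last plane. -/
theorem tau_facts (F : Fr a b y w g φ ψ) :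
    Commute (φ (tvS 4)) y ∧ Commute (φ (tvS 4)) (ψ sw) ∧ Commute (φ (tvS 4)) (φ (tvS 8)) ∧
      φ (tvS 4) * w * (φ (tvS 4))⁻¹ = b := by
  refine ⟨F.phi_y ▸ ((commC_iff _ _).1 (by decide +kernel)).map φ, (F.tA _).symm,
    ((commC_iff _ _).1 (by decide +kernel)).map φ, ?_⟩
  rw [← F.phi_w, ← F.phi_b, ← map_inv, ← map_mul, ← map_mul]
  exact congrArg φ (codeS_injective (by decide +kernel))

variable [Finite G]

theorem two8_of (F : Fr a b y w g φ ψ) {H : Subgroup G} (hH : ¬ 3 ∣ Nat.card ↥H)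
    (hw : ∀ c ∈ H, w * c * w⁻¹ ∈ H) (h24 : ∀ Y : S, ψ Y ∈ H → Y ^ 24 = 1) {X : S} (hX : ψ X ∈ H) :
    Two8 X := by
  have key : ∀ Y : S, ψ Y ∈ H → Y ^ 8 = 1 := fun Y hY => eight_of hH (h24 Y hY) (F.hB.inj (by
    rw [map_pow, map_one]
    exact orderOf_dvd_iff_pow_eq_one.1 (H.orderOf_dvd_natCard hY)))
  refine ⟨key X hX, key _ ?_⟩
  rw [map_mul, map_mul, map_mul, map_inv, map_inv, F.psi_w]
  exact mul_mem (hw _ hX) (inv_mem hX)

theorem K_at_b (F : Fr a b y w g φ ψ) {c : G} (hc : c ∈ grpK φ ψ) (hcb : Commute c b) :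
    c ∈ resR φ ψ ∨ φ (tvS 8) * c ∈ resR φ ψ := by
  obtain ⟨X, rfl, -⟩ := F.hB.prime_to hcb F.K_three
    (orderOf_dvd_iff_pow_eq_one.1 ((grpK φ ψ).orderOf_dvd_natCard hc))
  obtain ⟨ht, hn, h1, h2⟩ := F.mem_K.1 hc
  have hwK : ∀ c ∈ grpK φ ψ, w * c * w⁻¹ ∈ grpK φ ψ := fun c hc =>
    (mem_normalizer_iff.1 (F.tor_norm_K F.w_tor) c).1 hc
  have h24 : ∀ Y : S, ψ Y ∈ grpK φ ψ → Y ^ 24 = 1 := fun Y hY => by
    obtain ⟨ht, hn, -, -⟩ := F.mem_K.1 hY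
    exact cKb24 Y (F.hB.commute_iff.1 ht) (F.hB.commute_iff.1 (F.phi_n0 ▸ hn))
  rcases cKb X (F.hB.commute_iff.1 ht) (F.hB.commute_iff.1 (F.phi_n0 ▸ hn))
    (F.two8_of F.K_three hwK h24 hc) with h | h
  · refine Or.inl (F.mem_R.2 ⟨ht, fun k r hr => ?_⟩)
    fin_cases k
    · obtain ⟨Y, hY, rfl⟩ := F.W0_eq.1 hr
      exact (h Y hY).map ψ
    · exact h1 r hr
    · exact h2 r hr
  · refine Or.inr (F.mem_R.2 ⟨F.n0_t.mul_left ht, fun k r hr => ?_⟩)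
    fin_cases k
    · obtain ⟨Y, hY, rfl⟩ := F.W0_eq.1 hr
      rw [F.phi_n0, ← map_mul]
      exact (h Y hY).map ψ
    · exact (F.n0_W (by decide) hr).mul_left (h1 r hr)
    · exact (F.n0_W (by decide) hr).mul_left (h2 r hr)

theorem K_fixed (F : Fr a b y w g φ ψ) {u : G} (hu : u ∈ tor φ) (hu1 : u ≠ 1) {c : G}
    (hc : c ∈ grpK φ ψ) (hcu : c ∈ centralizer ({u} : Set G)) :
    c ∈ resR φ ψ ∨ φ (tvS 8) * c ∈ resR φ ψ := by
  obtain ⟨L, hL, hcom⟩ := tor_cases hu hu1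
  have h := hcom c hcu
  simp only [lineGen, List.mem_cons, List.not_mem_nil, or_false] at hL
  rcases hL with rfl | rfl | rfl | rfl
  · obtain ⟨Ψ, hS⟩ := F.side_x1
    exact F.K_side (by decide) (by decide) hS (fun r => F.side1_A) (fun r => F.side1_B) hc h
  · obtain ⟨Ψ, hS⟩ := F.side_x2
    exact F.K_side (by decide) (by decide) hS (fun r => F.side2_A) (fun r => F.side2_B) hc h
  · exact F.K_at_b hc (F.phi_b ▸ h)
  · obtain ⟨h1, h2, h3, h4⟩ := F.tau_facts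
    have hb : Commute (φ (tvS 4) * c * (φ (tvS 4))⁻¹) b := by
      have := (F.phi_w ▸ h : Commute c w).map (MulAut.conj (φ (tvS 4))).toMonoidHom
      simpa only [MulEquiv.coe_toMonoidHom, MulAut.conj_apply, h4] using this
    have hnR := F.perm_norm_R (perm_flip (show tvS 4 ∈ _ by simp))
    rcases F.K_at_b (F.K_norm h1 h2 h3 hc) hb with h' | h'
    · exact Or.inl ((mem_normalizer_iff.1 hnR c).2 h')
    · refine Or.inr ((mem_normalizer_iff.1 hnR _).2 ?_)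
      rwa [show φ (tvS 4) * (φ (tvS 8) * c) * (φ (tvS 4))⁻¹ =
        (φ (tvS 4) * φ (tvS 8)) * c * (φ (tvS 4))⁻¹ by group, h3.eq,
        show φ (tvS 8) * φ (tvS 4) * c * (φ (tvS 4))⁻¹ = φ (tvS 8) * (φ (tvS 4) * c * (φ (tvS 4))⁻¹) by group]

/-- `K` is the flip times its part in the residual. -/
theorem K_split (F : Fr a b y w g φ ψ) {c : G} (hc : c ∈ grpK φ ψ) :
    c ∈ resR φ ψ ∨ φ (tvS 8) * c ∈ resR φ ψ := by
  have hn := (mem_normalizer_iff.1 F.n0_norm_R)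
  have hi : (φ (tvS 8))⁻¹ = φ (tvS 8) := inv_eq_of_mul_eq_one_left F.n0_sq
  let N : Subgroup G :=
    { carrier := {c | c ∈ resR φ ψ ∨ φ (tvS 8) * c ∈ resR φ ψ}
      one_mem' := Or.inl (one_mem _)
      mul_mem' := by
        rintro x z (hx | hx) (hz | hz)
        · exact Or.inl (mul_mem hx hz)
        · right
          rw [show φ (tvS 8) * (x * z) = φ (tvS 8) * x * (φ (tvS 8))⁻¹ * (φ (tvS 8) * z) by group]
          exact mul_mem ((hn x).1 hx) hz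
        · right
          rw [← mul_assoc]
          exact mul_mem hx hz
        · left
          rw [show x * z = (φ (tvS 8))⁻¹ * (φ (tvS 8) * x) * (φ (tvS 8))⁻¹ * (φ (tvS 8) * z) by group]
          conv in (occs := 1) (φ (tvS 8))⁻¹ => rw [hi]
          exact mul_mem ((hn _).1 hx) hz
      inv_mem' := by
        rintro x (hx | hx)
        · exact Or.inl (inv_mem hx)
        · right
          rw [show φ (tvS 8) * x⁻¹ = φ (tvS 8) * (φ (tvS 8) * x)⁻¹ * φ (tvS 8) by group]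
          conv in (occs := 2) φ (tvS 8) => skip
          have := (hn _).1 (inv_mem hx)
          rwa [hi] at this }
  exact CharP.le_of_fixedGen (U := tor φ) (N := N) F.tor_not_cyclic F.tor_norm_K (F.tor_coprime F.K_three)
    (fun u hu hu1 z hz => F.K_fixed hu hu1 hz.1 hz.2) hc

theorem h_facts (F : Fr a b y w g φ ψ) :
    ψ hel ∈ W φ (ψ sw) 0 ∧ Commute (φ (tvS 8)) (ψ hel) ∧ ψ hel ≠ 1 := by
  refine ⟨F.W0_eq.2 ⟨hel, by simp [W0L, hel], rfl⟩, ?_, fun e => ?_⟩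
  · rw [F.phi_n0]; exact ((commC_iff _ _).1 (by decide +kernel)).map ψ
  · exact absurd (F.hB.inj (e.trans (map_one ψ).symm))
      (fun e => absurd (congrArg codeS e) (by rw [codeS_one]; decide +kernel))

theorem k2_le_R (F : Fr a b y w g φ ψ) {k : G} (hk : k ∈ k2Set y φ ψ) : k ∈ resR φ ψ := by
  obtain ⟨hK, hp⟩ := hk
  refine (F.K_split hK).resolve_right fun hr => ?_
  obtain ⟨hh, hnh, hh1⟩ := F.h_facts
  obtain ⟨r0, hr0⟩ : ∃ r0, r0 = φ (tvS 8) * k := ⟨_, rfl⟩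
  rw [← hr0] at hr
  have hi : (φ (tvS 8))⁻¹ = φ (tvS 8) := inv_eq_of_mul_eq_one_left F.n0_sq
  have hke : k = φ (tvS 8) * r0 := by rw [hr0, ← mul_assoc, F.n0_sq, one_mul]
  have hfix : ∀ e : G, e ∈ normalizer (resR φ ψ : Set G) → Commute (e * r0 * e⁻¹) (ψ hel) := fun e he =>
    (F.mem_R.1 ((mem_normalizer_iff.1 he r0).1 hr)).2 0 _ hh
  have hE : φ (tvS 8) * (y * φ (tvS 8) * y⁻¹) * (y ^ 2 * φ (tvS 8) * (y ^ 2)⁻¹) = φ (tvS 8) * y := by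
    rw [← F.phi_y]
    simp only [← map_inv, ← map_mul, ← map_pow]
    exact congrArg φ (codeS_injective (by decide +kernel))
  set P := y ^ 2 * φ (tvS 8) * (y ^ 2)⁻¹ with hP
  set Q := (y * φ (tvS 8) * y⁻¹) * P with hQ
  have e : k * (y * k * y⁻¹) * (y ^ 2 * k * (y ^ 2)⁻¹) =
      (φ (tvS 8) * (y * φ (tvS 8) * y⁻¹) * P) *
        ((Q⁻¹ * r0 * Q⁻¹⁻¹) * ((P⁻¹ * y) * r0 * (P⁻¹ * y)⁻¹) * (y ^ 2 * r0 * (y ^ 2)⁻¹)) := by
    rw [hke, hQ, hP]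
    group
  have hPn : P ∈ normalizer (resR φ ψ : Set G) :=
    mul_mem (mul_mem (pow_mem F.y_norm_R 2) F.n0_norm_R) (inv_mem (pow_mem F.y_norm_R 2))
  have hQn : Q ∈ normalizer (resR φ ψ : Set G) :=
    mul_mem (mul_mem (mul_mem F.y_norm_R F.n0_norm_R) (inv_mem F.y_norm_R)) hPn
  have hcomm : Commute (φ (tvS 8) * y) (ψ hel) := by
    have hR := ((hfix _ (inv_mem hQn)).mul_left (hfix _ (mul_mem (inv_mem hPn) F.y_norm_R))).mul_left
      (hfix _ (pow_mem F.y_norm_R 2))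
    rw [hE] at e
    rw [eq_inv_of_mul_eq_one_left (e ▸ hp : φ (tvS 8) * y *
      ((Q⁻¹ * r0 * Q⁻¹⁻¹) * ((P⁻¹ * y) * r0 * (P⁻¹ * y)⁻¹) * (y ^ 2 * r0 * (y ^ 2)⁻¹)) = 1)]
    exact hR.inv_left
  have hyh : Commute y (ψ hel) := by
    have := hnh.mul_left hcomm
    rwa [← mul_assoc, F.n0_sq, one_mul] at this
  exact F.W_moves hh hh1 (F.phi_y ▸ hyh)

theorem h_k2 (F : Fr a b y w g φ ψ) : ψ hel ∈ k2Set y φ ψ := by
  obtain ⟨hh, hnh, -⟩ := F.h_facts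
  refine ⟨F.mem_K.2 ⟨F.W_t hh, hnh.symm, fun r hr => F.W_comm hh hr, fun r hr => F.W_comm hh hr⟩, ?_⟩
  have := hh.2.2.2.2.2
  rwa [F.phi_y] at this

theorem h_S2 (F : Fr a b y w g φ ψ) : ψ hel ∈ grpS2 y φ ψ := by
  refine mem_inf.2 ⟨subset_closure F.h_k2, mem_centralizer_iff.2 ?_⟩
  rintro _ ⟨k, hk, rfl⟩
  exact ((F.mem_R.1 ((mem_normalizer_iff.1 F.y_norm_R k).1 (F.k2_le_R hk))).2 0 _ F.h_facts.1).eq

theorem S2_le (F : Fr a b y w g φ ψ) : grpS2 y φ ψ ≤ resR φ ψ ⊓ grpK φ ψ :=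
  inf_le_left.trans ((closure_le _).2 fun _ hk => mem_inf.2 ⟨F.k2_le_R hk, hk.1⟩)

theorem S2_norm (F : Fr a b y w g φ ψ) {d : G} (hy : Commute d y) (ht : Commute d (ψ sw))
    (hn : Commute d (φ (tvS 8))) {c : G} (hc : c ∈ grpS2 y φ ψ) : d * c * d⁻¹ ∈ grpS2 y φ ψ := by
  have hk2 : ∀ {d : G}, Commute d y → Commute d (ψ sw) → Commute d (φ (tvS 8)) →
      ∀ k ∈ k2Set y φ ψ, d * k * d⁻¹ ∈ k2Set y φ ψ := by
    rintro d hy ht hn k ⟨hK, hp⟩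
    refine ⟨F.K_norm hy ht hn hK, ?_⟩
    rw [show y * (d * k * d⁻¹) * y⁻¹ = (y * d) * k * (y * d)⁻¹ by group, ← hy.eq,
      show y ^ 2 * (d * k * d⁻¹) * (y ^ 2)⁻¹ = (y ^ 2 * d) * k * (y ^ 2 * d)⁻¹ by group,
      ← (hy.pow_right 2).eq,
      show d * k * d⁻¹ * (d * y * k * (d * y)⁻¹) * (d * y ^ 2 * k * (d * y ^ 2)⁻¹) =
        d * (k * (y * k * y⁻¹) * (y ^ 2 * k * (y ^ 2)⁻¹)) * d⁻¹ by group, hp, mul_one, mul_inv_cancel]
  obtain ⟨h1, h2⟩ := mem_inf.1 hc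
  refine mem_inf.2 ⟨?_, mem_centralizer_iff.2 ?_⟩
  · have : (closure (k2Set y φ ψ)).map (MulAut.conj d).toMonoidHom ≤ closure (k2Set y φ ψ) := by
      rw [MonoidHom.map_closure, closure_le]
      rintro _ ⟨k, hk, rfl⟩
      exact subset_closure (hk2 hy ht hn k hk)
    exact this (mem_map_of_mem _ h1)
  · rintro _ ⟨k, hk, rfl⟩
    have hk' := hk2 hy.inv_left ht.inv_left hn.inv_left k hk
    have := mem_centralizer_iff.1 h2 _ ⟨_, hk', rfl⟩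
    simp only at this ⊢
    rw [show y * k * y⁻¹ = d * (y * (d⁻¹ * k * d⁻¹⁻¹) * y⁻¹) * d⁻¹ from by
      rw [show d * (y * (d⁻¹ * k * d⁻¹⁻¹) * y⁻¹) * d⁻¹ = (d * y) * d⁻¹ * k * ((d * y) * d⁻¹)⁻¹ by group,
        hy.eq, mul_inv_cancel_right]]
    rw [conj_mul, conj_mul, this]

end Fr

end Cfsg.Agent.FFourLocal.Glue3
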