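import Cfsg.Agent.Lib.FFourLocal.Glue3.Dcomm
import Cfsg.Agent.Lib.FFourLocal.Glue3.FinD

/-!
# The coordinates of the short element
-/

set_option autoImplicit false
set_option maxRecDepth 100000

namespace Cfsg.Agent.FFourLocal.Glue3

open Subgroup Cfsg.Agent.SpThreeCent.SixEnd

universe u

/-- The short element in the coordinates of `b`. -/
def sEl : S := hm * px 2 * hm⁻¹

theorem plane12_of {X : S} (h : (commC (codeS X) 34630549633 && commC (codeS X) 34630287497) = true) :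
    Plane12 X := by
  simp only [Bool.and_eq_true, ← (by decide +kernel : codeS (tvS 1) = 34630549633),
    ← (by decide +kernel : codeS (tvS 8) = 34630287497), commC_iff] at h
  exact h

theorem dGen_word {L : List S} {X : S}
    (hL : (L.all fun Y => [codeS sw, codeS pB, codeS nu, codeS n0el, codeS (tvS 48 * tvS 54),
      codeS (tvS 6 * tvS 48), codeS hel].contains (codeS Y)) = true)
    (h : (codeS L.prod == codeS X) = true) : X ∈ closure dGen := by
  rw [← codeS_injective (beq_iff_eq.1 h)]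
  refine list_prod_mem fun Y hY => ?_
  simp only [List.all_eq_true, List.contains_iff_mem, List.mem_cons, List.not_mem_nil, or_false] at hL
  rcases hL Y hY with e | e | e | e | e | e | e <;> refine subset_closure ?_ <;>
    rw [codeS_injective e]
  · exact Or.inl rfl
  · exact Or.inr (Or.inl rfl)
  · exact Or.inr (Or.inr (Or.inl rfl))
  · exact Or.inr (Or.inr (Or.inr (Or.inl rfl)))
  · exact Or.inr (Or.inr (Or.inr (Or.inr (by simp [W0L]))))
  · exact Or.inr (Or.inr (Or.inr (Or.inr (by simp [W0L]))))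
  · exact Or.inr (Or.inr (Or.inr (Or.inr (by simp [W0L, hel]))))

theorem dGen_tv48 : tvS 48 ∈ closure dGen :=
  dGen_word (L := [sw, hel]) (by decide +kernel) (by decide +kernel)

theorem dGen_tv50 : tvS 50 ∈ closure dGen :=
  dGen_word (L := [sw, pB, tvS 48 * tvS 54, pB]) (by decide +kernel) (by decide +kernel)

theorem dGen_tv6 : tvS 6 ∈ closure dGen :=
  dGen_word (L := [sw, tvS 48 * tvS 54]) (by decide +kernel) (by decide +kernel)

theorem dGen_tv38 : tvS 38 ∈ closure dGen :=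
  dGen_word (L := [sw, pB, hel, pB]) (by decide +kernel) (by decide +kernel)

theorem dGen_tv32 : tvS 32 ∈ closure dGen :=
  dGen_word (L := [sw, tvS 6 * tvS 48, pB, hel, pB, tvS 6 * tvS 48]) (by decide +kernel) (by decide +kernel)

theorem dGen_tv2 : tvS 2 ∈ closure dGen :=
  dGen_word (L := [sw, tvS 6 * tvS 48, pB, tvS 48 * tvS 54, pB, tvS 6 * tvS 48]) (by decide +kernel)
    (by decide +kernel)

theorem dGen_sEl : sEl ∈ closure dGen := by
  rw [show sEl = tvS 6 * tvS 38 from codeS_injective (by decide +kernel)]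
  exact mul_mem dGen_tv6 dGen_tv38

/-- The coordinates of the centraliser of the short element. -/
structure ShortC {G : Type u} [Group G] (b w : G) (φ ψ Φ : S →* G) : Prop where
  hC : Cent3 (ψ sEl) Φ
  m1 : Φ (px 1) = b
  m2 : Φ (px 2) = w⁻¹
  u1 : Φ (tvS 1) = ψ (tvS 48)
  u8 : Φ (tvS 8) = ψ (tvS 50)
  u2 : Φ (tvS 2) = φ sw
  u4 : Φ (tvS 4) = φ nu
  u32 : Φ (tvS 32) = ψ (tvS 9)

namespace Fr

variable {G : Type u} [Group G] [Finite G] {a b y w g : G} {φ ψ : S →* G}

/-- Commuting with the short element. -/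
theorem D_sEl (F : Fr a b y w g φ ψ) {X : S} (hX : Plane12 X) : Commute (φ X) (ψ sEl) :=
  F.DD_comm hX dGen_sEl

theorem exists_short (F : Fr a b y w g φ ψ) : ∃ Φ : S →* G, ShortC b w φ ψ Φ := by
  have key : ∀ {P Q R : S}, P * Q * P⁻¹ = R → ψ P * ψ Q * (ψ P)⁻¹ = ψ R := fun e => by
    rw [← map_inv, ← map_mul, ← map_mul, e]
  have hC := (F.hB.conj g).conj (ψ (hm * sw02))
  rw [F.g_b, ← F.psi_w, key (show hm * sw02 * px 0 * (hm * sw02)⁻¹ = sEl from codeS_injective (by decide +kernel))] at hC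
  set Ψ := (MulAut.conj (ψ (hm * sw02))).toMonoidHom.comp ((MulAut.conj g).toMonoidHom.comp ψ) with hΨ
  have h0 : Ψ (px 0) = b := by
    rw [hΨ]
    simp only [MonoidHom.comp_apply, MulEquiv.coe_toMonoidHom, MulAut.conj_apply, F.psi_w, F.g_w]
    rw [(F.hB.comm _).symm.eq, mul_inv_cancel_right]
  have hB : Ψ pB = ψ (hm * sw02 * pY * (hm * sw02)⁻¹) := by
    rw [hΨ, map_mul ψ (hm * sw02 * pY) _, map_mul ψ (hm * sw02) pY, map_inv, F.psi_y]
    simp only [MonoidHom.comp_apply, MulEquiv.coe_toMonoidHom, MulAut.conj_apply, F.psi_a, F.g_a]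
  have hY : Ψ pY = ψ (hm * sw02 * pB * (hm * sw02)⁻¹) := by
    rw [hΨ, map_mul ψ (hm * sw02 * pB) _, map_mul ψ (hm * sw02) pB, map_inv, F.psi_a]
    simp only [MonoidHom.comp_apply, MulEquiv.coe_toMonoidHom, MulAut.conj_apply, F.psi_y, F.g_y]
  have h1 : Ψ (px 1) = ψ (tvS 48 * tvS 50) := by
    rw [show px 1 = pY ^ 2 * pB ^ 2 from codeS_injective (by decide +kernel), map_mul, map_pow, map_pow,
      hY, hB, ← map_pow, ← map_pow, ← map_mul]
    exact congrArg ψ (codeS_injective (by decide +kernel))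
  have h2 : Ψ (px 2) = w⁻¹ := by
    rw [show px 2 = pY ^ 2 * (pB ^ 2)⁻¹ from codeS_injective (by decide +kernel), map_mul, map_inv, map_pow,
      map_pow, hY, hB, ← map_pow, ← map_pow, ← map_inv, ← map_mul, ← F.psi_w, ← map_inv]
    exact congrArg ψ (codeS_injective (by decide +kernel))
  have hC0 := hC.inn sw01
  set Φ0 := Ψ.comp (MulAut.conj sw01).toMonoidHom with hΦ0
  have a0 : Φ0 (px 0) = ψ (tvS 48 * tvS 50) := by
    rw [hΦ0, MonoidHom.comp_apply, MulEquiv.coe_toMonoidHom, MulAut.conj_apply,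
      show sw01 * px 0 * sw01⁻¹ = px 1 from codeS_injective (by decide +kernel), h1]
  have a1 : Φ0 (px 1) = b := by
    rw [hΦ0, MonoidHom.comp_apply, MulEquiv.coe_toMonoidHom, MulAut.conj_apply,
      show sw01 * px 1 * sw01⁻¹ = px 0 from codeS_injective (by decide +kernel), h0]
  have a2 : Φ0 (px 2) = w⁻¹ := by
    rw [hΦ0, MonoidHom.comp_apply, MulEquiv.coe_toMonoidHom, MulAut.conj_apply,
      show sw01 * px 2 * sw01⁻¹ = px 2 from codeS_injective (by decide +kernel), h2]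
  have psiC : ∀ {X : S}, X * X = 1 → Commute X sEl → ∃ X', ψ X = Φ0 X' ∧ X' * X' = 1 := fun hX hc =>
    hC0.invol (hc.map ψ) (by rw [← map_mul, hX, map_one])
  have inner : ∀ {k : Fin 3} {j : ℕ} {l : Fin 3},
      ((Φ0.comp (MulAut.conj (px k ^ j)).toMonoidHom) (px l) = Φ0 (px l)) := fun {k j l} => by
    rw [MonoidHom.comp_apply, MulEquiv.coe_toMonoidHom, MulAut.conj_apply,
      (((commC_iff _ _).1 (px_comm k l)).pow_left j).eq, mul_inv_cancel_right]
  -- the first plane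
  obtain ⟨X1, e1, q1⟩ := psiC (X := tvS 48) (codeS_injective (by decide +kernel))
    ((commC_iff _ _).1 (by decide +kernel))
  obtain ⟨j0, hj0⟩ := cand_t0 X1 q1 (hC0.inj (by
      rw [map_mul, map_mul, map_inv, map_inv, ← e1, a0, ← map_inv, ← map_inv, ← map_mul, ← map_mul]
      exact congrArg ψ (codeS_injective (by decide +kernel))))
    (hC0.commute_iff.1 (by rw [← e1, a1]; exact (F.hB.comm _).symm))
    (hC0.commute_iff.1 (by
      rw [← e1, a2, ← F.psi_w]
      exact (((commC_iff _ _).1 (by decide +kernel)).map ψ).inv_right))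
  have hC1 := hC0.inn (px 0 ^ j0)
  set Φ1 := Φ0.comp (MulAut.conj (px 0 ^ j0)).toMonoidHom with hΦ1
  have b0 : Φ1 (px 0) = ψ (tvS 48 * tvS 50) := inner.trans a0
  have b1 : Φ1 (px 1) = b := inner.trans a1
  have b2 : Φ1 (px 2) = w⁻¹ := inner.trans a2
  have c1 : Φ1 (tvS 1) = ψ (tvS 48) := by
    rw [hΦ1, MonoidHom.comp_apply, MulEquiv.coe_toMonoidHom, MulAut.conj_apply, ← hj0, e1]
  have c8 : Φ1 (tvS 8) = ψ (tvS 50) := by
    rw [show tvS 8 = tvS 1 * px 0 from codeS_injective (by decide +kernel), map_mul, c1, b0, ← map_mul]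
    exact congrArg ψ (codeS_injective (by decide +kernel))
  -- the second plane
  have hsw : Plane12 sw := plane12_of (by decide +kernel)
  have hnu : Plane12 nu := plane12_of (by decide +kernel)
  obtain ⟨X2, e2, q2⟩ := hC1.invol (F.D_sEl hsw)
    (show φ sw * φ sw = 1 by rw [← map_mul, show sw * sw = 1 from codeS_injective (by decide +kernel), map_one])
  obtain ⟨j1, hj1⟩ := cand_t1 X2 q2
    (hC1.commute_iff.1 (by rw [← e2, b0]; exact F.tB _))
    (hC1.inj (by
      rw [map_mul, map_mul, map_inv, map_inv, ← e2, b1, ← F.phi_b, ← map_inv, ← map_inv, ← map_mul, ← map_mul]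
      exact congrArg φ (codeS_injective (by decide +kernel))))
    (hC1.commute_iff.1 (by rw [← e2, b2, ← F.psi_w]; exact (F.tB _).inv_right))
  have hC2 := hC1.inn (px 1 ^ j1)
  set Φ2 := Φ1.comp (MulAut.conj (px 1 ^ j1)).toMonoidHom with hΦ2
  have inner2 : ∀ {Y : S}, Commute (px 1) Y → Φ2 Y = Φ1 Y := fun h => by
    rw [hΦ2, MonoidHom.comp_apply, MulEquiv.coe_toMonoidHom, MulAut.conj_apply, (h.pow_left j1).eq,
      mul_inv_cancel_right]
  have d1 : Φ2 (tvS 1) = ψ (tvS 48) := (inner2 ((commC_iff _ _).1 (by decide +kernel))).trans c1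
  have d8 : Φ2 (tvS 8) = ψ (tvS 50) := (inner2 ((commC_iff _ _).1 (by decide +kernel))).trans c8
  have f0 : Φ2 (px 0) = ψ (tvS 48 * tvS 50) := (inner2 ((commC_iff _ _).1 (px_comm 1 0))).trans b0
  have f1 : Φ2 (px 1) = b := (inner2 (Commute.refl _)).trans b1
  have f2 : Φ2 (px 2) = w⁻¹ := (inner2 ((commC_iff _ _).1 (px_comm 1 2))).trans b2
  have d2 : Φ2 (tvS 2) = φ sw := by
    rw [hΦ2, MonoidHom.comp_apply, MulEquiv.coe_toMonoidHom, MulAut.conj_apply, ← hj1, e2]
  -- the third plane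
  obtain ⟨X4, e4, q4⟩ := hC2.invol (F.D_sEl hnu)
    (show φ nu * φ nu = 1 by rw [← map_mul, show nu * nu = 1 from codeS_injective (by decide +kernel), map_one])
  obtain ⟨j2, hj2⟩ := cand_t2 X4 q4
    (hC2.commute_iff.1 (by
      rw [← e4, f0]
      exact F.DD_comm hnu (mul_mem dGen_tv48 dGen_tv50)))
    (hC2.commute_iff.1 (by rw [← e4, f1, ← F.psi_t0]; exact (F.hB.comm _).symm))
    (hC2.inj (by
      rw [map_mul, map_mul, map_inv, map_inv, ← e4, f2, ← F.psi_t0, ← F.psi_w, ← map_inv, ← map_inv,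
        ← map_inv, ← map_mul, ← map_mul]
      exact congrArg ψ (codeS_injective (by decide +kernel))))
  have hC3 := hC2.inn (px 2 ^ j2)
  set Φ3 := Φ2.comp (MulAut.conj (px 2 ^ j2)).toMonoidHom with hΦ3
  have inner3 : ∀ {Y : S}, Commute (px 2) Y → Φ3 Y = Φ2 Y := fun h => by
    rw [hΦ3, MonoidHom.comp_apply, MulEquiv.coe_toMonoidHom, MulAut.conj_apply, (h.pow_left j2).eq,
      mul_inv_cancel_right]
  have g2 : Φ3 (px 2) = w⁻¹ := (inner3 (Commute.refl _)).trans f2
  have g4 : Φ3 (tvS 4) = φ nu := by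
    rw [hΦ3, MonoidHom.comp_apply, MulEquiv.coe_toMonoidHom, MulAut.conj_apply, ← hj2, e4]
  refine ⟨Φ3, hC3, (inner3 ((commC_iff _ _).1 (px_comm 2 1))).trans f1, g2,
    (inner3 ((commC_iff _ _).1 (by decide +kernel))).trans d1,
    (inner3 ((commC_iff _ _).1 (by decide +kernel))).trans d8,
    (inner3 ((commC_iff _ _).1 (by decide +kernel))).trans d2, g4, ?_⟩
  rw [show tvS 32 = tvS 4 * px 2 from codeS_injective (by decide +kernel), map_mul, g4, g2, ← F.psi_t0,
    ← F.psi_w, ← map_inv, ← map_mul]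
  exact congrArg ψ (codeS_injective (by decide +kernel))

variable {Φ : S →* G}

/-- An involution of the plane stabiliser lies in the short coordinates. -/
theorem D_image (F : Fr a b y w g φ ψ) (C : ShortC b w φ ψ Φ) {X : S} (hX : Plane12 X) (h2 : X * X = 1) :
    ∃ X', φ X = Φ X' ∧ X' * X' = 1 ∧ Commute X' (px 0) ∧ Commute X' (tvS 1) := by
  obtain ⟨X', e, q⟩ := C.hC.invol (F.D_sEl hX) (by rw [← map_mul, h2, map_one])
  have h1 : Commute X' (tvS 1) := C.hC.commute_iff.1 (by rw [← e, C.u1]; exact F.DD_comm hX dGen_tv48)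
  have h8 : Commute X' (tvS 8) := C.hC.commute_iff.1 (by rw [← e, C.u8]; exact F.DD_comm hX dGen_tv50)
  exact ⟨X', e, q, h1.mul_right h8, h1⟩

theorem img_T1 (F : Fr a b y w g φ ψ) (C : ShortC b w φ ψ Φ) : φ (px 1) = Φ T1 := by
  rw [T1, map_mul, map_inv, C.m1, C.m2, F.x1_eq]
  rw [← F.psi_w, ← mul_inv_rev]
  have hb : b ^ 2 = b⁻¹ := eq_inv_of_mul_eq_one_left (by rw [← pow_succ]; exact F.hB.cube)
  rw [hb, mul_inv_rev]
  have : ψ (px 0) ^ 2 = (ψ (px 0))⁻¹ := eq_inv_of_mul_eq_one_left (by rw [← pow_succ, ← map_pow, px_cube, map_one])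
  rw [this]
  exact ((F.hB.comm (px 0)).inv_left.inv_right).eq

theorem img_T2 (F : Fr a b y w g φ ψ) (C : ShortC b w φ ψ Φ) : φ (px 2) = Φ T2 := by
  rw [T2, map_mul, C.m1, C.m2, F.x2_eq]
  congr 1
  exact eq_inv_of_mul_eq_one_left (by rw [← pow_succ, ← F.psi_w, ← map_pow, px_cube, map_one])

theorem img_D (F : Fr a b y w g φ ψ) (C : ShortC b w φ ψ Φ) :
    φ (tvS 2) = Φ (sh 6 48) ∧ φ (tvS 16) = Φ (sh 20 38) ∧ φ (tvS 4) = Φ (sh 6 50) ∧
      φ (tvS 32) = Φ (sh 22 38) ∧ φ (sh 4 16) = Φ (tvS 50) ∧ φ (sh 2 32) = Φ (tvS 48) ∧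
      φ (sh 2 4) = Φ (tvS 6) ∧ φ f12 = Φ (sh 6 48 * sh 20 38 * sh 6 48 * (sh 6 50 * sh 22 38 * sh 6 50)) := by
  have sq : ∀ X ∈ ([tvS 2, tvS 4, sh 4 16] : List S), codeS (X * X) = oneC ∧
      (commC (codeS X) 34630549633 && commC (codeS X) 34630287497) = true := by decide +kernel
  have get : ∀ {X : S}, X ∈ ([tvS 2, tvS 4, sh 4 16] : List S) →
      ∃ X', φ X = Φ X' ∧ X' * X' = 1 ∧ Commute X' (px 0) ∧ Commute X' (tvS 1) := fun hX =>
    F.D_image C (plane12_of (sq _ hX).2) (codeS_injective ((sq _ hX).1.trans codeS_one.symm))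
  have comm : ∀ {X Y X' Y' : S}, φ X = Φ X' → φ Y = Φ Y' → commC (codeS X) (codeS Y) = true →
      Commute X' Y' := fun ex ey h => C.hC.commute_iff.1 (ex ▸ ey ▸ ((commC_iff _ _).1 h).map φ)
  obtain ⟨A, eA, qA', hA0, hA1⟩ := get (X := tvS 2) (by simp)
  have hA : A = sh 6 48 := by
    refine rig2 A qA' hA0 hA1 (comm eA (F.img_T2 C) (by decide +kernel)) (C.hC.inj ?_) (C.hC.inj ?_)
    · rw [map_mul, map_mul, map_inv, map_inv, ← eA, ← F.img_T1 C, ← map_inv, ← map_inv, ← map_mul, ← map_mul]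
      exact congrArg φ (codeS_injective (by decide +kernel))
    · rw [map_pow, map_mul, map_mul, ← eA, C.u2, C.u4, ← map_mul, ← map_mul, ← map_pow, map_one, ← map_one φ]
      exact congrArg φ (codeS_injective (by decide +kernel))
  subst hA
  have e16 : φ (tvS 16) = Φ (sh 20 38) := by
    rw [show tvS 16 = tvS 2 * px 1 from codeS_injective (by decide +kernel), map_mul, eA, F.img_T1 C, ← map_mul]
    exact congrArg Φ (codeS_injective (by decide +kernel))
  obtain ⟨B, eB, qB', hB0, hB1⟩ := get (X := tvS 4) (by simp)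
  have hB : B = sh 6 50 := by
    refine rig4 B qB' hB0 hB1 (comm eB (F.img_T1 C) (by decide +kernel)) (C.hC.inj ?_)
      (comm eB eA (by decide +kernel)) (C.hC.inj ?_)
    · rw [map_mul, map_mul, map_inv, map_inv, ← eB, ← F.img_T2 C, ← map_inv, ← map_inv, ← map_mul, ← map_mul]
      exact congrArg φ (codeS_injective (by decide +kernel))
    · rw [map_pow, map_mul, map_mul, ← eB, C.u2, C.u4, ← map_mul, ← map_mul, ← map_pow, map_one, ← map_one φ]
      exact congrArg φ (codeS_injective (by decide +kernel))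
  subst hB
  have e32 : φ (tvS 32) = Φ (sh 22 38) := by
    rw [show tvS 32 = tvS 4 * px 2 from codeS_injective (by decide +kernel), map_mul, eB, F.img_T2 C, ← map_mul]
    exact congrArg Φ (codeS_injective (by decide +kernel))
  obtain ⟨X, eX, qX, hX0, hX1⟩ := get (X := sh 4 16) (by simp)
  have hX : X = tvS 50 := by
    refine rig416 X qX hX0 hX1 (comm eX e16 (by decide +kernel)) (comm eX eB (by decide +kernel))
      (C.hC.inj ?_)
    rw [map_pow, map_mul, ← eX, C.u2, ← map_mul, ← map_pow, map_one, ← map_one φ]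
    exact congrArg φ (codeS_injective (by decide +kernel))
  subst hX
  have ef : φ f12 = Φ (sh 6 48 * sh 20 38 * sh 6 48 * (sh 6 50 * sh 22 38 * sh 6 50)) := by
    rw [show f12 = tvS 2 * tvS 16 * tvS 2 * (tvS 4 * tvS 32 * tvS 4) from codeS_injective (by decide +kernel)]
    simp only [map_mul, eA, eB, e16, e32]
  refine ⟨eA, e16, eB, e32, eX, ?_, ?_, ef⟩
  · rw [show sh 2 32 = f12 * sh 4 16 * f12 from codeS_injective (by decide +kernel), map_mul, map_mul, ef, eX,
      ← map_mul, ← map_mul]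
    exact congrArg Φ (codeS_injective (by decide +kernel))
  · rw [show sh 2 4 = tvS 2 * tvS 16 * tvS 2 * sh 4 16 * (tvS 2 * tvS 16 * tvS 2) from
      codeS_injective (by decide +kernel)]
    simp only [map_mul, eA, e16, eX]
    simp only [← map_mul]
    exact congrArg Φ (codeS_injective (by decide +kernel))

/-- The element outside both plane stabilisers. -/
theorem img_xi (F : Fr a b y w g φ ψ) (C : ShortC b w φ ψ Φ) : ψ (sh 48 9) = Φ (sh 1 32) := by
  obtain ⟨X, e, q⟩ := C.hC.invol (c := ψ (sh 48 9)) (((commC_iff _ _).1 (by decide +kernel)).map ψ)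
    (by rw [← map_mul, show sh 48 9 * sh 48 9 = 1 from codeS_injective (by decide +kernel), map_one])
  have h8 : ∀ {P Y : S}, Φ Y = ψ P → ((codeS ((sh 48 9 * P) ^ 4) == oneC) && !(codeS ((sh 48 9 * P) ^ 2) == oneC)) = true →
      (X * Y) ^ 4 = 1 ∧ (X * Y) ^ 2 ≠ 1 := by
    intro P Y eY h
    simp only [Bool.and_eq_true, beq_iff_eq, Bool.not_eq_true', beq_eq_false_iff_ne] at h
    have key : ∀ n : ℕ, Φ ((X * Y) ^ n) = ψ ((sh 48 9 * P) ^ n) := fun n => by
      rw [map_pow, map_pow, map_mul, map_mul, ← e, eY]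
    refine ⟨C.hC.inj ?_, fun hh => h.2 ?_⟩
    · rw [key, codeS_injective (h.1.trans codeS_one.symm), map_one, map_one]
    · have := congrArg Φ hh
      rw [key, map_one, ← map_one ψ] at this
      rw [F.hB.inj this, codeS_one]
  rw [e, rigXi X q (C.hC.commute_iff.1 (by rw [← e, C.m1]; exact (F.hB.comm _).symm))
    (C.hC.commute_iff.1 (by rw [← e, C.u1]; exact ((commC_iff _ _).1 (by decide +kernel)).map ψ))
    (C.hC.commute_iff.1 (by rw [← e, C.u32]; exact ((commC_iff _ _).1 (by decide +kernel)).map ψ))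
    (h8 C.u8 (by decide +kernel)) (h8 (C.u4.trans F.psi_t0.symm) (by decide +kernel))]

/-- The gluing element. -/
theorem img_x (F : Fr a b y w g φ ψ) (C : ShortC b w φ ψ Φ) :
    Φ (sh 1 38) = φ (sh 2 4) * ψ (sh 48 9) * φ (sh 2 4) := by
  rw [(F.img_D C).2.2.2.2.2.2.1, F.img_xi C, ← map_mul, ← map_mul]
  exact congrArg Φ (codeS_injective (by decide +kernel))

/-- The fixed points of `b` in the residual are products of quaternion elements. -/
theorem b_mem_R (F : Fr a b y w g φ ψ) {X : S} (hs : Commute X sw) (hW : ∀ r ∈ W0L, Commute X r)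
    (hT : Two8 X) : ψ X ∈ resR φ ψ := by
  obtain ⟨s, hs', r, hr, m, hm, hp⟩ := cRb X hs hW hT
  have hsR : ψ s ∈ resR φ ψ := by
    simp only [List.mem_cons, List.not_mem_nil, or_false] at hs'
    rcases hs' with rfl | rfl
    · rw [map_one]; exact one_mem _
    · exact F.zGen_sub_R (Or.inl rfl)
  have hrR : ψ r ∈ resR φ ψ := F.zGen_sub_R (Or.inr ⟨0, F.W0_eq.2 ⟨r, hr, rfl⟩⟩)
  have := mul_mem (mul_mem (inv_mem (mul_mem hsR hrR)) (F.Q_R (Or.inl rfl) hp)) (inv_mem (F.Q_R (Or.inr rfl) hm))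
  rwa [map_mul, map_mul, map_mul, ← mul_assoc, ← mul_assoc, inv_mul_cancel, one_mul, mul_inv_cancel_right] at this

theorem xi_R (F : Fr a b y w g φ ψ) : ψ (sh 48 9) ∈ resR φ ψ :=
  F.b_mem_R ((commC_iff _ _).1 (by decide +kernel))
    (w0C_sound (by decide +kernel))
    ⟨codeS_injective (by decide +kernel), codeS_injective (by decide +kernel)⟩

theorem x_R (F : Fr a b y w g φ ψ) (C : ShortC b w φ ψ Φ) : Φ (sh 1 38) ∈ resR φ ψ := by
  rw [F.img_x C]
  have hn := F.plane_norm_R (X := sh 2 4) (plane12_of (by decide +kernel))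
  have hi : (φ (sh 2 4))⁻¹ = φ (sh 2 4) := inv_eq_of_mul_eq_one_left (by
    rw [← map_mul, show sh 2 4 * sh 2 4 = 1 from codeS_injective (by decide +kernel), map_one])
  have := (mem_normalizer_iff.1 hn _).1 F.xi_R
  rwa [hi] at this

end Fr

end Cfsg.Agent.FFourLocal.Glue3
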