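import Cfsg.Agent.Lib.FFourLocal.Glue3.Quads

/-!
# The gluing element commutes with the moved root elements
-/

set_option autoImplicit false
set_option maxRecDepth 100000

namespace Cfsg.Agent.FFourLocal.Glue3

open Subgroup Cfsg.Agent.SpThreeCent.SixEnd

universe u

theorem Qp_fix_code : ∀ N ∈ ([mulC 17718913281 34630549633, mulC 17718913281 34630287497,
      mulC 17718913281 34628452488] : List ℕ),
    ∀ c ∈ ([34630287489, 17718845697, 32998907079, 49910332743, 25366879985,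
      42278305649, 34078445239, 50989870903] : List ℕ),
    ∀ d ∈ ([34630287489, 17718845697, 32998907079, 49910332743, 25366879985,
      42278305649, 34078445239, 50989870903] : List ℕ),
    ([oneC, 17718845697].contains (mulC (powC c 3) (mulC (mulC N c) N)) &&
      [oneC, 17718845697].contains (mulC (powC d 3) (mulC (mulC N d) N))) = true →
    ([oneC, 17718845697].contains c || [oneC, 17718845697].contains d ||
      [c, mulC c 17718845697].contains d) = true := by decide +kernel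

theorem n_moves : ∀ i : Fin 4,
    (moveC (tvS 8) i (![1, 0, 3, 2] i) && moveC (tvS 16) i (![3, 2, 1, 0] i) &&
      moveC (tvS 32) i (![2, 3, 0, 1] i)) = true := by decide +kernel

theorem sigma_moves : ∀ i : Fin 4, ∃ j : Fin 4, moveC sw01 i j = true := by decide +kernel

/-- The product with the conjugates under `e` and its inverse. -/
def tri3 {G : Type u} [Group G] (e r : G) : G := r * (e * r * e⁻¹) * (e⁻¹ * r * e)

theorem tri3_conj {G : Type u} [Group G] (p e r : G) :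
    p * tri3 e r * p⁻¹ = tri3 (p * e * p⁻¹) (p * r * p⁻¹) := by
  simp only [tri3]; group

theorem tri3_mul {G : Type u} [Group G] {e A B : G} (h1 : Commute (e * A * e⁻¹) B)
    (h2 : Commute (e⁻¹ * A * e) B) (h3 : Commute (e⁻¹ * A * e) (e * B * e⁻¹)) :
    tri3 e (A * B) = tri3 e A * tri3 e B := by
  simp only [tri3]
  calc A * B * (e * (A * B) * e⁻¹) * (e⁻¹ * (A * B) * e)
      = A * (B * (e * A * e⁻¹)) * ((e * B * e⁻¹) * (e⁻¹ * A * e)) * (e⁻¹ * B * e) := by group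
    _ = A * (e * A * e⁻¹) * (B * (e⁻¹ * A * e)) * (e * B * e⁻¹) * (e⁻¹ * B * e) := by
      rw [← h1.eq, ← h3.eq]; group
    _ = _ := by rw [← h2.eq]; group

namespace Fr

variable {G : Type u} [Group G] {a b y w g : G} {φ ψ : S →* G}

theorem conj_psi (F : Fr a b y w g φ ψ) (i : ℤ) (Y X : S) :
    (b ^ i * ψ Y) * ψ X * (b ^ i * ψ Y)⁻¹ = ψ (Y * X * Y⁻¹) := by
  rw [map_mul, map_mul, map_inv, show b ^ i * ψ Y * ψ X * (b ^ i * ψ Y)⁻¹ =
    b ^ i * (ψ Y * ψ X * (ψ Y)⁻¹) * (b ^ i)⁻¹ by group,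
    ((((F.hB.comm Y).zpow_left i).mul_right ((F.hB.comm X).zpow_left i)).mul_right
      ((F.hB.comm Y).zpow_left i).inv_right).eq, mul_inv_cancel_right]

theorem w_eq (F : Fr a b y w g φ ψ) : w ^ 2 = ψ (px 0 ^ 2) := by rw [map_pow, F.psi_w]

theorem x_as_psi (F : Fr a b y w g φ ψ) {k : Fin 3} (hk : k ≠ 0) :
    ∃ i : ℤ, φ (px k) = b ^ i * ψ (px 0 ^ 2) := by
  fin_cases k
  · exact absurd rfl hk
  · exact ⟨2, by show φ (px 1) = _; rw [F.x1_eq, F.w_eq, zpow_two, pow_two b]⟩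
  · exact ⟨1, by show φ (px 2) = _; rw [F.x2_eq, F.w_eq, zpow_one, ← (F.hB.comm _).eq]⟩

theorem tri_low (F : Fr a b y w g φ ψ) {p X : S} (hp : p = pP ∨ p = pM) (hX : IsQ p X) {k : Fin 3}
    (hk : k ≠ 0) {e : G} (he : e = φ (px k) ∨ e = (φ (px k))⁻¹) :
    tri3 e (ψ X) = 1 ∨ tri3 e (ψ X) = ψ sw := by
  obtain ⟨i, hi⟩ := F.x_as_psi hk
  have h3 := px_cube 0
  have e2 : px 0 ^ 2 = (px 0 : S)⁻¹ := eq_inv_of_mul_eq_one_left (by rw [← pow_succ]; exact h3)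
  have key : ∃ E : S, (E = px 0 ∨ E = (px 0)⁻¹) ∧ tri3 e (ψ X) = ψ (X * (E * X * E⁻¹) * (E⁻¹ * X * E)) := by
    have c1 := F.conj_psi i (px 0)⁻¹ X
    have c2 : (b ^ i * ψ (px 0)⁻¹)⁻¹ * ψ X * (b ^ i * ψ (px 0)⁻¹) = ψ ((px 0 : S)⁻¹⁻¹ * X * (px 0)⁻¹) := by
      have := F.conj_psi (-i) (px 0 : S)⁻¹⁻¹ X
      have hinv : (b ^ i * ψ (px 0)⁻¹)⁻¹ = b ^ (-i) * ψ (px 0 : S)⁻¹⁻¹ := by
        rw [map_inv ψ (px 0 : S)⁻¹, mul_inv_rev, zpow_neg]
        exact (((F.hB.comm _).zpow_left i).inv_left.inv_right).eq.symm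
      rw [← inv_inv (b ^ i * ψ (px 0)⁻¹)]
      rw [inv_inv ((b ^ i * ψ (px 0)⁻¹))⁻¹, hinv, this, inv_inv]
    rw [hi, e2] at he
    rcases he with rfl | rfl
    · refine ⟨(px 0)⁻¹, Or.inr rfl, ?_⟩
      simp only [tri3]
      rw [c1, c2, ← map_mul, ← map_mul]
    · refine ⟨px 0, Or.inl rfl, ?_⟩
      simp only [tri3]
      rw [inv_inv (b ^ i * ψ (px 0)⁻¹), c1, c2, ← map_mul, ← map_mul, inv_inv]
  obtain ⟨E, hE, e0⟩ := key
  rw [e0]
  rcases IsQ_tri hp hX hE with h | h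
  · exact Or.inl (by rw [h, map_one])
  · exact Or.inr (by rw [h])

theorem tri_Q (F : Fr a b y w g φ ψ) {i : Fin 4} {q : G} (hq : q ∈ Qd φ (ψ sw) i) {k : Fin 3} (hk : k ≠ 0) :
    tri3 (φ (px k)) q = 1 ∨ tri3 (φ (px k)) q = ψ sw := by
  have low : ∀ {i : Fin 4}, (i = 0 ∨ i = 1) → ∀ {q : G}, q ∈ Qd φ (ψ sw) i → ∀ {e : G},
      (e = φ (px k) ∨ e = (φ (px k))⁻¹) → tri3 e q = 1 ∨ tri3 e q = ψ sw := by
    rintro i (rfl | rfl) q hq e he
    · obtain ⟨X, hX, rfl⟩ := F.Q0_iff.1 hq; exact F.tri_low (Or.inl rfl) hX hk he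
    · obtain ⟨X, hX, rfl⟩ := F.Q1_iff.1 hq; exact F.tri_low (Or.inr rfl) hX hk he
  by_cases h : i = 0 ∨ i = 1
  · exact low h hq (Or.inl rfl)
  · have hm := move_tau i
    rw [Bool.and_eq_true] at hm
    have hl : (![2, 3, 0, 1] : Fin 4 → Fin 4) i = 0 ∨ (![2, 3, 0, 1] : Fin 4 → Fin 4) i = 1 :=
      (show ∀ i : Fin 4, ¬ (i = 0 ∨ i = 1) → (![2, 3, 0, 1] : Fin 4 → Fin 4) i = 0 ∨
        (![2, 3, 0, 1] : Fin 4 → Fin 4) i = 1 by decide) i h
    have he : φ (tvS 4) * φ (px k) * (φ (tvS 4))⁻¹ = φ (px k) ∨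
        φ (tvS 4) * φ (px k) * (φ (tvS 4))⁻¹ = (φ (px k))⁻¹ := by
      rw [← map_inv, ← map_inv, ← map_mul, ← map_mul]
      exact ((perm_flip (show tvS 4 ∈ _ by simp)).2 k).imp (congrArg φ) (congrArg φ)
    have ht : φ (tvS 4) * ψ sw * (φ (tvS 4))⁻¹ = ψ sw := by rw [(F.tA _).symm.eq, mul_inv_cancel_right]
    have := low hl (F.Q_move hm.1 hq) he
    rw [← tri3_conj] at this
    rcases this with e | e
    · exact Or.inl (conj_eq_one_iff.1 e)
    · right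
      conv_rhs at e => rw [← ht]
      simpa using e

theorem conj_Q (F : Fr a b y w g φ ψ) {i : Fin 4} {q : G} (hq : q ∈ Qd φ (ψ sw) i) (k : Fin 3) :
    φ (px k) * q * (φ (px k))⁻¹ ∈ Qd φ (ψ sw) i ∧ (φ (px k))⁻¹ * q * φ (px k) ∈ Qd φ (ψ sw) i := by
  have h := move_self k i
  rw [Bool.and_eq_true] at h
  refine ⟨F.Q_move h.1 hq, ?_⟩
  have := F.Q_move h.2 hq
  rwa [map_inv, inv_inv] at this

theorem tri_R0 (F : Fr a b y w g φ ψ) {s : G} (hs : s ∈ grpR0 φ (ψ sw)) {k : Fin 3} (hk : k ≠ 0) :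
    tri3 (φ (px k)) s = 1 ∨ tri3 (φ (px k)) s = ψ sw := by
  obtain ⟨q, hq, rfl⟩ := F.R0_split hs
  set e := φ (px k) with he
  have two : ∀ {x z : G}, (x = 1 ∨ x = ψ sw) → (z = 1 ∨ z = ψ sw) → (x * z = 1 ∨ x * z = ψ sw) := by
    rintro x z (rfl | rfl) (rfl | rfl)
    exacts [Or.inl (one_mul 1), Or.inr (one_mul _), Or.inr (mul_one _), Or.inl F.t_sq]
  have ca : ∀ {i j : Fin 4}, i ≠ j → ∀ {x z : G}, x ∈ Qd φ (ψ sw) i → z ∈ Qd φ (ψ sw) j → Commute x z :=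
    fun h _ _ hx hz => F.Q_comm h hx hz
  have c1 := fun i => (F.conj_Q (hq i) k).1
  have c2 := fun i => (F.conj_Q (hq i) k).2
  have e01 : tri3 e (q 0 * q 1) = tri3 e (q 0) * tri3 e (q 1) :=
    tri3_mul (ca (by decide) (c1 0) (hq 1)) (ca (by decide) (c2 0) (hq 1)) (ca (by decide) (c2 0) (c1 1))
  have m1 : ∀ {A B : G}, e * (A * B) * e⁻¹ = (e * A * e⁻¹) * (e * B * e⁻¹) := fun {A B} => by group
  have m2 : ∀ {A B : G}, e⁻¹ * (A * B) * e = (e⁻¹ * A * e) * (e⁻¹ * B * e) := fun {A B} => by group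
  have e012 : tri3 e (q 0 * q 1 * q 2) = tri3 e (q 0 * q 1) * tri3 e (q 2) := by
    refine tri3_mul ?_ ?_ ?_ <;> simp only [m1, m2]
    · exact (ca (by decide) (c1 0) (hq 2)).mul_left (ca (by decide) (c1 1) (hq 2))
    · exact (ca (by decide) (c2 0) (hq 2)).mul_left (ca (by decide) (c2 1) (hq 2))
    · exact (ca (by decide) (c2 0) (c1 2)).mul_left (ca (by decide) (c2 1) (c1 2))
  have e0123 : tri3 e (q 0 * q 1 * q 2 * q 3) = tri3 e (q 0 * q 1 * q 2) * tri3 e (q 3) := by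
    refine tri3_mul ?_ ?_ ?_ <;> simp only [m1, m2]
    · exact ((ca (by decide) (c1 0) (hq 3)).mul_left (ca (by decide) (c1 1) (hq 3))).mul_left
        (ca (by decide) (c1 2) (hq 3))
    · exact ((ca (by decide) (c2 0) (hq 3)).mul_left (ca (by decide) (c2 1) (hq 3))).mul_left
        (ca (by decide) (c2 2) (hq 3))
    · exact ((ca (by decide) (c2 0) (c1 3)).mul_left (ca (by decide) (c2 1) (c1 3))).mul_left
        (ca (by decide) (c2 2) (c1 3))
  rw [e0123, e012, e01]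
  exact two (two (two (F.tri_Q (hq 0) hk) (F.tri_Q (hq 1) hk)) (F.tri_Q (hq 2) hk)) (F.tri_Q (hq 3) hk)

theorem W_mul (F : Fr a b y w g φ ψ) {k : Fin 3} {r s : G} (hr : r ∈ W φ (ψ sw) k) (hs : s ∈ W φ (ψ sw) k) :
    r * s ∈ W φ (ψ sw) k := by
  have hc : ∀ {v : G}, v ∈ W φ (ψ sw) k → φ (px k) * v * (φ (px k))⁻¹ ∈ W φ (ψ sw) k :=
    fun hv => F.W_perm (perm_px k) hv
  have hc2 : ∀ {v : G}, v ∈ W φ (ψ sw) k → φ (px k) ^ 2 * v * (φ (px k) ^ 2)⁻¹ ∈ W φ (ψ sw) k := fun {v} hv => by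
    have := hc (hc hv)
    rwa [show φ (px k) * (φ (px k) * v * (φ (px k))⁻¹) * (φ (px k))⁻¹ =
      φ (px k) ^ 2 * v * (φ (px k) ^ 2)⁻¹ by rw [pow_two]; group] at this
  refine ⟨?_, hr.2.1.mul_left hs.2.1, hr.2.2.1.mul_left hs.2.2.1, hr.2.2.2.1.mul_left hs.2.2.2.1, ?_, ?_⟩
  · rw [show r * s * (r * s) = r * (s * r) * s by group, ← (F.W_comm hr hs).eq,
      show r * (r * s) * s = (r * r) * (s * s) by group, hr.1, hs.1, one_mul]
  · rw [← conj_mul]
    exact ((F.W_comm hr (hc hr)).mul_right (F.W_comm hr (hc hs))).mul_left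
      ((F.W_comm hs (hc hr)).mul_right (F.W_comm hs (hc hs)))
  · rw [← conj_mul, ← conj_mul]
    calc r * s * ((φ (px k) * r * (φ (px k))⁻¹) * (φ (px k) * s * (φ (px k))⁻¹)) *
          ((φ (px k) ^ 2 * r * (φ (px k) ^ 2)⁻¹) * (φ (px k) ^ 2 * s * (φ (px k) ^ 2)⁻¹))
        = r * (s * (φ (px k) * r * (φ (px k))⁻¹)) * ((φ (px k) * s * (φ (px k))⁻¹) *
            (φ (px k) ^ 2 * r * (φ (px k) ^ 2)⁻¹)) * (φ (px k) ^ 2 * s * (φ (px k) ^ 2)⁻¹) := by group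
      _ = r * (φ (px k) * r * (φ (px k))⁻¹) * (s * (φ (px k) ^ 2 * r * (φ (px k) ^ 2)⁻¹)) *
            (φ (px k) * s * (φ (px k))⁻¹) * (φ (px k) ^ 2 * s * (φ (px k) ^ 2)⁻¹) := by
        rw [(F.W_comm hs (hc hr)).eq, (F.W_comm (hc hs) (hc2 hr)).eq]; group
      _ = (r * (φ (px k) * r * (φ (px k))⁻¹) * (φ (px k) ^ 2 * r * (φ (px k) ^ 2)⁻¹)) *
            (s * (φ (px k) * s * (φ (px k))⁻¹) * (φ (px k) ^ 2 * s * (φ (px k) ^ 2)⁻¹)) := by
        rw [(F.W_comm hs (hc2 hr)).eq]; group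
      _ = 1 := by rw [hr.2.2.2.2.2, hs.2.2.2.2.2, one_mul]

theorem W_one (_F : Fr a b y w g φ ψ) (k : Fin 3) : (1 : G) ∈ W φ (ψ sw) k :=
  ⟨one_mul 1, Commute.one_left _, Commute.one_left _, Commute.one_left _, Commute.one_left _, by simp⟩

theorem zGen_comm (F : Fr a b y w g φ ψ) {x z : G} (hx : x ∈ zGen φ ψ) (hz : z ∈ zGen φ ψ) :
    Commute x z := by
  rcases hz with rfl | ⟨k, hk⟩
  exacts [(F.mem_R.1 (F.zGen_sub_R hx)).1, (F.mem_R.1 (F.zGen_sub_R hx)).2 k _ hk]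

/-- The centre as a product of four parts. -/
theorem Z4_split (F : Fr a b y w g φ ψ) {z : G} (hz : z ∈ closure (zGen φ ψ)) :
    ∃ τ r0 r1 r2, (τ = 1 ∨ τ = ψ sw) ∧ r0 ∈ W φ (ψ sw) 0 ∧ r1 ∈ W φ (ψ sw) 1 ∧ r2 ∈ W φ (ψ sw) 2 ∧
      z = τ * r0 * r1 * r2 := by
  induction hz using Subgroup.closure_induction with
  | mem x hx =>
    rcases hx with rfl | ⟨k, hk⟩
    · exact ⟨_, 1, 1, 1, Or.inr rfl, F.W_one 0, F.W_one 1, F.W_one 2, by simp⟩
    · fin_cases k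
      · exact ⟨1, x, 1, 1, Or.inl rfl, hk, F.W_one 1, F.W_one 2, by simp⟩
      · exact ⟨1, 1, x, 1, Or.inl rfl, F.W_one 0, hk, F.W_one 2, by simp⟩
      · exact ⟨1, 1, 1, x, Or.inl rfl, F.W_one 0, F.W_one 1, hk, by simp⟩
  | one => exact ⟨1, 1, 1, 1, Or.inl rfl, F.W_one 0, F.W_one 1, F.W_one 2, by simp⟩
  | mul x z _ _ hx hz =>
    obtain ⟨τ, r0, r1, r2, hτ, h0, h1, h2, rfl⟩ := hx
    obtain ⟨τ', s0, s1, s2, hτ', g0, g1, g2, rfl⟩ := hz
    refine ⟨τ * τ', r0 * s0, r1 * s1, r2 * s2, ?_, F.W_mul h0 g0, F.W_mul h1 g1, F.W_mul h2 g2, ?_⟩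
    · rcases hτ with rfl | rfl <;> rcases hτ' with rfl | rfl
      exacts [Or.inl (one_mul 1), Or.inr (one_mul _), Or.inr (mul_one _), Or.inl F.t_sq]
    · have ct : ∀ {r : G} {k : Fin 3}, r ∈ W φ (ψ sw) k → r * τ' = τ' * r := fun {r k} hr => by
        rcases hτ' with rfl | rfl
        · rw [one_mul, mul_one]
        · exact (F.W_t hr).eq
      calc τ * r0 * r1 * r2 * (τ' * s0 * s1 * s2) = τ * r0 * r1 * (r2 * τ') * s0 * s1 * s2 := by group
        _ = τ * r0 * (r1 * τ') * (r2 * s0) * s1 * s2 := by rw [ct h2]; group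
        _ = τ * (r0 * τ') * (r1 * s0) * (r2 * s1) * s2 := by rw [ct h1, (F.W_comm h2 g0).eq]; group
        _ = τ * τ' * r0 * s0 * r1 * s1 * r2 * s2 := by
          rw [ct h0, (F.W_comm h1 g0).eq, (F.W_comm h2 g1).eq]; group
        _ = _ := by group
  | inv x hxm hx =>
    obtain ⟨τ, r0, r1, r2, hτ, h0, h1, h2, rfl⟩ := hx
    refine ⟨τ, r0, r1, r2, hτ, h0, h1, h2, inv_eq_of_mul_eq_one_left ?_⟩
    have ct : ∀ {r : G} {k : Fin 3}, r ∈ W φ (ψ sw) k → r * τ = τ * r := fun {r k} hr => by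
      rcases hτ with rfl | rfl
      · rw [one_mul, mul_one]
      · exact (F.W_t hr).eq
    have h22 : τ * τ = 1 := by rcases hτ with rfl | rfl; exacts [one_mul 1, F.t_sq]
    calc τ * r0 * r1 * r2 * (τ * r0 * r1 * r2) = τ * r0 * r1 * (r2 * τ) * r0 * r1 * r2 := by group
      _ = τ * r0 * (r1 * τ) * (r2 * r0) * r1 * r2 := by rw [ct h2]; group
      _ = τ * (r0 * τ) * (r1 * r0) * (r2 * r1) * r2 := by rw [ct h1, (F.W_comm h2 h0).eq]; group
      _ = τ * τ * (r0 * r0) * (r1 * r1) * (r2 * r2) := by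
        rw [ct h0, (F.W_comm h1 h0).eq, (F.W_comm h2 h1).eq]; group
      _ = 1 := by rw [h22, h0.1, h1.1, h2.1]; simp

variable [Finite G]

theorem in_R0 (F : Fr a b y w g φ ψ) {c : G} (hc : c ∈ resR φ ψ) (h1 : tri3 (φ (px 1)) c = 1)
    (h2 : tri3 (φ (px 2)) c = 1) : c ∈ grpR0 φ (ψ sw) := by
  obtain ⟨z, hz, s, hs, rfl⟩ := F.R_split hc
  obtain ⟨τ, r0, r1, r2, hτ, g0, g1, g2, ez⟩ := F.Z4_split hz
  have hzR : ∀ {z : G}, z ∈ closure (zGen φ ψ) → ∀ {s : G}, s ∈ resR φ ψ → Commute z s := by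
    intro z hz s hs
    have : closure (zGen φ ψ) ≤ centralizer ({s} : Set G) := (closure_le _).2 fun x hx => by
      refine mem_centralizer_singleton_iff.2 ?_
      exact (mem_centralizer_iff.1 hs x hx)
    exact mem_centralizer_singleton_iff.1 (this hz)
  have hτm : τ ∈ closure (zGen φ ψ) := by
    rcases hτ with rfl | rfl
    exacts [one_mem _, subset_closure (Or.inl rfl)]
  have hrm : ∀ {r : G} {k : Fin 3}, r ∈ W φ (ψ sw) k → r ∈ closure (zGen φ ψ) :=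
    fun hr => subset_closure (Or.inr ⟨_, hr⟩)
  have hτt : ∀ {e : G}, Commute e (ψ sw) → Commute e τ := fun {e} he => by
    rcases hτ with rfl | rfl
    exacts [Commute.one_right e, he]
  -- the trace of the centre part
  have trz : ∀ {k i j : Fin 3}, k ≠ 0 → (i ≠ k ∧ j ≠ k ∧ i ≠ j) → ∀ {ri rj rk : G},
      ri ∈ W φ (ψ sw) i → rj ∈ W φ (ψ sw) j → rk ∈ W φ (ψ sw) k →
      tri3 (φ (px k)) (τ * ri * rj * rk * s) = 1 → τ * ri * rj = 1 ∨ τ * ri * rj = ψ sw := by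
    intro k i j hk hne ri rj rk hi hj hkm he
    have fix : ∀ {l : Fin 3} {r : G}, l ≠ k → r ∈ W φ (ψ sw) l → Commute (φ (px k)) r := by
      intro l r hl hr
      rcases (show ∀ l k : Fin 3, l ≠ k → k = l + 1 ∨ k = l + 2 by decide) l k hl with rfl | rfl
      exacts [hr.2.2.1.symm, hr.2.2.2.1.symm]
    have hM : Commute (φ (px k)) (τ * ri * rj) :=
      ((hτt (F.tA (px k)).symm).mul_right (fix hne.1 hi)).mul_right (fix hne.2.1 hj)
    have hMz : τ * ri * rj ∈ closure (zGen φ ψ) := mul_mem (mul_mem hτm (hrm hi)) (hrm hj)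
    have hkk : φ (px k) * rk * (φ (px k))⁻¹ ∈ W φ (ψ sw) k := F.W_perm (perm_px k) hkm
    have hkk' : (φ (px k))⁻¹ * rk * φ (px k) ∈ closure (zGen φ ψ) := by
      have := F.perm_norm_Z (X := (px k)⁻¹) (π := id) (perm_of_code Function.injective_id
        ((show ∀ k j : Fin 3, permC (px k)⁻¹ id j = true by decide +kernel) k)) (hrm hkm)
      rwa [map_inv, inv_inv] at this
    have hsR := F.R0_le_res hs
    have hns : ∀ {q : G}, q ∈ resR φ ψ → φ (px k) * q * (φ (px k))⁻¹ ∈ resR φ ψ ∧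
        (φ (px k))⁻¹ * q * φ (px k) ∈ resR φ ψ := fun {q} hq => by
      have hn := F.perm_norm_R (perm_px k)
      refine ⟨(mem_normalizer_iff.1 hn q).1 hq, (mem_normalizer_iff.1 hn _).2 ?_⟩
      rwa [show φ (px k) * ((φ (px k))⁻¹ * q * φ (px k)) * (φ (px k))⁻¹ = q by group]
    have e1 : tri3 (φ (px k)) (τ * ri * rj * rk * s) =
        tri3 (φ (px k)) (τ * ri * rj * rk) * tri3 (φ (px k)) s := by
      refine tri3_mul (hzR ?_ hsR) (hzR ?_ hsR) (hzR ?_ (hns hsR).1)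
      · rw [show φ (px k) * (τ * ri * rj * rk) * (φ (px k))⁻¹ =
          (φ (px k) * (τ * ri * rj) * (φ (px k))⁻¹) * (φ (px k) * rk * (φ (px k))⁻¹) by group,
          hM.eq, mul_inv_cancel_right]
        exact mul_mem hMz (hrm hkk)
      all_goals
        rw [show (φ (px k))⁻¹ * (τ * ri * rj * rk) * φ (px k) =
          ((φ (px k))⁻¹ * ((τ * ri * rj) * φ (px k))) * ((φ (px k))⁻¹ * rk * φ (px k)) by group,
          ← hM.eq, ← mul_assoc (φ (px k))⁻¹, inv_mul_cancel, one_mul]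
        exact mul_mem hMz hkk'
    have hMR := F.Z_le_R hMz
    have e2 : tri3 (φ (px k)) (τ * ri * rj * rk) = tri3 (φ (px k)) (τ * ri * rj) * tri3 (φ (px k)) rk := by
      refine tri3_mul ?_ ?_ ?_
      · rw [hM.eq, mul_inv_cancel_right]; exact hzR hMz (F.Z_le_R (hrm hkm))
      all_goals rw [show (φ (px k))⁻¹ * (τ * ri * rj) * φ (px k) = τ * ri * rj by rw [mul_assoc, ← hM.eq, inv_mul_cancel_left]]
      · exact hzR hMz (F.Z_le_R (hrm hkm))
      · exact hzR hMz (F.Z_le_R (hrm hkk))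
    have e3 : tri3 (φ (px k)) rk = 1 := by
      have h3 : φ (px k) ^ 2 = (φ (px k))⁻¹ := eq_inv_of_mul_eq_one_left (by
        rw [← pow_succ, ← map_pow, px_cube, map_one])
      have := hkm.2.2.2.2.2
      rw [h3, inv_inv] at this
      exact this
    have e4 : tri3 (φ (px k)) (τ * ri * rj) = τ * ri * rj := by
      have hsq : (τ * ri * rj) * (τ * ri * rj) = 1 := by
        have hij : Commute ri rj := F.W_comm hi hj
        have hti : Commute τ ri := (hτt (F.W_t hi)).symm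
        have htj : Commute τ rj := (hτt (F.W_t hj)).symm
        have h22 : τ * τ = 1 := by rcases hτ with rfl | rfl; exacts [one_mul 1, F.t_sq]
        rw [show τ * ri * rj * (τ * ri * rj) = τ * ri * (rj * τ) * ri * rj by group, ← htj.eq,
          show τ * ri * (τ * rj) * ri * rj = τ * (ri * τ) * (rj * ri) * rj by group, ← hti.eq, ← hij.eq,
          show τ * (τ * ri) * (ri * rj) * rj = (τ * τ) * (ri * ri) * (rj * rj) by group, h22, hi.1, hj.1]
        simp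
      simp only [tri3]
      rw [hM.eq, mul_inv_cancel_right, mul_assoc (φ (px k))⁻¹, ← hM.eq, inv_mul_cancel_left, hsq, one_mul]
    rw [e1, e2, e3, e4, mul_one] at he
    rcases F.tri_R0 hs hk with h | h <;> rw [h] at he
    · exact Or.inl (by rwa [mul_one] at he)
    · exact Or.inr ((eq_inv_of_mul_eq_one_left he).trans (inv_eq_of_mul_eq_one_left F.t_sq))
  have rot : ∀ {i j : Fin 3} {ri rj : G}, ri ∈ W φ (ψ sw) i → rj ∈ W φ (ψ sw) j → ri * rj = rj * ri :=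
    fun hi hj => (F.W_comm hi hj).eq
  have p1 := trz (k := 1) (i := 0) (j := 2) (by decide) (by decide) g0 g2 g1 (by
    rw [show τ * r0 * r2 * r1 = τ * r0 * (r2 * r1) by group, rot g2 g1]
    rw [ez] at h1
    rwa [show τ * r0 * (r1 * r2) = τ * r0 * r1 * r2 by group])
  have p2 := trz (k := 2) (i := 0) (j := 1) (by decide) (by decide) g0 g1 g2 (by rw [ez] at h2; exact h2)
  have hτ2 : τ * τ = 1 := by rcases hτ with rfl | rfl; exacts [one_mul 1, F.t_sq]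
  have red : ∀ {ri rj : G}, (τ * ri * rj = 1 ∨ τ * ri * rj = ψ sw) → (ri * rj = 1 ∨ ri * rj = ψ sw) := by
    intro ri rj h
    have hi : τ⁻¹ = τ := inv_eq_of_mul_eq_one_left hτ2
    rcases h with h | h <;> rw [mul_assoc] at h <;> rw [eq_inv_mul_of_mul_eq h, hi] <;>
      rcases hτ with rfl | rfl <;> simp [F.t_sq]
  have zero : ∀ {rj : G} {j : Fin 3}, j ≠ 0 → rj ∈ W φ (ψ sw) j → (r0 * rj = 1 ∨ r0 * rj = ψ sw) →
      r0 = 1 ∧ rj = 1 := by
    intro rj j hj hrj h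
    have hyj : Commute y rj := F.phi_y ▸ (by
      rcases (show ∀ j : Fin 3, j ≠ 0 → (0 : Fin 3) = j + 1 ∨ (0 : Fin 3) = j + 2 by decide) j hj with e | e <;>
        rw [e]
      exacts [hrj.2.2.1.symm, hrj.2.2.2.1.symm])
    have hyr : Commute y (r0 * rj) := by
      rcases h with h | h <;> rw [h]
      exacts [Commute.one_right y, F.t_y.symm]
    have hy0 : Commute y r0 := by
      have := hyr.mul_right hyj.inv_right
      rwa [mul_inv_cancel_right] at this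
    have e0 : r0 = 1 := by
      by_contra hne
      exact F.W_moves g0 hne (F.phi_y.symm ▸ hy0)
    subst e0
    refine ⟨rfl, ?_⟩
    rw [one_mul] at h
    rcases h with h | h
    · exact h
    · by_contra hne
      exact F.W_moves hrj hne (h ▸ (F.tA _).symm)
  obtain ⟨e0, e2⟩ := zero (by decide) g2 (red p1)
  obtain ⟨-, e1⟩ := zero (by decide) g1 (red p2)
  subst e0 e1 e2
  refine mul_mem ?_ hs
  rw [ez, mul_one, mul_one, mul_one]
  rcases hτ with rfl | rfl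
  exacts [one_mem _, F.Q_le_R0 F.t_Q]

end Fr

end Cfsg.Agent.FFourLocal.Glue3
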